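import Mathlib
import Cfsg.Prelude.Def_LieTypeDatum

/-!
# Similarity groups of bilinear forms given by matrices

Congruence up to a scalar, and the transport of similarity groups along it.
-/

set_option autoImplicit false
set_option linter.all false

namespace CfsgLib.FormCl

open Matrix

variable {K : Type*} [Field K]
variable {κ ι μ : Type} [Fintype κ] [DecidableEq κ] [Fintype ι] [DecidableEq ι] [Fintype μ] [DecidableEq μ]

theorem congr_cancel (g : GL κ K) (X : Matrix κ κ K) :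
    (g⁻¹).1ᵀ * (g.1ᵀ * X * g.1) * (g⁻¹).1 = X := by
  have h1 : (g⁻¹).1ᵀ * g.1ᵀ = 1 := by
    rw [← Matrix.transpose_mul, ← Units.val_mul, mul_inv_cancel, Units.val_one, Matrix.transpose_one]
  have h2 : g.1 * (g⁻¹).1 = 1 := by rw [← Units.val_mul, mul_inv_cancel, Units.val_one]
  calc (g⁻¹).1ᵀ * (g.1ᵀ * X * g.1) * (g⁻¹).1 = ((g⁻¹).1ᵀ * g.1ᵀ) * X * (g.1 * (g⁻¹).1) := by
        simp only [Matrix.mul_assoc]
    _ = X := by rw [h1, h2, Matrix.one_mul, Matrix.mul_one]

theorem submatrix_smul' {a : Type} (c : K) (A : Matrix κ κ K) (e f : a → κ) :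
    (c • A).submatrix e f = c • A.submatrix e f := rfl

/-- `g` multiplies the form `M` by `c`. -/
def Mult (M : Matrix κ κ K) (g : GL κ K) (c : Kˣ) : Prop := g.1ᵀ * M * g.1 = (c : K) • M

theorem Mult.one (M : Matrix κ κ K) : Mult M 1 1 := by
  simp [Mult]

theorem Mult.mul {M : Matrix κ κ K} {g h : GL κ K} {c d : Kˣ} (hg : Mult M g c) (hh : Mult M h d) :
    Mult M (g * h) (c * d) := by
  unfold Mult at *
  rw [Units.val_mul, Matrix.transpose_mul, show h.1ᵀ * g.1ᵀ * M * (g.1 * h.1) =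
    h.1ᵀ * (g.1ᵀ * M * g.1) * h.1 by simp [Matrix.mul_assoc], hg, Matrix.mul_smul, Matrix.smul_mul,
    hh, smul_smul, Units.val_mul]

theorem Mult.inv {M : Matrix κ κ K} {g : GL κ K} {c : Kˣ} (hg : Mult M g c) : Mult M g⁻¹ c⁻¹ := by
  unfold Mult at *
  have h := congrArg (fun X => (g⁻¹).1ᵀ * X * (g⁻¹).1) hg
  simp only [Matrix.mul_smul, Matrix.smul_mul] at h
  rw [congr_cancel] at h
  conv_rhs => rw [h]
  rw [smul_smul, ← Units.val_mul, inv_mul_cancel, Units.val_one, one_smul]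

/-- The similarities of `M`. -/
def simGrp (M : Matrix κ κ K) : Subgroup (GL κ K) where
  carrier := {g | ∃ c, Mult M g c}
  mul_mem' := fun ⟨c, hc⟩ ⟨d, hd⟩ => ⟨c * d, hc.mul hd⟩
  one_mem' := ⟨1, Mult.one M⟩
  inv_mem' := fun ⟨c, hc⟩ => ⟨c⁻¹, hc.inv⟩

theorem mem_simGrp {M : Matrix κ κ K} {g : GL κ K} : g ∈ simGrp M ↔ ∃ c, Mult M g c := Iff.rfl

/-- The isometries of `M`. -/
def isoGrp (M : Matrix κ κ K) : Subgroup (GL κ K) where
  carrier := {g | g.1ᵀ * M * g.1 = M}
  mul_mem' := fun {g h} hg hh => by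
    have := Mult.mul (M := M) (g := g) (h := h) (c := 1) (d := 1) (by simpa [Mult] using hg)
      (by simpa [Mult] using hh)
    simpa [Mult] using this
  one_mem' := by simp
  inv_mem' := fun {g} hg => by
    have := Mult.inv (M := M) (g := g) (c := 1) (by simpa [Mult] using hg)
    simpa [Mult] using this

theorem mem_isoGrp {M : Matrix κ κ K} {g : GL κ K} : g ∈ isoGrp M ↔ g.1ᵀ * M * g.1 = M := Iff.rfl

theorem mult_one_iff {M : Matrix κ κ K} {g : GL κ K} : Mult M g 1 ↔ g ∈ isoGrp M := by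
  simp [Mult, mem_isoGrp]

/-- Scalar matrices. -/
def scl (c : Kˣ) : GL κ K := Units.map (Matrix.scalar κ : K →+* Matrix κ κ K).toMonoidHom c

theorem scl_val (c : Kˣ) : (scl (κ := κ) c).1 = (c : K) • (1 : Matrix κ κ K) := by
  show Matrix.scalar κ (c : K) = _
  rw [Matrix.scalar_apply, Matrix.smul_one_eq_diagonal]

theorem scl_mem (c : Kˣ) : scl c ∈ Cfsg.Geo.scalars κ K := ⟨c, rfl⟩

theorem mem_scalars' {g : GL κ K} : g ∈ Cfsg.Geo.scalars κ K ↔ ∃ c, g = scl c :=
  ⟨fun ⟨c, hc⟩ => ⟨c, hc.symm⟩, fun ⟨c, hc⟩ => hc ▸ scl_mem c⟩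

theorem scl_mul_val (c : Kˣ) (g : GL κ K) : (scl c * g).1 = (c : K) • g.1 := by
  rw [Units.val_mul, scl_val, Matrix.smul_mul, Matrix.one_mul]

theorem det_scl_mul (c : Kˣ) (g : GL κ K) : (scl c * g).1.det = (c : K) ^ Fintype.card κ * g.1.det := by
  rw [scl_mul_val, Matrix.det_smul]

theorem mult_scl (M : Matrix κ κ K) (c : Kˣ) : Mult M (scl c) (c ^ 2) := by
  unfold Mult
  rw [scl_val, Matrix.transpose_smul, Matrix.transpose_one, Matrix.smul_mul, Matrix.one_mul,
    Matrix.mul_smul, Matrix.mul_one, smul_smul, sq, Units.val_mul]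

theorem Mult.unique {M : Matrix κ κ K} (hd : M.det ≠ 0) [Nonempty κ] {g : GL κ K} {c d : Kˣ}
    (hc : Mult M g c) (hd' : Mult M g d) : c = d := by
  unfold Mult at *
  have h0 : M ≠ 0 := fun h => hd (by rw [h, Matrix.det_zero])
  rw [hc] at hd'
  exact Units.ext (smul_left_injective K h0 hd')

theorem Mult.det_sq {M : Matrix κ κ K} (hd : M.det ≠ 0) {g : GL κ K} {c : Kˣ} (hg : Mult M g c) :
    g.1.det ^ 2 = (c : K) ^ Fintype.card κ := by
  have h := congrArg Matrix.det hg
  rw [Matrix.det_mul, Matrix.det_mul, Matrix.det_transpose, Matrix.det_smul] at h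
  apply mul_right_cancel₀ hd
  linear_combination h

/-- Reindexing invertible matrices. -/
def reindexGL (e : κ ≃ ι) : GL κ K ≃* GL ι K :=
  Units.mapEquiv (Matrix.reindexAlgEquiv K K e).toRingEquiv.toMulEquiv

theorem reindexGL_val (e : κ ≃ ι) (g : GL κ K) : (reindexGL e g).1 = g.1.submatrix e.symm e.symm := rfl

/-- `N` is congruent to a multiple of `M`. -/
def Cong (M : Matrix κ κ K) (N : Matrix ι ι K) : Prop :=
  ∃ (e : κ ≃ ι) (P : GL κ K) (c : Kˣ), N.submatrix e e = (c : K) • (P.1ᵀ * M * P.1)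

theorem Cong.refl (M : Matrix κ κ K) : Cong M M := ⟨Equiv.refl κ, 1, 1, by simp⟩

theorem Cong.of_congr {M N : Matrix κ κ K} (P : GL κ K) (c : Kˣ)
    (h : N = (c : K) • (P.1ᵀ * M * P.1)) : Cong M N :=
  ⟨Equiv.refl κ, P, c, by simpa using h⟩

theorem Cong.of_submatrix (M : Matrix κ κ K) (e : ι ≃ κ) : Cong M (M.submatrix e e) := by
  refine ⟨e.symm, 1, 1, ?_⟩
  simp [Matrix.submatrix_submatrix]

theorem Cong.symm {M : Matrix κ κ K} {N : Matrix ι ι K} (h : Cong M N) : Cong N M := by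
  obtain ⟨e, P, c, h⟩ := h
  refine ⟨e.symm, reindexGL e P⁻¹, c⁻¹, ?_⟩
  rw [reindexGL_val]
  have h2 : N = ((c : K) • (P.1ᵀ * M * P.1)).submatrix e.symm e.symm := by
    rw [← h, Matrix.submatrix_submatrix]; simp
  rw [h2, Matrix.transpose_submatrix, Matrix.submatrix_mul_equiv, Matrix.submatrix_mul_equiv,
    Matrix.mul_smul, Matrix.smul_mul]
  rw [congr_cancel]
  ext i j
  simp

theorem Cong.trans {L : Matrix μ μ K} {M : Matrix κ κ K} {N : Matrix ι ι K} (h1 : Cong L M) (h2 : Cong M N) :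
    Cong L N := by
  obtain ⟨e, P, c, h⟩ := h1
  obtain ⟨e', P', c', h'⟩ := h2
  refine ⟨e.trans e', P * reindexGL e.symm P', c' * c, ?_⟩
  have : N.submatrix (e.trans e') (e.trans e') = (N.submatrix e' e').submatrix e e := by
    rw [Matrix.submatrix_submatrix]; rfl
  rw [this, h', submatrix_smul', ← Matrix.submatrix_mul_equiv _ _ _ e,
    ← Matrix.submatrix_mul_equiv _ _ _ e, h, Units.val_mul (α := K) c' c, Units.val_mul, reindexGL_val,
    ← smul_smul, Matrix.transpose_mul, Matrix.mul_smul, Matrix.smul_mul, Equiv.symm_symm,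
    Matrix.transpose_submatrix]
  simp only [Matrix.mul_assoc]

/-- transport of invertible matrices along a congruence -/
def transGL (e : κ ≃ ι) (P : GL κ K) : GL κ K ≃* GL ι K := (MulAut.conj P⁻¹).trans (reindexGL e)

theorem transGL_scl (e : κ ≃ ι) (P : GL κ K) (c : Kˣ) : transGL e P (scl c) = scl c := by
  apply Units.ext
  show ((MulAut.conj P⁻¹ (scl c)).1).submatrix e.symm e.symm = _
  rw [MulAut.conj_apply, inv_inv, Units.val_mul, Units.val_mul, scl_val, scl_val, Matrix.mul_smul,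
    Matrix.mul_one, Matrix.smul_mul, ← Units.val_mul, inv_mul_cancel, Units.val_one]
  ext i j
  simp [Matrix.one_apply]

theorem transGL_det (e : κ ≃ ι) (P g : GL κ K) : (transGL e P g).1.det = g.1.det := by
  show (((MulAut.conj P⁻¹ g).1).submatrix e.symm e.symm).det = _
  rw [Matrix.det_submatrix_equiv_self, MulAut.conj_apply, inv_inv, Units.val_mul, Units.val_mul,
    Matrix.det_units_conj']

theorem transGL_mult {M : Matrix κ κ K} {N : Matrix ι ι K} {e : κ ≃ ι} {P : GL κ K} {c : Kˣ}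
    (h : N.submatrix e e = (c : K) • (P.1ᵀ * M * P.1)) (g : GL κ K) (d : Kˣ) :
    Mult N (transGL e P g) d ↔ Mult M g d := by
  have key : ((transGL e P g).1ᵀ * N * (transGL e P g).1).submatrix e e =
      (c : K) • (P.1ᵀ * (g.1ᵀ * M * g.1) * P.1) := by
    rw [← Matrix.submatrix_mul_equiv _ _ _ e, ← Matrix.submatrix_mul_equiv _ _ _ e, h]
    have h1 : (transGL e P g).1.submatrix e e = (P⁻¹).1 * g.1 * P.1 := by
      show (((MulAut.conj P⁻¹ g).1).submatrix e.symm e.symm).submatrix e e = _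
      rw [MulAut.conj_apply, inv_inv, Units.val_mul, Units.val_mul, Matrix.submatrix_submatrix]
      simp
    rw [← Matrix.transpose_submatrix, h1, Matrix.mul_smul, Matrix.smul_mul,
      Matrix.transpose_mul, Matrix.transpose_mul]
    congr 1
    rw [show P.1ᵀ * (g.1ᵀ * ((P⁻¹).1)ᵀ) * (P.1ᵀ * M * P.1) * ((P⁻¹).1 * g.1 * P.1) =
      P.1ᵀ * g.1ᵀ * (P.1 * (P⁻¹).1)ᵀ * M * (P.1 * (P⁻¹).1) * g.1 * P.1 by
        simp only [Matrix.transpose_mul, Matrix.mul_assoc], ← Units.val_mul, mul_inv_cancel,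
      Units.val_one, Matrix.transpose_one, Matrix.mul_one, Matrix.mul_one]
    simp only [Matrix.mul_assoc]
  unfold Mult
  constructor
  · intro hN
    rw [hN, submatrix_smul', h] at key
    rw [smul_comm] at key
    have k2 := smul_right_injective (Matrix κ κ K) c.ne_zero key
    have k3 := congrArg (fun X => (P⁻¹).1ᵀ * X * (P⁻¹).1) k2
    simp only [Matrix.mul_smul, Matrix.smul_mul] at k3
    rw [congr_cancel, congr_cancel] at k3
    exact k3.symm
  · intro hM
    rw [hM, Matrix.mul_smul, Matrix.smul_mul, smul_comm, ← h] at key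
    have := congrArg (fun X => X.submatrix e.symm e.symm) key
    simpa [Matrix.submatrix_submatrix, Matrix.submatrix_smul] using this

/-- A congruence identifies the similarity groups, compatibly with scalars, multipliers and determinants. -/
theorem Cong.exists_equiv {M : Matrix κ κ K} {N : Matrix ι ι K} (h : Cong M N) :
    ∃ φ : GL κ K ≃* GL ι K, (∀ g d, Mult N (φ g) d ↔ Mult M g d) ∧ (∀ c, φ (scl c) = scl c) ∧
      ∀ g, (φ g).1.det = g.1.det := by
  obtain ⟨e, P, c, h⟩ := h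
  exact ⟨transGL e P, fun g d => transGL_mult h g d, transGL_scl e P, transGL_det e P⟩

/-- An isomorphism of projective quotients from an isomorphism of the ambient groups. -/
theorem projQuot_congr {H : Subgroup (GL κ K)} {H' : Subgroup (GL ι K)} (φ : GL κ K ≃* GL ι K)
    (hH : ∀ g, φ g ∈ H' ↔ g ∈ H) (hs : ∀ c, φ (scl c) = scl c) :
    Nonempty (Cfsg.projQuot H ≃* Cfsg.projQuot H') := by
  let ψ : H ≃* H' :=
    { toFun := fun g => ⟨φ g.1, (hH _).2 g.2⟩
      invFun := fun g => ⟨φ.symm g.1, (hH _).1 (by simpa using g.2)⟩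
      left_inv := fun g => Subtype.ext (φ.symm_apply_apply _)
      right_inv := fun g => Subtype.ext (φ.apply_symm_apply _)
      map_mul' := fun g g' => Subtype.ext (map_mul φ _ _) }
  refine ⟨QuotientGroup.congr _ _ ψ ?_⟩
  ext g
  simp only [Subgroup.mem_map, Subgroup.mem_subgroupOf, mem_scalars']
  constructor
  · rintro ⟨x, ⟨c, hc⟩, rfl⟩
    exact ⟨c, by show φ x.1 = _; rw [hc, hs]⟩
  · rintro ⟨c, hc⟩
    refine ⟨ψ.symm g, ⟨c, ?_⟩, ψ.apply_symm_apply g⟩
    show φ.symm g.1 = _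
    rw [hc, ← hs, φ.symm_apply_apply]

theorem Cong.projQuot_equiv {M : Matrix κ κ K} {N : Matrix ι ι K} (h : Cong M N) :
    Nonempty (Cfsg.projQuot (simGrp M) ≃* Cfsg.projQuot (simGrp N)) := by
  obtain ⟨φ, hφ, hs, -⟩ := h.exists_equiv
  exact projQuot_congr φ (fun g => exists_congr fun d => hφ g d) hs

/-- Sign of the transpose. -/
theorem Cong.transpose_eq {M : Matrix κ κ K} {N : Matrix ι ι K} (h : Cong M N) {s : K} (hM : Mᵀ = s • M) :
    Nᵀ = s • N := by
  obtain ⟨e, P, c, h⟩ := h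
  have h1 : (N.submatrix e e)ᵀ = s • N.submatrix e e := by
    rw [h, Matrix.transpose_smul, Matrix.transpose_mul, Matrix.transpose_mul, Matrix.transpose_transpose,
      hM, Matrix.smul_mul, Matrix.mul_smul, smul_comm, Matrix.mul_assoc]
  have h2 := congrArg (fun X => X.submatrix e.symm e.symm) h1
  simpa [Matrix.transpose_submatrix, Matrix.submatrix_submatrix, Matrix.submatrix_smul] using h2

theorem Cong.det_eq {M : Matrix κ κ K} {N : Matrix ι ι K} (h : Cong M N) :
    ∃ c s : K, c ≠ 0 ∧ s ≠ 0 ∧ N.det = c ^ Fintype.card κ * (s * s) * M.det := by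
  obtain ⟨e, P, c, h⟩ := h
  refine ⟨c, P.1.det, c.ne_zero, ((Matrix.isUnit_iff_isUnit_det _).1 P.isUnit).ne_zero, ?_⟩
  rw [← Matrix.det_submatrix_equiv_self e N, h, Matrix.det_smul, Matrix.det_mul, Matrix.det_mul,
    Matrix.det_transpose]
  ring

theorem Cong.card_eq {M : Matrix κ κ K} {N : Matrix ι ι K} (h : Cong M N) : Fintype.card κ = Fintype.card ι :=
  Fintype.card_congr h.choose

/-- A group of similarities that is scalars times isometries, with trivial scalar isometries. -/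
theorem projQuot_iso_of_square (M : Matrix κ κ K) (hsq : ∀ g c, Mult M g c → ∃ r : Kˣ, c = r ^ 2)
    (hone : ∀ r : Kˣ, scl (κ := κ) r ∈ isoGrp M → r = 1) :
    Nonempty (Cfsg.projQuot (simGrp M) ≃* isoGrp M) := by
  let N := (Cfsg.Geo.scalars κ K).subgroupOf (simGrp M)
  let f : isoGrp M →* Cfsg.projQuot (simGrp M) :=
    (QuotientGroup.mk' N).comp
      (Subgroup.inclusion (show isoGrp M ≤ simGrp M from fun g hg => ⟨1, mult_one_iff.2 hg⟩))
  refine ⟨(MulEquiv.ofBijective f ⟨?_, ?_⟩).symm⟩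
  · rw [injective_iff_map_eq_one]
    intro g hg
    have hg1 : g.1 ∈ Cfsg.Geo.scalars κ K := Subgroup.mem_subgroupOf.1 ((QuotientGroup.eq_one_iff (N := N) (Subgroup.inclusion (show isoGrp M ≤ simGrp M from fun g hg => ⟨1, mult_one_iff.2 hg⟩) g)).1 hg)
    obtain ⟨r, hr⟩ := mem_scalars'.1 hg1
    have := hone r (hr ▸ g.2)
    subst this
    apply Subtype.ext
    rw [hr]
    exact map_one _
  · intro y
    obtain ⟨⟨g, c, hg⟩, rfl⟩ := QuotientGroup.mk'_surjective N y
    obtain ⟨r, rfl⟩ := hsq g c hg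
    have hm : scl r⁻¹ * g ∈ isoGrp M := by
      rw [← mult_one_iff]
      have := (mult_scl M r⁻¹).mul hg
      rwa [← mul_pow, inv_mul_cancel, one_pow] at this
    refine ⟨⟨_, hm⟩, ?_⟩
    refine QuotientGroup.eq.2 (Subgroup.mem_subgroupOf.2 ?_)
    show (scl r⁻¹ * g)⁻¹ * g ∈ _
    rw [_root_.mul_inv_rev, show scl (κ := κ) r⁻¹ = (scl r)⁻¹ from map_inv _ r, inv_inv, mul_assoc]
    have hcm : scl r * g = g * scl r := by
      apply Units.ext
      rw [scl_mul_val, Units.val_mul, scl_val, Matrix.mul_smul, Matrix.mul_one]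
    rw [hcm, ← mul_assoc, inv_mul_cancel, one_mul]
    exact scl_mem r

/-- The order of the projective similarity group when every scalar is a multiplier. -/
theorem card_projQuot_sim [Finite K] [Nonempty κ] (M : Matrix κ κ K) (hd : M.det ≠ 0)
    (hall : ∀ c, ∃ g, Mult M g c) :
    Nat.card (Cfsg.projQuot (simGrp M)) = Nat.card (isoGrp M) := by
  choose mu hmu using fun g : simGrp M => g.2
  let μh : simGrp M →* Kˣ :=
    { toFun := mu
      map_one' := (hmu 1).unique hd (Mult.one M)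
      map_mul' := fun a b => (hmu (a * b)).unique hd ((hmu a).mul (hmu b)) }
  have hker : μh.ker = (isoGrp M).subgroupOf (simGrp M) := by
    ext g
    rw [MonoidHom.mem_ker, Subgroup.mem_subgroupOf, ← mult_one_iff]
    constructor
    · intro h
      rw [← h]; exact hmu g
    · intro h
      exact (hmu g).unique hd h
  have hsurj : Function.Surjective μh := fun c => by
    obtain ⟨g, hg⟩ := hall c
    exact ⟨⟨g, c, hg⟩, (hmu _).unique hd hg⟩
  have h1 : Nat.card (simGrp M) = Nat.card Kˣ * Nat.card (isoGrp M) := by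
    rw [Subgroup.card_eq_card_quotient_mul_card_subgroup μh.ker,
      Nat.card_congr (QuotientGroup.quotientKerEquivOfSurjective μh hsurj).toEquiv, hker,
      Nat.card_congr (Subgroup.subgroupOfEquivOfLe
        (show isoGrp M ≤ simGrp M from fun g hg => ⟨1, mult_one_iff.2 hg⟩)).toEquiv]
  have hle : Cfsg.Geo.scalars κ K ≤ simGrp M := fun g hg => by
    obtain ⟨c, rfl⟩ := mem_scalars'.1 hg
    exact ⟨_, mult_scl M c⟩
  have h3 : Nat.card (Cfsg.Geo.scalars κ K) = Nat.card Kˣ := by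
    have hinj : Function.Injective (Units.map (Matrix.scalar κ : K →+* Matrix κ κ K).toMonoidHom) :=
      Units.map_injective (fun a b h => Matrix.scalar_inj.1 h)
    exact (Nat.card_congr (MonoidHom.ofInjective hinj).toEquiv).symm
  have h2 : Nat.card (simGrp M) = Nat.card (Cfsg.projQuot (simGrp M)) * Nat.card Kˣ := by
    rw [Subgroup.card_eq_card_quotient_mul_card_subgroup ((Cfsg.Geo.scalars κ K).subgroupOf (simGrp M)),
      Nat.card_congr (Subgroup.subgroupOfEquivOfLe hle).toEquiv, h3]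
  rw [h1, mul_comm] at h2
  exact (mul_right_cancel₀ Nat.card_pos.ne' h2).symm

end CfsgLib.FormCl
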