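import Mathlib
import Cfsg.Agent.Lib.FormClass.Basic
import Cfsg.Agent.Lib.Classical.SymmDiag
import Cfsg.Agent.Lib.Classical.QuadDisc
import Cfsg.Agent.Lib.Classical.QuadOrder

/-!
# Symmetric forms in odd characteristic
-/

set_option autoImplicit false
set_option linter.all false

namespace CfsgLib.FormCl

open Matrix

variable {K : Type*} [Field K]

section quad

variable {ι : Type} [Fintype ι] [DecidableEq ι]

theorem polarGram_symm (Q : QuadraticForm K (ι → K)) :
    (CfsgLib.Classical.polarGram Q)ᵀ = CfsgLib.Classical.polarGram Q := by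
  ext i j
  simp [CfsgLib.Classical.polarGram, QuadraticMap.polar_comm]

theorem mult_polarGram_iff (h2 : (2 : K) ≠ 0) (Q : QuadraticForm K (ι → K)) (g : GL ι K) (c : Kˣ) :
    Mult (CfsgLib.Classical.polarGram Q) g c ↔ ∀ v, Q (g.1 *ᵥ v) = (c : K) * Q v := by
  set G := CfsgLib.Classical.polarGram Q with hG
  have hp : ∀ x y, x ⬝ᵥ (G *ᵥ y) = QuadraticMap.polar ⇑Q x y := CfsgLib.Classical.dotProduct_polarGram_mulVec Q
  have key : ∀ u v : ι → K, u ⬝ᵥ ((g.1ᵀ * G * g.1) *ᵥ v) = QuadraticMap.polar ⇑Q (g.1 *ᵥ u) (g.1 *ᵥ v) :=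
    fun u v => by
      rw [← hp, ← Matrix.mulVec_mulVec, ← Matrix.mulVec_mulVec, Matrix.dotProduct_mulVec u,
        ← Matrix.mulVec_transpose, Matrix.transpose_transpose]
  constructor
  · intro h v
    have h1 := key v v
    rw [h, Matrix.smul_mulVec, dotProduct_smul, smul_eq_mul, hp, CfsgLib.Classical.polar_self_two,
      CfsgLib.Classical.polar_self_two] at h1
    exact mul_left_cancel₀ h2 (by linear_combination -h1)
  · intro h
    ext i j
    have h1 := key (Pi.single i 1) (Pi.single j 1)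
    have h3 : QuadraticMap.polar ⇑Q (g.1 *ᵥ Pi.single i 1) (g.1 *ᵥ Pi.single j 1) =
        (c : K) * QuadraticMap.polar ⇑Q (Pi.single i 1) (Pi.single j 1) := by
      simp only [QuadraticMap.polar, ← Matrix.mulVec_add, h]; ring
    rw [h3] at h1
    simp only [single_one_dotProduct, Matrix.mulVec_single_one] at h1
    rw [Matrix.smul_apply, smul_eq_mul]
    exact h1

theorem quadSim_eq (h2 : (2 : K) ≠ 0) (Q : QuadraticForm K (ι → K)) :
    Cfsg.Geo.quadSimilarityGroup (F := K) ⇑Q = simGrp (CfsgLib.Classical.polarGram Q) := by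
  ext g
  exact exists_congr fun c => (mult_polarGram_iff h2 Q g c).symm

theorem isometry_eq (h2 : (2 : K) ≠ 0) (Q : QuadraticForm K (ι → K)) :
    Cfsg.isometryGroup K ⇑Q = isoGrp (CfsgLib.Classical.polarGram Q) := by
  ext g
  rw [CfsgLib.Classical.mem_isometryGroup_iff, ← mult_one_iff, mult_polarGram_iff h2]
  simp

/-- the projective conformal orthogonal group from a congruence -/
theorem pgo_equiv {κ : Type} [Fintype κ] [DecidableEq κ] (h2 : (2 : K) ≠ 0) {Q : QuadraticForm K (ι → K)}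
    {f : (ι → K) → K} (hf : ⇑Q = f) {M : Matrix κ κ K} (h : Cong M (CfsgLib.Classical.polarGram Q)) :
    Nonempty (Cfsg.projQuot (simGrp M) ≃* Cfsg.PGO K f) := by
  subst hf
  obtain ⟨e⟩ := h.projQuot_equiv
  have := quadSim_eq h2 Q
  exact ⟨e.trans (this ▸ MulEquiv.refl _)⟩

end quad

/-- The Gram matrix of the plus form. -/
theorem polarGram_plus (m : ℕ) :
    CfsgLib.Classical.polarGram (CfsgLib.Classical.plusQ m K) =
      Matrix.fromBlocks 0 1 1 0 := by
  ext i j
  rcases i with i | i <;> rcases j with j | j <;>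
    simp [CfsgLib.Classical.polarGram, QuadraticMap.polar, CfsgLib.Classical.plusQ_coe, Cfsg.quadFormPlus,
      Pi.single_apply, Matrix.one_apply, add_mul, mul_add, Finset.sum_add_distrib, eq_comm, ite_and]

theorem det_plus (m : ℕ) : (CfsgLib.Classical.polarGram (CfsgLib.Classical.plusQ m K)).det = (-1) ^ m := by
  rw [polarGram_plus]; exact CfsgLib.Classical.det_swap_blocks K m

theorem det_minus (m : ℕ) (a b : K) :
    (CfsgLib.Classical.polarGram (CfsgLib.Classical.minusQ m K a b)).det = (-1) ^ m * (4 * b - a ^ 2) := by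
  have h : CfsgLib.Classical.polarGram (CfsgLib.Classical.minusQ m K a b) =
      Matrix.fromBlocks (CfsgLib.Classical.polarGram (CfsgLib.Classical.plusQ m K)) 0 0
        !![2, a; a, 2 * b] := by
    ext i j
    rcases i with i | i <;> rcases j with j | j
    · rw [Matrix.fromBlocks_apply₁₁]
      simp [CfsgLib.Classical.polarGram, QuadraticMap.polar, CfsgLib.Classical.minusQ_coe, CfsgLib.Classical.plusQ_coe,
        Cfsg.quadFormMinus, Cfsg.quadFormPlus, Pi.single_apply, add_mul, mul_add, Finset.sum_add_distrib]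
    · rcases i with i | i <;> fin_cases j <;>
        simp [CfsgLib.Classical.polarGram, QuadraticMap.polar, CfsgLib.Classical.minusQ_coe,
          Cfsg.quadFormMinus, Pi.single_apply, add_mul, mul_add, Finset.sum_add_distrib] <;> ring
    · rcases j with j | j <;> fin_cases i <;>
        simp [CfsgLib.Classical.polarGram, QuadraticMap.polar, CfsgLib.Classical.minusQ_coe,
          Cfsg.quadFormMinus, Pi.single_apply, add_mul, mul_add, Finset.sum_add_distrib] <;> ring
    · fin_cases i <;> fin_cases j <;>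
        simp [CfsgLib.Classical.polarGram, QuadraticMap.polar, CfsgLib.Classical.minusQ_coe,
          Cfsg.quadFormMinus, Pi.single_apply, add_mul, mul_add, Finset.sum_add_distrib] <;> ring
  rw [h, Matrix.det_fromBlocks_zero₂₁, det_plus, Matrix.det_fin_two_of]
  ring

theorem det_odd (m : ℕ) :
    (CfsgLib.Classical.polarGram (CfsgLib.Classical.oddQ m K)).det = 2 * (-1) ^ m := by
  have h : CfsgLib.Classical.polarGram (CfsgLib.Classical.oddQ m K) =
      Matrix.fromBlocks (Matrix.diagonal fun _ => 2) 0 0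
        (CfsgLib.Classical.polarGram (CfsgLib.Classical.plusQ m K)) := by
    ext i j
    rcases i with i | i <;> rcases j with j | j
    · simp [CfsgLib.Classical.polarGram, QuadraticMap.polar, CfsgLib.Classical.oddQ_coe,
        Cfsg.quadFormOdd, Pi.single_apply, add_mul, mul_add, Finset.sum_add_distrib]
      ring
    · simp [CfsgLib.Classical.polarGram, QuadraticMap.polar, CfsgLib.Classical.oddQ_coe,
        Cfsg.quadFormOdd, Pi.single_apply, add_mul, mul_add, Finset.sum_add_distrib]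
    · simp [CfsgLib.Classical.polarGram, QuadraticMap.polar, CfsgLib.Classical.oddQ_coe,
        Cfsg.quadFormOdd, Pi.single_apply, add_mul, mul_add, Finset.sum_add_distrib]
    · rw [Matrix.fromBlocks_apply₂₂]
      simp [CfsgLib.Classical.polarGram, QuadraticMap.polar, CfsgLib.Classical.oddQ_coe, CfsgLib.Classical.plusQ_coe,
        Cfsg.quadFormOdd, Cfsg.quadFormPlus, Pi.single_apply, add_mul, mul_add, Finset.sum_add_distrib]
  rw [h, Matrix.det_fromBlocks_zero₂₁, det_plus, Matrix.det_diagonal]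
  simp

theorem disc_not_square (h2 : (2 : K) ≠ 0) {a b : K}
    (hab : ∀ z₁ z₂ : K, z₁ ^ 2 + a * z₁ * z₂ + b * z₂ ^ 2 = 0 → z₁ = 0 ∧ z₂ = 0) :
    ¬ IsSquare (a ^ 2 - 4 * b) := by
  rintro ⟨r, hr⟩
  exact one_ne_zero (hab ((-a + r) / 2) 1 (by field_simp; linear_combination -hr)).2

variable [Fintype K]

/-- An orthogonal basis with norms `1, …, 1, d`. -/
theorem congr_diag (h2 : (2 : K) ≠ 0) {k : ℕ} (M : Matrix (Fin (k + 1)) (Fin (k + 1)) K) (hs : Mᵀ = M)
    (hd : M.det ≠ 0) (α : K) (hα : ¬ IsSquare α) :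
    ∃ (P : GL (Fin (k + 1)) K) (d : K), (d = 1 ∨ d = α) ∧
      P.1ᵀ * M * P.1 = Matrix.diagonal (Function.update (fun _ => (1 : K)) (Fin.last k) d) := by
  classical
  set B := Matrix.toBilin' M with hB
  have hS : B.IsSymm := ⟨fun x y => by
    show Matrix.toBilin' M x y = Matrix.toBilin' M y x
    rw [Matrix.toBilin'_apply', Matrix.toBilin'_apply', dotProduct_comm x, ← Matrix.vecMul_transpose, hs,
      ← Matrix.dotProduct_mulVec, dotProduct_comm]⟩
  have hN : B.Nondegenerate := Matrix.nondegenerate_toBilin'_iff.2 (Matrix.nondegenerate_iff_det_ne_zero.2 hd)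
  obtain ⟨b, ho, h1, hl⟩ := CfsgLib.Classical.exists_orthogonal_one_or_nonsquare h2 B hS hN
    (Module.finrank_fin_fun K) α hα
  set P := (Pi.basisFun K (Fin (k + 1))).toMatrix b with hP
  have hPu : IsUnit P.det := (Matrix.isUnit_iff_isUnit_det _).1
    (IsUnit.of_mul_eq_one _ ((Pi.basisFun K (Fin (k + 1))).toMatrix_mul_toMatrix_flip b))
  refine ⟨Matrix.GeneralLinearGroup.mkOfDetNeZero P hPu.ne_zero, B (b (Fin.last k)) (b (Fin.last k)), hl, ?_⟩
  show Pᵀ * M * P = _
  ext i j
  have hval : (Pᵀ * M * P) i j = B (b i) (b j) := by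
    rw [hB, Matrix.toBilin'_apply', Matrix.mul_assoc, Matrix.mul_apply]
    simp only [hP, Matrix.transpose_apply, Module.Basis.toMatrix_apply, Pi.basisFun_repr, dotProduct]
    refine Finset.sum_congr rfl fun x _ => ?_
    rw [Matrix.mul_apply]
    simp [Matrix.mulVec, dotProduct, Module.Basis.toMatrix_apply]
  rw [hval]
  rcases eq_or_ne i j with rfl | hij
  · rw [Matrix.diagonal_apply_eq]
    rcases eq_or_ne i (Fin.last k) with rfl | hi
    · rw [Function.update_self]
    · rw [Function.update_of_ne hi, h1 i hi]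
  · rw [Matrix.diagonal_apply_ne _ hij, ho i j hij]

/-- Two symmetric forms with determinants in one square class are congruent. -/
theorem congr_of_sq (h2 : (2 : K) ≠ 0) {k : ℕ} (M N : Matrix (Fin (k + 1)) (Fin (k + 1)) K) (hs : Mᵀ = M)
    (hs' : Nᵀ = N) (hd : M.det ≠ 0) (hd' : N.det ≠ 0) (hsq : IsSquare (M.det * N.det)) :
    ∃ P : GL (Fin (k + 1)) K, N = P.1ᵀ * M * P.1 := by
  classical
  have hF : ringChar K ≠ 2 := fun h => h2 (by
    have : CharP K 2 := ringChar.of_eq h
    exact CharTwo.two_eq_zero)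
  obtain ⟨α, hα⟩ := FiniteField.exists_nonsquare hF
  obtain ⟨P, d, hd1, hP⟩ := congr_diag h2 M hs hd α hα
  obtain ⟨Q, d', hd2, hQ⟩ := congr_diag h2 N hs' hd' α hα
  have hdetP : ∀ (X : Matrix (Fin (k + 1)) (Fin (k + 1)) K) (P : GL (Fin (k + 1)) K) (d : K),
      P.1ᵀ * X * P.1 = Matrix.diagonal (Function.update (fun _ => (1 : K)) (Fin.last k) d) →
      P.1.det * P.1.det * X.det = d := fun X P d h => by
    have := congrArg Matrix.det h
    rw [Matrix.det_mul, Matrix.det_mul, Matrix.det_transpose, Matrix.det_diagonal,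
      Finset.prod_update_of_mem (Finset.mem_univ _), Finset.prod_const_one, mul_one] at this
    linear_combination this
  have hdd : d = d' := by
    have e1 := hdetP M P d hP
    have e2 := hdetP N Q d' hQ
    have hP0 : P.1.det ≠ 0 := ((Matrix.isUnit_iff_isUnit_det _).1 P.isUnit).ne_zero
    have hQ0 : Q.1.det ≠ 0 := ((Matrix.isUnit_iff_isUnit_det _).1 Q.isUnit).ne_zero
    have h3 : IsSquare (d * d') := by
      rw [show d * d' = (P.1.det * Q.1.det) * (P.1.det * Q.1.det) * (M.det * N.det) by rw [← e1, ← e2]; ring]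
      exact (CfsgLib.Classical.isSquare_mul_sq_iff (mul_ne_zero hP0 hQ0)).2 hsq
    rcases hd1 with rfl | rfl <;> rcases hd2 with rfl | rfl
    · rfl
    · exact absurd (by simpa using h3) hα
    · exact absurd (by simpa using h3) hα
    · rfl
  subst hdd
  refine ⟨P * Q⁻¹, ?_⟩
  rw [Units.val_mul, Matrix.transpose_mul, show (Q⁻¹).1ᵀ * P.1ᵀ * M * (P.1 * (Q⁻¹).1) =
    (Q⁻¹).1ᵀ * (P.1ᵀ * M * P.1) * (Q⁻¹).1 by simp only [Matrix.mul_assoc], hP, ← hQ, congr_cancel]

/-- An isometry of determinant `-1`. -/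
theorem exists_det_neg (h2 : (2 : K) ≠ 0) {k : ℕ} (M : Matrix (Fin (k + 1)) (Fin (k + 1)) K) (hs : Mᵀ = M)
    (hd : M.det ≠ 0) : ∃ g ∈ isoGrp M, g.1.det = -1 := by
  classical
  have hF : ringChar K ≠ 2 := fun h => h2 (by
    have : CharP K 2 := ringChar.of_eq h
    exact CharTwo.two_eq_zero)
  obtain ⟨α, hα⟩ := FiniteField.exists_nonsquare hF
  obtain ⟨P, d, -, hP⟩ := congr_diag h2 M hs hd α hα
  set s : Fin (k + 1) → K := Function.update (fun _ => (1 : K)) (Fin.last k) (-1) with hs'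
  have hsd : (Matrix.diagonal s).det = -1 := by
    rw [Matrix.det_diagonal, hs', Finset.prod_update_of_mem (Finset.mem_univ _), Finset.prod_const_one, mul_one]
  let D : GL (Fin (k + 1)) K := Matrix.GeneralLinearGroup.mkOfDetNeZero (Matrix.diagonal s)
    (hsd.trans_ne (neg_ne_zero.2 one_ne_zero))
  refine ⟨P * D * P⁻¹, ?_, ?_⟩
  · rw [mem_isoGrp, Units.val_mul, Units.val_mul, Matrix.transpose_mul, Matrix.transpose_mul]
    rw [show (P⁻¹).1ᵀ * (D.1ᵀ * P.1ᵀ) * M * (P.1 * D.1 * (P⁻¹).1) =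
      (P⁻¹).1ᵀ * (D.1ᵀ * (P.1ᵀ * M * P.1) * D.1) * (P⁻¹).1 by simp only [Matrix.mul_assoc]]
    have hD : D.1ᵀ * (P.1ᵀ * M * P.1) * D.1 = P.1ᵀ * M * P.1 := by
      rw [hP]
      show (Matrix.diagonal s)ᵀ * _ * Matrix.diagonal s = _
      rw [Matrix.diagonal_transpose, Matrix.diagonal_mul_diagonal, Matrix.diagonal_mul_diagonal]
      congr 1
      funext i
      rcases eq_or_ne i (Fin.last k) with rfl | hi
      · simp [hs']
      · simp [hs', hi]
    rw [hD, congr_cancel]
  · rw [Units.val_mul, Units.val_mul, Matrix.det_units_conj]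
    exact hsd

variable {κ : Type} [Fintype κ] [DecidableEq κ]

/-- The congruence class of a symmetric form is given by the square class of its determinant. -/
theorem cong_of_sq (h2 : (2 : K) ≠ 0) {k : ℕ} (M : Matrix (Fin (k + 1)) (Fin (k + 1)) K) (N : Matrix κ κ K)
    (hc : Fintype.card κ = k + 1) (hs : Mᵀ = M) (hs' : Nᵀ = N) (hd : M.det ≠ 0) (hd' : N.det ≠ 0)
    (hsq : IsSquare (M.det * N.det)) : Cong M N := by
  let e : Fin (k + 1) ≃ κ := (Fintype.equivFinOfCardEq hc).symm
  obtain ⟨P, hP⟩ := congr_of_sq h2 M (N.submatrix e e) hs (by rw [Matrix.transpose_submatrix, hs']) hd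
    (by rwa [Matrix.det_submatrix_equiv_self]) (by rwa [Matrix.det_submatrix_equiv_self])
  exact ⟨e, P, 1, by rw [Units.val_one, one_smul]; exact hP⟩

/-- In odd dimension all non-degenerate symmetric forms are congruent up to scalars. -/
theorem cong_of_odd (h2 : (2 : K) ≠ 0) {m : ℕ} (M : Matrix (Fin (2 * m + 1)) (Fin (2 * m + 1)) K) (N : Matrix κ κ K)
    (hc : Fintype.card κ = 2 * m + 1) (hs : Mᵀ = M) (hs' : Nᵀ = N) (hd : M.det ≠ 0) (hd' : N.det ≠ 0) :
    Cong M N := by
  set c : K := M.det * N.det with hcdef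
  have hc0 : c ≠ 0 := mul_ne_zero hd hd'
  have h1 : Cong M (c • M) := Cong.of_congr 1 (Units.mk0 c hc0) (by simp)
  refine h1.trans (cong_of_sq h2 (c • M) N hc (by rw [Matrix.transpose_smul, hs]) hs'
    (by rw [Matrix.det_smul]; exact mul_ne_zero (pow_ne_zero _ hc0) hd) hd' ?_)
  rw [Matrix.det_smul, Fintype.card_fin]
  exact ⟨c ^ (m + 1), by rw [hcdef]; ring⟩

/-- Similarities of a symmetric form in even dimension: every multiplier with both signs. -/
theorem exists_mult_sym (h2 : (2 : K) ≠ 0) {m k : ℕ} (hk : k + 1 = 2 * m) (M : Matrix (Fin (k + 1)) (Fin (k + 1)) K)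
    (hs : Mᵀ = M) (hd : M.det ≠ 0) (c : Kˣ) (s : K) (hsign : s = 1 ∨ s = -1) :
    ∃ g, Mult M g c ∧ g.1.det = s * (c : K) ^ m := by
  obtain ⟨P, hP⟩ := congr_of_sq h2 M ((c : K) • M) hs (by rw [Matrix.transpose_smul, hs]) hd
    (by rw [Matrix.det_smul]; exact mul_ne_zero (pow_ne_zero _ c.ne_zero) hd)
    (by rw [Matrix.det_smul, Fintype.card_fin, show (c : K) ^ (k + 1) = (c : K) ^ (2 * m) from congrArg (fun e => (c : K) ^ e) hk]; exact ⟨(c : K) ^ m * M.det, by ring⟩)
  have hm : Mult M P c := hP.symm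
  have h4 := hm.det_sq hd
  rw [Fintype.card_fin, show (c : K) ^ (k + 1) = (c : K) ^ (2 * m) from congrArg (fun e => (c : K) ^ e) hk, mul_comm 2 m, pow_mul] at h4
  obtain ⟨r, hr, hrd⟩ := exists_det_neg h2 M hs hd
  have hm' : Mult M (r * P) c := by
    have := (mult_one_iff.2 hr).mul hm
    rwa [one_mul] at this
  have hd' : (r * P).1.det = -P.1.det := by rw [Units.val_mul, Matrix.det_mul, hrd, neg_one_mul]
  rcases sq_eq_sq_iff_eq_or_eq_neg.1 h4 with h5 | h5 <;> rcases hsign with rfl | rfl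
  · exact ⟨P, hm, by rw [h5, one_mul]⟩
  · exact ⟨r * P, hm', by rw [hd', h5, neg_one_mul]⟩
  · exact ⟨r * P, hm', by rw [hd', h5, neg_neg, one_mul]⟩
  · exact ⟨P, hm, by rw [h5, neg_one_mul]⟩

end CfsgLib.FormCl
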