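import Cfsg.Agent.Lib.FormClass.Siegel
import Cfsg.Agent.Lib.FormClass.OddChar

/-!
# Similarities of odd order normalised by all Siegel transvections are scalar
-/

set_option autoImplicit false
set_option linter.all false

namespace CfsgLib.FormCl

open Matrix
open scoped LinearAlgebra.Projectivization

variable {K : Type*} [Field K] {n : ℕ}

/-- the permutations of the points -/
noncomputable def pperm : GL (Fin n) K →* Equiv.Perm (ℙ K (Fin n → K)) :=
  (MulAction.toPermHom (LinearMap.GeneralLinearGroup K (Fin n → K)) (ℙ K (Fin n → K))).comp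
    Matrix.GeneralLinearGroup.toLin.toMonoidHom

theorem gl_mulVec_ne (g : GL (Fin n) K) {v : Fin n → K} (hv : v ≠ 0) : g.1 *ᵥ v ≠ 0 := fun e => hv (by
  have := congrArg ((g⁻¹).1 *ᵥ ·) e
  simpa [mulVec_mulVec, ← Units.val_mul] using this)

theorem pperm_mk (g : GL (Fin n) K) {v : Fin n → K} (hv : v ≠ 0) :
    pperm g (Projectivization.mk K v hv) = Projectivization.mk K (g.1 *ᵥ v) (gl_mulVec_ne g hv) := rfl

/-- negate the first non-zero coordinate -/
def flipFirst [DecidableEq K] (x : Fin n → K) : Fin n → K :=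
  fun i => if ∀ k < i, x k = 0 then -x i else x i

theorem flipFirst_flipFirst [DecidableEq K] (x : Fin n → K) : flipFirst (flipFirst x) = x := by
  have hz : ∀ k, flipFirst x k = 0 ↔ x k = 0 := fun k => by
    unfold flipFirst; split_ifs <;> simp
  funext i
  show (if ∀ k < i, flipFirst x k = 0 then -flipFirst x i else flipFirst x i) = x i
  simp only [hz]
  unfold flipFirst
  split_ifs <;> simp

theorem flipFirst_smul [DecidableEq K] (a : K) (ha : a ≠ 0) (x : Fin n → K) :
    flipFirst (a • x) = a • flipFirst x := by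
  funext i
  simp only [flipFirst, Pi.smul_apply, smul_eq_mul, mul_eq_zero, ha, false_or]
  split_ifs <;> ring

/-- a diagonal form has an even number of singular points -/
theorem even_sing_diag [Fintype K] (h2 : (2 : K) ≠ 0) (d : Fin n → K) (hd : ∀ i, d i ≠ 0) :
    Even (Nat.card {P : ℙ K (Fin n → K) // ∑ i, d i * P.rep i * P.rep i = 0}) := by
  classical
  haveI : Finite (ℙ K (Fin n → K)) := Quotient.finite _
  haveI : Fintype {P : ℙ K (Fin n → K) // ∑ i, d i * P.rep i * P.rep i = 0} := Fintype.ofFinite _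
  have hne : ∀ x : Fin n → K, x ≠ 0 → flipFirst x ≠ 0 := fun x hx e => hx (by
    have := congrArg flipFirst e
    rw [flipFirst_flipFirst] at this
    rw [this]; funext i; simp [flipFirst])
  have hsq : ∀ x : Fin n → K, ∑ i, d i * flipFirst x i * flipFirst x i = ∑ i, d i * x i * x i :=
    fun x => Finset.sum_congr rfl fun i _ => by unfold flipFirst; split_ifs <;> ring
  let f : {P : ℙ K (Fin n → K) // ∑ i, d i * P.rep i * P.rep i = 0} →
      {P : ℙ K (Fin n → K) // ∑ i, d i * P.rep i * P.rep i = 0} := fun P =>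
    ⟨Projectivization.mk K (flipFirst P.1.rep) (hne _ P.1.rep_nonzero), by
      obtain ⟨a, ha⟩ := Projectivization.exists_smul_eq_mk_rep K (flipFirst P.1.rep) (hne _ P.1.rep_nonzero)
      rw [← ha]
      have : ∀ i, d i * (a • flipFirst P.1.rep) i * (a • flipFirst P.1.rep) i =
          ((a : K) * a) * (d i * flipFirst P.1.rep i * flipFirst P.1.rep i) := fun i => by
        simp [Units.smul_def]; ring
      rw [Finset.sum_congr rfl (fun i _ => this i), ← Finset.mul_sum, hsq, P.2, mul_zero]⟩
  have hff : ∀ P, f (f P) = P := fun P => by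
    apply Subtype.ext
    obtain ⟨a, ha⟩ := Projectivization.exists_smul_eq_mk_rep K (flipFirst P.1.rep) (hne _ P.1.rep_nonzero)
    refine (?_ : Projectivization.mk K (flipFirst (Projectivization.mk K (flipFirst P.1.rep) _).rep) _ = P.1)
    conv_rhs => rw [← Projectivization.mk_rep P.1]
    rw [Projectivization.mk_eq_mk_iff']
    exact ⟨a, by rw [← ha, Units.smul_def, flipFirst_smul _ a.ne_zero, flipFirst_flipFirst]⟩
  have hfix : ∀ P, f P ≠ P := fun P e => by
    have e1 := congrArg Subtype.val e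
    simp only [f] at e1
    conv_rhs at e1 => rw [← Projectivization.mk_rep P.1]
    rw [Projectivization.mk_eq_mk_iff'] at e1
    obtain ⟨a, ha⟩ := e1
    set x := P.1.rep with hx
    obtain ⟨i, hi, hmin⟩ : ∃ i, x i ≠ 0 ∧ ∀ k < i, x k = 0 := by
      obtain ⟨i₀, hi₀⟩ := Function.ne_iff.1 (P.1.rep_nonzero)
      refine ⟨(Finset.univ.filter fun k => x k ≠ 0).min' ⟨i₀, by simpa using hi₀⟩, ?_, fun k hk => ?_⟩
      · simpa using Finset.min'_mem (Finset.univ.filter fun k => x k ≠ 0) ⟨i₀, by simpa using hi₀⟩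
      · by_contra hk'
        exact absurd (Finset.min'_le _ k (by simpa using hk')) (not_le.2 hk)
    have h1 := congrFun ha i
    simp only [Pi.smul_apply, smul_eq_mul, flipFirst, if_pos hmin] at h1
    have ha1 : a = -1 := mul_right_cancel₀ hi (by rw [h1]; ring)
    have hsupp : ∀ k, k ≠ i → x k = 0 := fun k hk => by
      rcases lt_or_gt_of_ne hk with h3 | h3
      · exact hmin k h3
      · have h4 := congrFun ha k
        simp only [Pi.smul_apply, smul_eq_mul, flipFirst, if_neg (show ¬ ∀ k' < k, x k' = 0 from fun h5 => hi (h5 i h3)), ha1] at h4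
        exact (mul_eq_zero.1 (show (2 : K) * x k = 0 by linear_combination -(1:K) * h4)).resolve_left h2
    have h6 : ∑ k, d k * x k * x k = d i * x i * x i :=
      Finset.sum_eq_single i (fun k _ hk => by rw [hsupp k hk, mul_zero]) (by simp)
    exact mul_ne_zero (mul_ne_zero (hd i) hi) hi (h6.symm.trans P.2)
  have hc := Equiv.Perm.card_fixedPoints_modEq (f := (f : Function.End _)) (p := 2) (n := 1)
    (funext fun P => hff P)
  rw [Nat.card_eq_fintype_card, Nat.even_iff]
  haveI : IsEmpty ↥(Function.fixedPoints f) := ⟨fun P => hfix P.1 P.2⟩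
  rw [Fintype.card_eq_zero (α := ↥(Function.fixedPoints f))] at hc
  exact hc

namespace OddForm

variable {M : Matrix (Fin n) (Fin n) K} {s : K} (h : OddForm M s)
include h

theorem smul_self (a : K) (v : Fin n → K) : bl M (a • v) (a • v) = a * a * bl M v v := by
  rw [bl_smul_left, bl_smul_right, mul_assoc]

theorem rep_sing {v : Fin n → K} (hv : v ≠ 0) :
    bl M (Projectivization.mk K v hv).rep (Projectivization.mk K v hv).rep = 0 ↔ bl M v v = 0 := by
  obtain ⟨a, ha⟩ := Projectivization.exists_smul_eq_mk_rep K v hv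
  rw [← ha, Units.smul_def, h.smul_self]
  simp [a.ne_zero]

/-- the singular points are even in number -/
theorem even_sing [Fintype K] (hn : 3 ≤ n) :
    Even (Nat.card {P : ℙ K (Fin n → K) // bl M P.rep P.rep = 0}) := by
  classical
  haveI : Finite (ℙ K (Fin n → K)) := Quotient.finite _
  rcases h.sq with hs | hs
  · obtain ⟨k, rfl⟩ : ∃ k, n = k + 1 := ⟨n - 1, by omega⟩
    obtain ⟨α, hα⟩ := FiniteField.exists_nonsquare (F := K) (fun e => h.two (by
      haveI : CharP K 2 := ringChar.of_eq e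
      exact CharTwo.two_eq_zero))
    obtain ⟨P, dl, hdl, hP⟩ := congr_diag h.two M (by rw [h.tr, hs, one_smul]) h.det α hα
    set d := Function.update (fun _ : Fin (k + 1) => (1 : K)) (Fin.last k) dl with hd
    have hd0 : ∀ i, d i ≠ 0 := fun i => by
      rcases eq_or_ne i (Fin.last k) with rfl | hi
      · rw [hd, Function.update_self]
        rcases hdl with e | e <;> rw [e]
        · exact one_ne_zero
        · exact fun e1 => hα (e1 ▸ IsSquare.zero)
      · rw [hd, Function.update_of_ne hi]; exact one_ne_zero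
    have key : ∀ v : Fin (k + 1) → K, bl M (P.1 *ᵥ v) (P.1 *ᵥ v) = ∑ i, d i * v i * v i := fun v => by
      rw [bl_mulVec, hP, bl]
      simp [dotProduct, mulVec_diagonal]
      exact Finset.sum_congr rfl fun i _ => by ring
    convert even_sing_diag h.two d hd0 using 1
    refine Nat.card_congr (Equiv.subtypeEquiv (pperm P⁻¹) fun Q => ?_)
    obtain ⟨v, hv, rfl⟩ : ∃ v hv, Q = Projectivization.mk K v hv := ⟨Q.rep, Q.rep_nonzero, Q.mk_rep.symm⟩
    rw [h.rep_sing hv, pperm_mk]
    obtain ⟨a, ha⟩ := Projectivization.exists_smul_eq_mk_rep K ((P⁻¹).1 *ᵥ v) (gl_mulVec_ne _ hv)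
    rw [← ha, ← key, Units.smul_def, mulVec_smul, h.smul_self, mulVec_mulVec, ← Units.val_mul P P⁻¹, mul_inv_cancel,
      Units.val_one, one_mulVec, mul_eq_zero, or_iff_right (mul_ne_zero a.ne_zero a.ne_zero)]
  · rw [Nat.card_congr (Equiv.subtypeUnivEquiv (fun P : ℙ K (Fin n → K) => h.self_of_alt hs P.rep)),
      Projectivization.card_of_finrank K (Fin n → K) (n := n) (by simp)]
    have hne : Even n := by
      by_contra ho
      have h1 : M.det = (-1) ^ n * M.det := by
        conv_lhs => rw [← Matrix.det_transpose, h.tr, hs, Matrix.det_smul, Fintype.card_fin]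
      rw [(Nat.not_even_iff_odd.1 ho).neg_one_pow] at h1
      exact h.det ((mul_eq_zero.1 (show (2 : K) * M.det = 0 by linear_combination h1)).resolve_left h.two)
    have ho : Odd (Nat.card K) := by
      rw [Nat.card_eq_fintype_card]
      exact Nat.odd_iff.2 (FiniteField.odd_card_of_char_ne_two (fun e => h.two (by
        haveI : CharP K 2 := ringChar.of_eq e
        exact CharTwo.two_eq_zero)))
    rw [Finset.even_sum_iff_even_card_odd, Finset.filter_true_of_mem (fun i _ => ho.pow), Finset.card_range]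
    exact hne

/-- similarities normalised by the Siegel transvections, of odd order modulo scalars, fix every singular point -/
theorem odd_normal_line [Fintype K] (hn : 3 ≤ n) (W : Subgroup (GL (Fin n) K)) (hW : W ≤ simGrp M)
    (hnorm : ∀ U, Sieg M s U → ∀ w ∈ W, U * w * U⁻¹ ∈ W)
    (hodd : ∀ w ∈ W, ∃ m, Odd m ∧ ∃ c : K, (w ^ m).1 = c • 1)
    {e : Fin n → K} (he0 : e ≠ 0) (he : bl M e e = 0) {w : GL (Fin n) K} (hw : w ∈ W) :
    ∃ l : K, w.1 *ᵥ e = l • e := by
  classical
  haveI : Finite (ℙ K (Fin n → K)) := Quotient.finite _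
  haveI : Finite (Equiv.Perm (ℙ K (Fin n → K))) := inferInstance
  obtain ⟨G', hG'⟩ : ∃ G' : Subgroup (Equiv.Perm (ℙ K (Fin n → K))), G' = W.map pperm := ⟨_, rfl⟩
  have hG'odd : Odd (Nat.card G') := by
    rw [← Nat.not_even_iff_odd, even_iff_two_dvd]
    intro h2
    obtain ⟨⟨x, hx⟩, hx2⟩ := exists_prime_orderOf_dvd_card' (G := G') 2 h2
    rw [Subgroup.orderOf_mk] at hx2
    rw [hG', Subgroup.mem_map] at hx
    obtain ⟨v, hv, rfl⟩ := hx
    obtain ⟨m, hm, c, hc⟩ := hodd v hv
    have h1 : pperm v ^ m = 1 := by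
      rw [← map_pow]
      refine Equiv.ext fun P => ?_
      obtain ⟨u, hu, rfl⟩ : ∃ u hu, P = Projectivization.mk K u hu := ⟨P.rep, P.rep_nonzero, P.mk_rep.symm⟩
      rw [pperm_mk, Equiv.Perm.one_apply, Projectivization.mk_eq_mk_iff']
      exact ⟨c, by rw [hc, smul_mulVec, one_mulVec]⟩
    have h3 := orderOf_dvd_of_pow_eq_one h1
    rw [hx2] at h3
    exact (Nat.not_even_iff_odd.2 hm) (even_iff_two_dvd.2 h3)
  -- orbit membership
  have horb : ∀ (v : Fin n → K) (hv : v ≠ 0) (Q : ℙ K (Fin n → K)),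
      Q ∈ MulAction.orbit G' (Projectivization.mk K v hv) ↔
        ∃ x ∈ W, Q = Projectivization.mk K ((x : GL (Fin n) K).1 *ᵥ v) (gl_mulVec_ne x hv) := by
    intro v hv Q
    constructor
    · rintro ⟨⟨g, hg⟩, rfl⟩
      rw [hG', Subgroup.mem_map] at hg
      obtain ⟨x, hx, rfl⟩ := hg
      exact ⟨x, hx, pperm_mk x hv⟩
    · rintro ⟨x, hx, rfl⟩
      exact ⟨⟨pperm x, hG' ▸ Subgroup.mem_map_of_mem _ hx⟩, pperm_mk x hv⟩
  -- `Rel a b`: the points of `a`, `b` are in one orbit
  let Rel : (Fin n → K) → (Fin n → K) → Prop := fun a b => ∃ x ∈ W, ∃ l : K, b = l • (x : GL (Fin n) K).1 *ᵥ a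
  have relTrans : ∀ {a b c}, Rel a b → Rel b c → Rel a c := by
    rintro a b c ⟨x, hx, l, rfl⟩ ⟨y, hy, m, rfl⟩
    exact ⟨y * x, mul_mem hy hx, m * l, by rw [mulVec_smul, smul_smul, Units.val_mul, mulVec_mulVec]⟩
  have relSymm : ∀ {a b}, b ≠ 0 → Rel a b → Rel b a := by
    rintro a b hb ⟨x, hx, l, rfl⟩
    have hl : l ≠ 0 := fun e => hb (by rw [e, zero_smul])
    exact ⟨x⁻¹, inv_mem hx, l⁻¹, by
      rw [mulVec_smul, smul_smul, inv_mul_cancel₀ hl, one_smul, mulVec_mulVec, ← Units.val_mul, inv_mul_cancel,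
        Units.val_one, one_mulVec]⟩
  have relSelf : ∀ a, Rel a a := fun a => ⟨1, one_mem _, 1, by rw [Units.val_one, one_mulVec, one_smul]⟩
  have relSing : ∀ {a b}, bl M a a = 0 → Rel a b → bl M b b = 0 := by
    rintro a b ha ⟨x, hx, l, rfl⟩
    obtain ⟨c, hc⟩ := hW hx
    rw [h.smul_self, bl_mulVec, show x.1ᵀ * M * x.1 = _ from hc, bl, smul_mulVec, dotProduct_smul]
    show l * l * ((c : K) • bl M a a) = 0
    rw [ha, smul_zero, mul_zero]
  have relU : ∀ {a b} (U : GL (Fin n) K), Sieg M s U → U.1 *ᵥ a = a → Rel a b → Rel a (U.1 *ᵥ b) := by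
    rintro a b U hU hUa ⟨x, hx, l, rfl⟩
    refine ⟨U * x * U⁻¹, hnorm U hU x hx, l, ?_⟩
    have h1 : (U⁻¹).1 *ᵥ a = a := by
      conv_lhs => rw [← hUa]
      rw [mulVec_mulVec, ← Units.val_mul, inv_mul_cancel, Units.val_one, one_mulVec]
    rw [Units.val_mul, Units.val_mul, ← mulVec_mulVec, ← mulVec_mulVec, h1, mulVec_smul]
  -- step 1: an orbit of a singular point is pairwise orthogonal
  have perp : ∀ {a b}, a ≠ 0 → bl M a a = 0 → Rel a b → bl M b a = 0 := by
    intro a b ha0 ha hab
    by_contra hba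
    -- all non-orthogonal singular vectors are in the orbit of `a`
    have cover : ∀ {a' b'}, a' ≠ 0 → bl M a' a' = 0 → Rel a' b' → bl M b' a' ≠ 0 → ∀ g, bl M g g = 0 →
        bl M g a' ≠ 0 → Rel a' g := by
      intro a' b' ha'0 ha' hab' hne g hg hga
      obtain ⟨f, hfdef⟩ : ∃ f, f = (bl M b' a')⁻¹ • b' := ⟨_, rfl⟩
      obtain ⟨g', hgdef⟩ : ∃ g', g' = (bl M g a')⁻¹ • g := ⟨_, rfl⟩
      have hf1 : bl M f a' = 1 := by rw [hfdef, bl_smul_left, inv_mul_cancel₀ hne]
      have hg1 : bl M g' a' = 1 := by rw [hgdef, bl_smul_left, inv_mul_cancel₀ hga]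
      have hff : bl M f f = 0 := by rw [hfdef, h.smul_self, relSing ha' hab', mul_zero]
      have hgg : bl M g' g' = 0 := by rw [hgdef, h.smul_self, hg, mul_zero]
      have hr : Rel a' f := relTrans hab' ⟨1, one_mem _, (bl M b' a')⁻¹, by rw [Units.val_one, one_mulVec, hfdef]⟩
      have hu : bl M a' (g' + (-1 : K) • f) = 0 := by
        rw [bl_add_right, bl_smul_right, h.symm g' a', h.symm f a', hf1, hg1]; ring
      obtain ⟨U, hU, hUv⟩ := h.exists_sieg (u := g' + (-1 : K) • f) (c := s * bl M f g') ha'0 ha' hu (by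
        simp only [bl_add_left, bl_add_right, bl_smul_left, bl_smul_right, hff, hgg, h.symm f g']
        linear_combination (bl M f g') * h.s_sq)
      have hUa : U.1 *ᵥ a' = a' := by
        rw [hUv, add_mulVec, one_mulVec, siegN_mulVec, ha', hu]; simp
      have hUf : U.1 *ᵥ f = g' := by
        rw [hUv, add_mulVec, one_mulVec, siegN_mulVec, hf1]
        simp only [bl_add_right, bl_smul_right, hff]
        module
      exact relTrans (hUf ▸ relU U hU hUa hr) ⟨1, one_mem _, bl M g a', by
        rw [Units.val_one, one_mulVec, hgdef, smul_smul, mul_inv_cancel₀ hga, one_smul]⟩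
    have hcov : ∀ g, g ≠ 0 → bl M g g = 0 → Rel a g := by
      intro g hg0 hg
      by_cases hga : bl M g a = 0
      swap
      · exact cover ha0 ha hab hba g hg hga
      by_cases hpar : ∃ l : K, g = l • a
      · obtain ⟨l, hl⟩ := hpar
        exact ⟨1, one_mem _, l, by rw [Units.val_one, one_mulVec, hl]⟩
      obtain ⟨x, hx1, hx2⟩ := h.exists_dual ha0 (fun l hl => hpar ⟨l, hl⟩) 1 1
      obtain ⟨z, hzdef⟩ : ∃ z, z = x + (-(bl M x x) / 2) • a := ⟨_, rfl⟩
      have hzz : bl M z z = 0 := hzdef ▸ h.singular_shift ha hx2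
      have hza : bl M z a = 1 := by rw [hzdef, bl_add_left, bl_smul_left, ha, mul_zero, add_zero, hx2]
      have hzg : bl M z g = 1 := by
        rw [hzdef, bl_add_left, bl_smul_left, h.perp_symm hga, mul_zero, add_zero, hx1]
      have hz0 : z ≠ 0 := fun e => by rw [e, bl_zero_left] at hza; exact zero_ne_one hza
      have h1 : Rel a z := cover ha0 ha hab hba z hzz (by rw [hza]; exact one_ne_zero)
      have h2 : Rel z g := cover hz0 hzz (relSymm hz0 h1)
        (by rw [h.symm z a, hza, mul_one]; exact h.s_ne) g hg (by rw [h.symm z g, hzg, mul_one]; exact h.s_ne)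
      exact relTrans h1 h2
    have hall : MulAction.orbit G' (Projectivization.mk K a ha0) = {P | bl M P.rep P.rep = 0} := by
      ext Q
      obtain ⟨g, hg0, rfl⟩ : ∃ g hg, Q = Projectivization.mk K g hg := ⟨Q.rep, Q.rep_nonzero, Q.mk_rep.symm⟩
      rw [horb, Set.mem_setOf_eq, h.rep_sing hg0]
      constructor
      · rintro ⟨x, hx, he⟩
        rw [Projectivization.mk_eq_mk_iff'] at he
        obtain ⟨l, hl⟩ := he
        exact relSing ha ⟨x, hx, l, hl.symm⟩
      · intro hg
        obtain ⟨x, hx, l, hl⟩ := hcov g hg0 hg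
        exact ⟨x, hx, by rw [Projectivization.mk_eq_mk_iff']; exact ⟨l, hl.symm⟩⟩
    have hdvd : Nat.card (MulAction.orbit G' (Projectivization.mk K a ha0)) ∣ Nat.card G' := by
      rw [Nat.card_congr (MulAction.orbitEquivQuotientStabilizer G' _)]
      exact Subgroup.card_quotient_dvd_card _
    rw [hall] at hdvd
    exact (Nat.not_even_iff_odd.2 (Odd.of_dvd_nat hG'odd hdvd)) (h.even_sing hn)
  by_contra hne
  obtain ⟨f, hfdef⟩ : ∃ f, f = w.1 *ᵥ e := ⟨_, rfl⟩
  have hef : Rel e f := ⟨w, hw, 1, by rw [one_smul, hfdef]⟩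
  have hf0 : f ≠ 0 := hfdef ▸ gl_mulVec_ne w he0
  have hff : bl M f f = 0 := relSing he hef
  have hfe : bl M f e = 0 := perp he0 he hef
  have hfpar : ∀ l : K, f ≠ l • e := fun l hl => hne ⟨l, hfdef ▸ hl⟩
  rcases h.sq with hs | hs
  swap
  · -- alternating: `w` squares to a scalar
    obtain ⟨c, hc⟩ := hW hw
    have h1 : ∀ v, bl M v (w.1 *ᵥ v) = 0 := fun v => by
      by_cases hv0 : v = 0
      · rw [hv0, bl_zero_left]
      · exact h.perp_symm (perp hv0 (h.self_of_alt hs v) ⟨w, hw, 1, by rw [one_smul]⟩)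
    have h2 : w.1 *ᵥ (w.1 *ᵥ e) = (c : K) • e := by
      refine sub_eq_zero.1 (h.eq_zero_of_perp fun y => ?_)
      have hp := h1 (y + w.1 *ᵥ e)
      simp only [bl_add_left, bl_add_right, mulVec_add, h1] at hp
      rw [sub_eq_add_neg, ← neg_smul, bl_add_right, bl_smul_right]
      have hmult : bl M (w.1 *ᵥ e) (w.1 *ᵥ y) = (c : K) * bl M e y := by
        rw [bl_mulVec, show w.1ᵀ * M * w.1 = _ from hc, bl, smul_mulVec, dotProduct_smul]; rfl
      rw [hmult, h.symm y e, hs] at hp
      linear_combination hp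
    obtain ⟨m, ⟨k, rfl⟩, d, hd⟩ := hodd w hw
    have h3 : ∀ i, (w ^ (2 * i)).1 *ᵥ e = (c : K) ^ i • e := by
      intro i
      induction i with
      | zero => simp
      | succ i ih =>
        rw [show 2 * (i + 1) = 1 + 1 + 2 * i by ring, pow_add, pow_add, pow_one, Units.val_mul, Units.val_mul,
          ← mulVec_mulVec, ih, mulVec_smul, ← mulVec_mulVec, h2, smul_smul, ← pow_succ]
    have h4 : (c : K) ^ k • f = d • e := by
      have := congrArg (fun A => A *ᵥ e) hd
      simp only [smul_mulVec, one_mulVec] at this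
      rwa [pow_succ', Units.val_mul, ← mulVec_mulVec, h3, mulVec_smul, ← hfdef] at this
    refine hfpar (((c : K) ^ k)⁻¹ * d) ?_
    rw [← smul_smul, ← h4, smul_smul, inv_mul_cancel₀ (pow_ne_zero _ c.ne_zero), one_smul]
  -- symmetric: the orbit would be a line
  have hline : ∀ t : K, Rel e (f + t • e) := by
    intro t
    obtain ⟨u, hu1, hu2⟩ := h.exists_dual he0 hfpar (-t) 0
    have heu : bl M e u = 0 := h.perp_symm hu2
    have hfu : bl M f u = -t := by rw [h.symm u f, hs, one_mul, hu1]
    obtain ⟨U, hU, hUv⟩ := h.exists_sieg (c := -(bl M u u) / 2) he0 he heu (by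
      rw [hs, show (1 : K) + 1 = 2 by norm_num, mul_div_cancel₀ _ h.two, add_neg_cancel])
    have hUe : U.1 *ᵥ e = e := by
      rw [hUv, add_mulVec, one_mulVec, siegN_mulVec, he, heu]; simp
    have hUf : U.1 *ᵥ f = f + t • e := by
      rw [hUv, add_mulVec, one_mulVec, siegN_mulVec, hfe, hfu, hs]; simp
    exact hUf ▸ relU U hU hUe hef
  obtain ⟨x, hx1, hx2⟩ := h.exists_dual he0 hfpar 1 0
  -- `e'` meets `f` but not `e`
  obtain ⟨e', he'e, he'f, he'0⟩ : ∃ e', bl M e' e = 0 ∧ bl M e' f = 1 ∧ bl M e' e' = 0 :=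
    ⟨x + (-(bl M x x) / 2) • f, by rw [bl_add_left, bl_smul_left, hfe, mul_zero, add_zero, hx2],
      by rw [bl_add_left, bl_smul_left, hff, mul_zero, add_zero, hx1], h.singular_shift hff hx1⟩
  have he'ne : e' ≠ 0 := fun e1 => by rw [e1, bl_zero_left] at he'f; exact zero_ne_one he'f
  have TS : ∀ u, bl M u e = 0 → bl M u e' = 0 → bl M u u = 0 := by
    intro u hue hue'
    by_contra huu
    obtain ⟨U, hU, hUv⟩ := h.exists_sieg (u := u) (c := -(bl M u u) / 2) he'ne he'0 (h.perp_symm hue') (by
      rw [hs, show (1 : K) + 1 = 2 by norm_num, mul_div_cancel₀ _ h.two, add_neg_cancel])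
    have hUe : U.1 *ᵥ e = e := by
      rw [hUv, add_mulVec, one_mulVec, siegN_mulVec, h.perp_symm he'e, h.perp_symm hue]; simp
    have h1 : Rel f (U.1 *ᵥ f) := relTrans (relSymm hf0 hef) (relU U hU hUe hef)
    have h2 := perp hf0 hff h1
    have hfe' : bl M f e' = 1 := by rw [h.symm e' f, hs, one_mul, he'f]
    rw [hUv, add_mulVec, one_mulVec, siegN_mulVec, hfe', hs] at h2
    simp only [bl_add_left, bl_smul_left, hff, he'f, h.symm f u, hs] at h2
    exact huu ((mul_eq_zero.1 (show (2 : K)⁻¹ * bl M u u = 0 by linear_combination -h2)).resolve_left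
      (inv_ne_zero h.two))
  have hee' : bl M e e' = 0 := h.perp_symm he'e
  let L : (Fin n → K) →ₗ[K] K × K :=
    { toFun := fun v => (bl M v e, bl M v e')
      map_add' := fun a b => by simp [bl_add_left]
      map_smul' := fun c a => by simp [bl_smul_left] }
  -- the totally singular kernel is spanned by `e` and `e'`
  have hker : LinearMap.ker L ≤ Submodule.span K {e, e'} := by
    intro y hy
    have hy1 : bl M y e = 0 := congrArg Prod.fst (LinearMap.mem_ker.1 hy)
    have hy2 : bl M y e' = 0 := congrArg Prod.snd (LinearMap.mem_ker.1 hy)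
    have hz : ∀ v, bl M v e = 0 → bl M v e' = 0 → bl M v y = 0 := by
      intro v hv1 hv2
      have h1 := TS (v + y) (by rw [bl_add_left, hv1, hy1, add_zero]) (by rw [bl_add_left, hv2, hy2, add_zero])
      rw [bl_add_left, bl_add_right, bl_add_right, TS v hv1 hv2, TS y hy1 hy2, h.symm v y, hs] at h1
      exact (mul_eq_zero.1 (show (2 : K) * bl M v y = 0 by linear_combination h1)).resolve_left h.two
    have hpar : ∀ a : K, e ≠ a • e' := fun a e1 => by
      have := h.perp_symm hfe
      rw [e1, bl_smul_left, he'f, mul_one] at this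
      exact he0 (by rw [e1, this, zero_smul])
    have hpar' : ∀ a : K, e' ≠ a • e := fun a e1 => by
      rw [e1, bl_smul_left, h.perp_symm hfe, mul_zero] at he'f; exact zero_ne_one he'f
    obtain ⟨x1, h11, h12⟩ := h.exists_dual he'ne hpar 1 0
    obtain ⟨x2, h21, h22⟩ := h.exists_dual he0 hpar' 1 0
    refine Submodule.mem_span_pair.2 ⟨bl M x1 y, bl M x2 y, (sub_eq_zero.1 (h.eq_zero_of_perp fun v => ?_))⟩
    have h1 := hz (v + (-(bl M v e)) • x1 + (-(bl M v e')) • x2)
      (by simp only [bl_add_left, bl_smul_left, h11, h22]; ring)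
      (by simp only [bl_add_left, bl_smul_left, h12, h21]; ring)
    simp only [bl_add_left, bl_smul_left] at h1
    rw [sub_eq_add_neg, ← neg_one_smul K y, bl_add_right, bl_smul_right, bl_add_right, bl_smul_right, bl_smul_right]
    linear_combination -h1
  have hn4 : n ≤ 4 := by
    have h1 := LinearMap.finrank_range_add_finrank_ker L
    have h2 := Submodule.finrank_mono hker
    have h3 := (LinearMap.range L).finrank_le
    have h4 : Module.finrank K (Submodule.span K ({e, e'} : Set (Fin n → K))) ≤ 2 := by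
      refine (finrank_span_le_card _).trans ?_
      rw [Set.toFinset_insert, Set.toFinset_singleton]
      exact Finset.card_le_two
    rw [Module.finrank_fintype_fun_eq_card, Fintype.card_fin] at h1
    rw [Module.finrank_prod, Module.finrank_self] at h3
    omega
  have hspan : ∀ g, bl M g e = 0 → bl M g f = 0 → ∃ a b : K, g = a • e + b • f := by
    let L' : (Fin n → K) →ₗ[K] K × K :=
      { toFun := fun v => (bl M v e, bl M v f)
        map_add' := fun a b => by simp [bl_add_left]
        map_smul' := fun c a => by simp [bl_smul_left] }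
    have hsurj : LinearMap.range L' = ⊤ := by
      rw [LinearMap.range_eq_top]
      rintro ⟨a, b⟩
      obtain ⟨v, hv1, hv2⟩ := h.exists_dual he0 hfpar b a
      exact ⟨v, Prod.ext hv2 hv1⟩
    have hle : Submodule.span K {e, f} ≤ LinearMap.ker L' := by
      rw [Submodule.span_le]
      rintro v (rfl | rfl)
      · exact LinearMap.mem_ker.2 (Prod.ext he (h.perp_symm hfe))
      · exact LinearMap.mem_ker.2 (Prod.ext hfe hff)
    have hli : LinearIndependent K ![e, f] :=
      (LinearIndependent.pair_iff' he0).2 fun a e1 => hfpar a e1.symm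
    have hdim : Module.finrank K (Submodule.span K ({e, f} : Set (Fin n → K))) = 2 := by
      have h1 := finrank_span_eq_card hli
      rwa [Matrix.range_cons_cons_empty, Fintype.card_fin] at h1
    have h1 := LinearMap.finrank_range_add_finrank_ker L'
    rw [hsurj, finrank_top, Module.finrank_prod, Module.finrank_self, Module.finrank_fintype_fun_eq_card,
      Fintype.card_fin] at h1
    have heq := Submodule.eq_of_le_of_finrank_le hle (by omega)
    intro g hg1 hg2
    have hg : g ∈ LinearMap.ker L' := LinearMap.mem_ker.2 (Prod.ext hg1 hg2)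
    rw [← heq, Submodule.mem_span_pair] at hg
    obtain ⟨a, b, hab⟩ := hg
    exact ⟨a, b, hab.symm⟩
  -- count the points of the orbit
  let ψ : Option K → ℙ K (Fin n → K) := fun o =>
    o.elim (Projectivization.mk K e he0) fun t => Projectivization.mk K (f + t • e) (fun e1 => hfpar (-t) (by
      rw [neg_smul]; exact eq_neg_of_add_eq_zero_left e1))
  have hψ : Function.Injective ψ := by
    rintro (_ | a) (_ | b) hab
    · rfl
    · exfalso
      obtain ⟨l, hl⟩ := (Projectivization.mk_eq_mk_iff' K _ _ _ _).1 hab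
      have hl0 : l ≠ 0 := fun e1 => he0 (by rw [← hl, e1, zero_smul])
      refine hfpar (l⁻¹ - b) ?_
      rw [sub_smul]
      nth_rw 1 [← hl]
      rw [smul_smul, inv_mul_cancel₀ hl0, one_smul, add_sub_cancel_right]
    · exfalso
      obtain ⟨l, hl⟩ := (Projectivization.mk_eq_mk_iff' K _ _ _ _).1 hab
      exact hfpar (l - a) (by rw [sub_smul, hl, add_sub_cancel_right])
    · obtain ⟨l, hl⟩ := (Projectivization.mk_eq_mk_iff' K _ _ _ _).1 hab
      have h1 : (l - 1) • f + (l * b - a) • e = 0 := by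
        rw [smul_add, smul_smul] at hl
        rw [sub_smul, sub_smul, one_smul]
        rw [← sub_eq_zero] at hl
        rw [← hl]; abel
      have hl1 : l = 1 := by
        by_contra hne'
        refine hfpar (-(l - 1)⁻¹ * (l * b - a)) ?_
        rw [← smul_smul, eq_neg_of_add_eq_zero_right h1, neg_smul, smul_neg, neg_neg, smul_smul,
          inv_mul_cancel₀ (sub_ne_zero.2 hne'), one_smul]
      subst hl1
      rw [sub_self, zero_smul, zero_add, one_mul, smul_eq_zero] at h1
      rw [(sub_eq_zero.1 (h1.resolve_right he0) : b = a)]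
  have hall : MulAction.orbit G' (Projectivization.mk K e he0) = Set.range ψ := by
    ext Q
    obtain ⟨g, hg0, rfl⟩ : ∃ g hg, Q = Projectivization.mk K g hg := ⟨Q.rep, Q.rep_nonzero, Q.mk_rep.symm⟩
    rw [horb]
    constructor
    · rintro ⟨x, hx, hgx⟩
      obtain ⟨l, hl⟩ := (Projectivization.mk_eq_mk_iff' K _ _ _ _).1 hgx
      have hg : Rel e g := ⟨x, hx, l, hl.symm⟩
      obtain ⟨a, b, rfl⟩ := hspan g (perp he0 he hg) (perp hf0 hff (relTrans (relSymm hf0 hef) hg))
      by_cases hb : b = 0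
      · refine ⟨none, ?_⟩
        subst hb
        have ha : a ≠ 0 := fun e1 => hg0 (by rw [e1, zero_smul, zero_smul, add_zero])
        show Projectivization.mk K e he0 = _
        rw [Projectivization.mk_eq_mk_iff']
        exact ⟨a⁻¹, by rw [zero_smul, add_zero, smul_smul, inv_mul_cancel₀ ha, one_smul]⟩
      · refine ⟨some (b⁻¹ * a), ?_⟩
        show Projectivization.mk K _ _ = _
        rw [Projectivization.mk_eq_mk_iff']
        exact ⟨b⁻¹, by rw [smul_add, smul_smul, smul_smul, inv_mul_cancel₀ hb, one_smul, add_comm]⟩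
    · rintro ⟨_ | t, ht⟩
      · obtain ⟨l, hl⟩ := (Projectivization.mk_eq_mk_iff' K _ _ _ _).1 ht.symm
        exact ⟨1, one_mem _, by
          rw [Projectivization.mk_eq_mk_iff']; exact ⟨l, by rw [Units.val_one, one_mulVec]; exact hl⟩⟩
      · obtain ⟨l, hl⟩ := (Projectivization.mk_eq_mk_iff' K _ _ _ _).1 ht.symm
        obtain ⟨x, hx, m, hm⟩ := hline t
        exact ⟨x, hx, by
          rw [Projectivization.mk_eq_mk_iff']; exact ⟨l * m, by rw [← hl, hm, smul_smul]⟩⟩
  have hdvd : Nat.card (MulAction.orbit G' (Projectivization.mk K e he0)) ∣ Nat.card G' := by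
    rw [Nat.card_congr (MulAction.orbitEquivQuotientStabilizer G' _)]
    exact Subgroup.card_quotient_dvd_card _
  rw [hall, Nat.card_range_of_injective hψ, Nat.card_eq_fintype_card, Fintype.card_option] at hdvd
  refine Nat.not_even_iff_odd.2 (Odd.of_dvd_nat hG'odd hdvd) (Odd.add_one (Nat.odd_iff.2
    (FiniteField.odd_card_of_char_ne_two fun e1 => h.two ?_)))
  haveI : CharP K 2 := ringChar.of_eq e1
  exact CharTwo.two_eq_zero

/-- such a group consists of scalars -/
theorem odd_normal_scalar [Fintype K] (hn : 3 ≤ n) (W : Subgroup (GL (Fin n) K)) (hW : W ≤ simGrp M)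
    (hnorm : ∀ U, Sieg M s U → ∀ w ∈ W, U * w * U⁻¹ ∈ W)
    (hodd : ∀ w ∈ W, ∃ m, Odd m ∧ ∃ c : K, (w ^ m).1 = c • 1) {w : GL (Fin n) K} (hw : w ∈ W) :
    ∃ c : K, w.1 = c • 1 :=
  h.scalar_of_lines hn _ fun e he0 he => h.odd_normal_line hn W hW hnorm hodd he0 he hw

end OddForm

end CfsgLib.FormCl
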