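import Mathlib
import Cfsg.Agent.Lib.FormClass.Basic
import Cfsg.Agent.Lib.Descent.Similitude
import Cfsg.Agent.Lib.Classical.AltCongruence

/-!
# The alternating class
-/

set_option autoImplicit false
set_option linter.all false

namespace CfsgLib.FormCl

open Matrix

variable {K : Type*} [Field K]
variable {κ ι : Type} [Fintype κ] [DecidableEq κ] [Fintype ι] [DecidableEq ι]

theorem similarity_eq (M : Matrix κ κ K) :
    Cfsg.Geo.similarityGroup (fun u v : κ → K => u ⬝ᵥ (M *ᵥ v)) = simGrp M := by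
  ext g
  show (∃ c : Kˣ, ∀ u v : κ → K, (g.1 *ᵥ u) ⬝ᵥ (M *ᵥ (g.1 *ᵥ v)) = (c : K) * (u ⬝ᵥ (M *ᵥ v))) ↔ _
  refine exists_congr fun c => ?_
  have key : ∀ u v : κ → K, (g.1 *ᵥ u) ⬝ᵥ (M *ᵥ (g.1 *ᵥ v)) = u ⬝ᵥ ((g.1ᵀ * M * g.1) *ᵥ v) := fun u v => by
    rw [← Matrix.mulVec_mulVec, ← Matrix.mulVec_mulVec, dotProduct_comm (g.1 *ᵥ u), Matrix.dotProduct_mulVec,
      ← Matrix.mulVec_transpose, dotProduct_comm]
  constructor
  · intro h
    ext i j
    have h1 := h (Pi.single i 1) (Pi.single j 1)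
    rw [key] at h1
    simpa [single_one_dotProduct] using h1
  · intro h u v
    rw [key, h, Matrix.smul_mulVec, dotProduct_smul, smul_eq_mul]

/-- The Gram matrix of the symplectic form. -/
abbrev JM (m : ℕ) (K : Type*) [Field K] : Matrix (Fin m ⊕ Fin m) (Fin m ⊕ Fin m) K := Matrix.J (Fin m) K

theorem gsp_eq (m : ℕ) : Cfsg.GSp m K = simGrp (JM m K) := similarity_eq _

theorem det_JM_ne (m : ℕ) : (JM m K).det ≠ 0 := by
  have h : (JM m K * JM m K).det ≠ 0 := by
    rw [Matrix.J_squared, Matrix.det_neg, Matrix.det_one, mul_one]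
    exact pow_ne_zero _ (neg_ne_zero.2 one_ne_zero)
  rw [Matrix.det_mul] at h
  exact fun h0 => h (by rw [h0, mul_zero])

theorem alt_cong_JM {m : ℕ} (M : Matrix κ κ K) (hc : Fintype.card κ = 2 * m)
    (hM : CfsgLib.Classical.AltCongr.IsAltM M) (hd : M.det ≠ 0) : Cong M (JM m K) := by
  classical
  let e : κ ≃ Fin m ⊕ Fin m := Fintype.equivOfCardEq (by simp [hc, two_mul])
  have h1 : Cong M (M.submatrix e.symm e.symm) := Cong.of_submatrix M e.symm
  have halt : CfsgLib.Classical.AltCongr.IsAltM (M.submatrix e.symm e.symm) :=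
    ⟨fun i => hM.1 _, by rw [Matrix.transpose_submatrix, hM.2]; rfl⟩
  obtain ⟨C, hC⟩ := CfsgLib.Descent.exists_symplectic_basis (M.submatrix e.symm e.symm)
    (fun x => by
      have := CfsgLib.Classical.AltCongr.toBilin_isAlt halt x
      rwa [Matrix.toBilin'_apply'] at this)
    (by rwa [Matrix.det_submatrix_equiv_self])
  exact h1.trans (Cong.of_congr C 1 (by rw [Units.val_one, one_smul, hC]))

/-- the diagonal similarity of the symplectic form -/
theorem exists_mult_JM (m : ℕ) (c : Kˣ) :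
    ∃ d : GL (Fin m ⊕ Fin m) K, Mult (JM m K) d c ∧ d.1.det = (c : K) ^ m := by
  have hdet : (Matrix.diagonal (Sum.elim (fun _ : Fin m => (c : K)) (fun _ : Fin m => 1))).det = (c : K) ^ m := by
    rw [Matrix.det_diagonal, Fintype.prod_sum_type]; simp
  refine ⟨Matrix.GeneralLinearGroup.mkOfDetNeZero
    (Matrix.diagonal (Sum.elim (fun _ : Fin m => (c : K)) (fun _ : Fin m => 1)))
    (hdet.trans_ne (pow_ne_zero m c.ne_zero)), ?_, hdet⟩
  show (Matrix.diagonal (Sum.elim (fun _ : Fin m => (c : K)) (fun _ : Fin m => 1)))ᵀ * JM m K *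
    Matrix.diagonal (Sum.elim (fun _ : Fin m => (c : K)) (fun _ : Fin m => 1)) = (c : K) • JM m K
  rw [Matrix.diagonal_transpose]
  ext i j
  rw [Matrix.mul_diagonal, Matrix.diagonal_mul, Matrix.smul_apply, smul_eq_mul]
  rcases i with i | i <;> rcases j with j | j <;> simp [JM, Matrix.J, Matrix.one_apply] <;>
    split <;> simp

theorem mem_symplectic_iff {m : ℕ} {g : GL (Fin m ⊕ Fin m) K} :
    g ∈ isoGrp (JM m K) ↔ g.1 ∈ Matrix.symplecticGroup (Fin m) K := by
  rw [mem_isoGrp, SymplecticGroup.mem_iff']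

theorem det_mult_JM {m : ℕ} {g : GL (Fin m ⊕ Fin m) K} {c : Kˣ} (hg : Mult (JM m K) g c) :
    g.1.det = (c : K) ^ m := by
  obtain ⟨d, hd, hdd⟩ := exists_mult_JM m c
  have h := hg.mul hd.inv
  rw [mul_inv_cancel, mult_one_iff, mem_symplectic_iff] at h
  have h1 := SymplecticGroup.det_eq_one h
  rw [Units.val_mul, Matrix.det_mul] at h1
  have h2 : (d⁻¹).1.det * d.1.det = 1 := by
    rw [← Matrix.det_mul, ← Units.val_mul, inv_mul_cancel, Units.val_one, Matrix.det_one]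
  rw [← hdd]
  calc g.1.det = g.1.det * ((d⁻¹).1.det * d.1.det) := by rw [h2, mul_one]
    _ = d.1.det := by rw [← mul_assoc, h1, one_mul]

theorem det_mult_alt {m : ℕ} {M : Matrix κ κ K} (hM : Cong M (JM m K)) :
    (∀ g c, Mult M g c → g.1.det = (c : K) ^ m) ∧ ∀ c, ∃ g, Mult M g c := by
  obtain ⟨φ, hφ, -, hdet⟩ := hM.exists_equiv
  refine ⟨fun g c h => ?_, fun c => ?_⟩
  · rw [← hdet g]; exact det_mult_JM ((hφ g c).2 h)
  · obtain ⟨d, hd, -⟩ := exists_mult_JM m c
    exact ⟨φ.symm d, (hφ _ c).1 (by rwa [φ.apply_symm_apply])⟩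

/-- `Sp` as the isometry group of `J`. -/
theorem isoGrp_JM_equiv (m : ℕ) : Nonempty (isoGrp (JM m K) ≃* Matrix.symplecticGroup (Fin m) K) := by
  refine ⟨MulEquiv.ofBijective
    ({ toFun := fun g => ⟨g.1.1, mem_symplectic_iff.1 g.2⟩
       map_one' := rfl
       map_mul' := fun _ _ => rfl } : isoGrp (JM m K) →* Matrix.symplecticGroup (Fin m) K)
    ⟨fun a b h => Subtype.ext (Units.ext (congrArg Subtype.val h)), fun S => ?_⟩⟩
  exact ⟨⟨Matrix.GeneralLinearGroup.mkOfDetNeZero S.1 ((SymplecticGroup.det_eq_one S.2).trans_ne one_ne_zero),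
    mem_symplectic_iff.2 S.2⟩, Subtype.ext rfl⟩

end CfsgLib.FormCl
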