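import Mathlib
import Cfsg.Agent.Lib.FormClass.Symp
import Cfsg.Agent.Lib.Classical.OddOrthEven

/-!
# Symmetric forms in characteristic two
-/

set_option autoImplicit false
set_option linter.all false

namespace CfsgLib.FormCl

open Matrix CfsgLib.Classical

variable {K : Type*} [Field K] [CharP K 2]

theorem two_sq_inj {a b : K} (h : a ^ 2 = b ^ 2) : a = b := CfsgLib.Classical.OddOrthEven.sq_inj h

theorem exists_sq_unit [Finite K] (c : Kˣ) : ∃ r : Kˣ, c = r ^ 2 := by
  obtain ⟨r, hr⟩ := FiniteField.isSquare_of_char_two (ringChar.eq K 2) (c : K)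
  have hr0 : r ≠ 0 := fun h => c.ne_zero (by rw [hr, h, zero_mul])
  exact ⟨Units.mk0 r hr0, Units.ext (by rw [hr, Units.val_pow_eq_pow_val, Units.val_mk0, sq])⟩

variable {n : ℕ}

/-- A symmetric matrix is an alternating one plus a square of a linear form. -/
theorem exists_diag_vec [Finite K] (M : Matrix (Fin n) (Fin n) K) (hs : Mᵀ = M) :
    ∃ d : Fin n → K, AltCongr.IsAltM (M + vecMulVec d d) ∧ ((∃ i, M i i ≠ 0) ↔ d ≠ 0) := by
  have hsq : ∀ a : K, ∃ r : K, r * r = a := fun a => by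
    obtain ⟨r, hr⟩ := FiniteField.isSquare_of_char_two (ringChar.eq K 2) a
    exact ⟨r, hr.symm⟩
  choose r hr using hsq
  refine ⟨fun i => r (M i i), ⟨fun i => ?_, ?_⟩, ?_⟩
  · rw [Matrix.add_apply, vecMulVec_apply, hr, CharTwo.add_self_eq_zero]
  · ext i j
    rw [Matrix.transpose_apply, Matrix.neg_apply, CharTwo.neg_eq, Matrix.add_apply, Matrix.add_apply,
      vecMulVec_apply, vecMulVec_apply, mul_comm, show M j i = M i j from congrFun (congrFun hs i) j]
  · constructor
    · rintro ⟨i, hi⟩ h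
      refine hi ?_
      rw [← hr (M i i), show r (M i i) = 0 from congrFun h i, mul_zero]
    · intro h
      obtain ⟨i, hi⟩ := Function.ne_iff.1 h
      exact ⟨i, fun h0 => hi (by
        show r (M i i) = 0
        exact mul_self_eq_zero.1 ((hr _).trans h0))⟩

omit [CharP K 2] in
/-- An alternating matrix is the pull-back of the standard form, with the rank recorded. -/
theorem alt_pullback [CharP K 2] {A : Matrix (Fin n) (Fin n) K} (h : AltCongr.IsAltM A) :
    ∃ b, 2 * b ≤ n ∧ ∃ R : Matrix (Fin b ⊕ Fin b) (Fin n) K, A = Rᵀ * JM b K * R ∧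
      (2 * b = n → ∀ x, R *ᵥ x = 0 → x = 0) := by
  obtain ⟨b, hb, P, hP⟩ := AltCongr.exists_congr h
  let ι₀ : Fin b ⊕ Fin b → Fin n := fun x => AltCongr.idxEquiv hb (Sum.inl x)
  refine ⟨b, hb, P.1.submatrix ι₀ id, ?_, fun heq x hx => ?_⟩
  · rw [hP]
    ext i j
    rw [Matrix.mul_apply, Matrix.mul_apply, ← (AltCongr.idxEquiv hb).sum_comp, Fintype.sum_sum_type]
    have hz : ∀ a : Fin (n - 2 * b), (P.1ᵀ * AltCongr.stdK hb K) i (AltCongr.idxEquiv hb (Sum.inr a)) = 0 := fun a => by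
      rw [Matrix.mul_apply]
      refine Finset.sum_eq_zero fun y _ => ?_
      simp [AltCongr.stdK, AltCongr.stdM_apply]
    rw [Finset.sum_eq_zero (s := (Finset.univ : Finset (Fin (n - 2 * b)))) (fun a _ => by rw [hz, zero_mul]), add_zero]
    refine Finset.sum_congr rfl fun x _ => ?_
    congr 1
    rw [Matrix.mul_apply, Matrix.mul_apply, ← (AltCongr.idxEquiv hb).sum_comp, Fintype.sum_sum_type,
      Finset.sum_eq_zero (s := (Finset.univ : Finset (Fin (n - 2 * b)))) (fun a _ => by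
        simp [AltCongr.stdK, AltCongr.stdM_apply]), add_zero]
    refine Finset.sum_congr rfl fun y _ => ?_
    simp only [Matrix.transpose_apply, Matrix.submatrix_apply, id, ι₀, AltCongr.stdK, Matrix.reindex_apply,
      Equiv.symm_apply_apply, AltCongr.stdM]
    rw [Matrix.fromBlocks_apply₁₁, Matrix.neg_apply, CharTwo.neg_eq]
  · have h0 : P.1 *ᵥ x = 0 := by
      funext i
      obtain ⟨y | y, rfl⟩ := (AltCongr.idxEquiv hb).surjective i
      · exact congrFun hx y
      · exact absurd y.2 (by omega)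
    have h1 := congrArg ((P⁻¹).1 *ᵥ ·) h0
    simpa [Matrix.mulVec_mulVec, ← Units.val_mul] using h1

/-- normal form in odd dimension -/
def oneJ (m : ℕ) (K : Type*) [Field K] : Matrix (Unit ⊕ (Fin m ⊕ Fin m)) (Unit ⊕ (Fin m ⊕ Fin m)) K :=
  fromBlocks 1 0 0 (JM m K)

omit [CharP K 2] in
theorem det_oneJ_ne (m : ℕ) : (oneJ m K).det ≠ 0 := by
  rw [oneJ, det_fromBlocks_zero₂₁, det_one, one_mul]; exact det_JM_ne m

omit [CharP K 2] in
/-- injective pull-backs are congruences -/
theorem cong_of_pullback {κ : Type} [Fintype κ] [DecidableEq κ] (M : Matrix (Fin n) (Fin n) K) (N : Matrix κ κ K)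
    (hc : Fintype.card κ = n) (T : Matrix κ (Fin n) K) (hM : M = Tᵀ * N * T) (hd : M.det ≠ 0) : Cong M N := by
  let e : Fin n ≃ κ := (Fintype.equivFinOfCardEq hc).symm
  have h2 : M = (T.submatrix e id)ᵀ * N.submatrix e e * T.submatrix e id := by
    rw [Matrix.transpose_submatrix, Matrix.submatrix_mul_equiv, Matrix.submatrix_mul_equiv, hM]; rfl
  have hT : (T.submatrix e id).det ≠ 0 := fun h0 => hd (by rw [h2, Matrix.det_mul, h0, mul_zero])
  refine (Cong.symm ⟨e.symm, reindexGL e (Matrix.GeneralLinearGroup.mkOfDetNeZero _ hT), 1, ?_⟩)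
  rw [Units.val_one, one_smul, reindexGL_val]
  show M.submatrix e.symm e.symm = ((T.submatrix e id).submatrix e.symm e.symm)ᵀ * N * (T.submatrix e id).submatrix e.symm e.symm
  rw [Matrix.transpose_submatrix]
  conv_lhs => rw [h2]
  rw [← Matrix.submatrix_mul_equiv _ _ _ e.symm, ← Matrix.submatrix_mul_equiv _ _ _ e.symm]
  simp [Function.comp_def, Matrix.transpose_submatrix, Matrix.submatrix_submatrix]
  rfl

/-- Odd dimension: a single class. -/
theorem cong_oneJ [Finite K] {m : ℕ} (M : Matrix (Fin (2 * m + 1)) (Fin (2 * m + 1)) K) (hs : Mᵀ = M)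
    (hd : M.det ≠ 0) : Cong M (oneJ m K) := by
  obtain ⟨d, halt, -⟩ := exists_diag_vec M hs
  obtain ⟨b, hb, R, hR, -⟩ := alt_pullback halt
  let T : Matrix (Unit ⊕ (Fin b ⊕ Fin b)) (Fin (2 * m + 1)) K := fromRows (Matrix.of fun _ j => d j) R
  have hMT : M = Tᵀ * oneJ b K * T := by
    simp only [T, oneJ, Matrix.transpose_fromRows, Matrix.fromCols_mul_fromBlocks, Matrix.fromCols_mul_fromRows,
      Matrix.mul_zero, add_zero, zero_add, Matrix.mul_one, ← hR]
    ext i j
    simp [Matrix.mul_apply, vecMulVec_apply]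
    rw [show d i * d j + (M i j + d i * d j) = M i j + (d i * d j + d i * d j) by ring, CharTwo.add_self_eq_zero,
      add_zero]
  obtain rfl : b = m := by
    have h1 : M.rank ≤ 1 + (b + b) := by
      rw [hMT]
      refine (Matrix.rank_mul_le_left _ _).trans ((Matrix.rank_le_card_width _).trans ?_)
      simp
    rw [Matrix.rank_of_isUnit _ ((Matrix.isUnit_iff_isUnit_det _).2 (isUnit_iff_ne_zero.2 hd)), Fintype.card_fin] at h1
    omega
  exact cong_of_pullback M (oneJ b K) (by simp; omega) T hMT hd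

/-- the distinguished vector -/
def e0 (m : ℕ) (K : Type*) [Field K] : Fin (m + 1) ⊕ Fin (m + 1) → K := Pi.single (Sum.inl 0) 1

/-- normal form in even dimension -/
def plusE (m : ℕ) (K : Type*) [Field K] : Matrix (Fin (m + 1) ⊕ Fin (m + 1)) (Fin (m + 1) ⊕ Fin (m + 1)) K :=
  JM (m + 1) K + vecMulVec (e0 m K) (e0 m K)

omit [CharP K 2] in
theorem congr_add_vecMulVec {κ ι : Type} [Fintype κ] [Fintype ι] [DecidableEq κ] (J : Matrix κ κ K)
    (S : Matrix κ ι K) (u : κ → K) :
    Sᵀ * (J + vecMulVec u u) * S = Sᵀ * J * S + vecMulVec (Sᵀ *ᵥ u) (Sᵀ *ᵥ u) := by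
  rw [Matrix.mul_add, Matrix.add_mul, Matrix.mul_vecMulVec, Matrix.vecMulVec_mul, ← Matrix.mulVec_transpose]

/-- Even dimension: non-alternating forms form one class. -/
theorem cong_plusE [Finite K] {m : ℕ} (M : Matrix (Fin (2 * (m + 1))) (Fin (2 * (m + 1))) K) (hs : Mᵀ = M)
    (hd : M.det ≠ 0) (hna : ∃ i, M i i ≠ 0) : Cong M (plusE m K) := by
  obtain ⟨d, halt, hdne⟩ := exists_diag_vec M hs
  have hd0 : d ≠ 0 := hdne.1 hna
  obtain ⟨b, hb, R, hR, hinj⟩ := alt_pullback halt
  have hM : M = Rᵀ * JM b K * R + vecMulVec d d := by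
    rw [← hR]
    ext i j
    rw [Matrix.add_apply, Matrix.add_apply, add_assoc, CharTwo.add_self_eq_zero, add_zero]
  obtain rfl : b = m + 1 := by
    let T : Matrix (Unit ⊕ (Fin b ⊕ Fin b)) (Fin (2 * (m + 1))) K := fromRows (Matrix.of fun _ j => d j) R
    have hMT : M = Tᵀ * oneJ b K * T := by
      simp only [T, oneJ, Matrix.transpose_fromRows, Matrix.fromCols_mul_fromBlocks, Matrix.fromCols_mul_fromRows,
        Matrix.mul_zero, add_zero, zero_add, Matrix.mul_one]
      refine hM.trans ((add_comm (Rᵀ * JM b K * R) (vecMulVec d d)).trans ?_)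
      congr 1
      ext i j
      simp [Matrix.mul_apply, vecMulVec_apply]
    have h1 : M.rank ≤ 1 + (b + b) := by
      rw [hMT]
      refine (Matrix.rank_mul_le_left _ _).trans ((Matrix.rank_le_card_width _).trans ?_)
      simp
    rw [Matrix.rank_of_isUnit _ ((Matrix.isUnit_iff_isUnit_det _).2 (isUnit_iff_ne_zero.2 hd)), Fintype.card_fin] at h1
    omega
  -- express `d` in the coordinates of `R`
  obtain ⟨u, hu⟩ : ∃ u, Rᵀ *ᵥ u = d := by
    have hinj' : Function.Injective R.mulVecLin := fun x y hxy => sub_eq_zero.1 (hinj rfl _ (by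
      rw [Matrix.mulVec_sub, sub_eq_zero]; exact hxy))
    have h1 : Function.Injective (fun v => v ᵥ* Rᵀ) := fun v w hvw => hinj' (by
      simpa [Matrix.vecMul_transpose] using hvw)
    have hsq : Fintype.card (Fin (m + 1) ⊕ Fin (m + 1)) = Fintype.card (Fin (2 * (m + 1))) := by simp; omega
    let e : Fin (2 * (m + 1)) ≃ Fin (m + 1) ⊕ Fin (m + 1) := (Fintype.equivOfCardEq hsq).symm
    have hu : IsUnit (R.submatrix e id) := by
      rw [← Matrix.mulVec_injective_iff_isUnit]
      intro x y hxy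
      refine hinj' (funext fun i => ?_)
      have := congrFun hxy (e.symm i)
      simpa [Matrix.mulVec, dotProduct] using this
    rw [← Matrix.isUnit_transpose, ← Matrix.mulVec_surjective_iff_isUnit] at hu
    obtain ⟨u, hu⟩ := hu d
    refine ⟨u ∘ e.symm, ?_⟩
    rw [← hu]
    funext i
    simp only [Matrix.mulVec, dotProduct, Matrix.transpose_apply, Matrix.submatrix_apply, id, Function.comp_apply]
    rw [← e.sum_comp]
    simp
  have hu0 : u ≠ 0 := fun h => hd0 (by rw [← hu, h, Matrix.mulVec_zero])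
  have he0 : e0 m K ≠ 0 := fun h => (one_ne_zero : (1 : K) ≠ 0) (by simpa [e0] using congrFun h (Sum.inl 0))
  obtain ⟨S, hS⟩ := CfsgLib.Sp.exists_move he0 hu0
  have hS' : S.1 * JM (m + 1) K * S.1ᵀ = JM (m + 1) K := SymplecticGroup.mem_iff.1 S.2
  refine cong_of_pullback M (plusE m K) (by simp; omega) (S.1ᵀ * R) ?_ hd
  rw [plusE, congr_add_vecMulVec, Matrix.transpose_mul, Matrix.transpose_transpose,
    ← Matrix.mulVec_mulVec, hS, hu, hM]
  congr 1
  conv_lhs => rw [← hS']
  simp only [Matrix.mul_assoc]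

theorem isAltM_of_cong {κ ι : Type} [Fintype κ] [DecidableEq κ] [Fintype ι] [DecidableEq ι]
    {M : Matrix κ κ K} {N : Matrix ι ι K} (h : Cong M N) (hM : AltCongr.IsAltM M) : AltCongr.IsAltM N := by
  have hN : Nᵀ = (-1 : K) • N := h.transpose_eq (by rw [neg_one_smul]; exact hM.2)
  refine ⟨fun i => ?_, by rw [hN, neg_one_smul]⟩
  obtain ⟨e, P, c, h⟩ := h
  have h1 := congrFun (congrFun h (e.symm i)) (e.symm i)
  rw [Matrix.submatrix_apply, Equiv.apply_symm_apply, Matrix.smul_apply, smul_eq_mul] at h1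
  rw [h1]
  have h2 := AltCongr.toBilin_isAlt hM (P.1 *ᵥ Pi.single (e.symm i) 1)
  rw [Matrix.toBilin'_apply', Matrix.mulVec_mulVec, Matrix.dotProduct_mulVec, ← Matrix.mulVec_transpose,
    Matrix.mulVec_mulVec, dotProduct_comm, single_one_dotProduct, Matrix.mulVec_single_one] at h2
  have h3 : (P.1ᵀ * M * P.1) (e.symm i) (e.symm i) = 0 := by
    have h4 : ((M * P.1)ᵀ * P.1) (e.symm i) (e.symm i) = 0 := h2
    rw [Matrix.transpose_mul, hM.2, Matrix.mul_neg, Matrix.neg_mul, Matrix.neg_apply, neg_eq_zero] at h4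
    exact h4
  rw [h3, mul_zero]

theorem not_isAltM_plusE (m : ℕ) : ¬ AltCongr.IsAltM (plusE m K) := fun h => by
  simpa [plusE, e0, JM, Matrix.J, vecMulVec_apply] using h.1 (Sum.inl 0)

theorem not_isAltM_oneJ (m : ℕ) : ¬ AltCongr.IsAltM (oneJ m K) := fun h => by
  simpa [oneJ] using h.1 (Sum.inl ())

end CfsgLib.FormCl
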