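import Mathlib
import Cfsg.Agent.Lib.FormClass.CharTwo
import Cfsg.Agent.Lib.Classical.QuadOrder

/-!
# The similarity groups in characteristic two
-/

set_option autoImplicit false
set_option linter.all false

namespace CfsgLib.FormCl

open Matrix CfsgLib.Classical

variable {K : Type*} [Field K] [CharP K 2] [Finite K]

omit [Finite K] in
theorem scl_iso_eq_one {κ : Type} [Fintype κ] [DecidableEq κ] [Nonempty κ] {M : Matrix κ κ K} (hd : M.det ≠ 0) (r : Kˣ)
    (h : scl (κ := κ) r ∈ isoGrp M) : r = 1 := by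
  have h1 := (mult_scl M r).unique hd (mult_one_iff.2 h)
  apply Units.ext
  refine two_sq_inj ?_
  rw [← Units.val_pow_eq_pow_val, h1, Units.val_one, one_pow]

theorem sim_equiv_iso {κ : Type} [Fintype κ] [DecidableEq κ] [Nonempty κ] {M : Matrix κ κ K} (hd : M.det ≠ 0) :
    Nonempty (Cfsg.projQuot (simGrp M) ≃* isoGrp M) :=
  projQuot_iso_of_square M (fun _ c _ => exists_sq_unit c) (scl_iso_eq_one hd)

omit [Finite K] [CharP K 2] in
theorem oneJ_block {m : ℕ} (h : Matrix (Fin m ⊕ Fin m) (Fin m ⊕ Fin m) K) :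
    (fromBlocks (1 : Matrix Unit Unit K) 0 0 h)ᵀ * oneJ m K * fromBlocks 1 0 0 h =
      fromBlocks 1 0 0 (hᵀ * JM m K * h) := by
  rw [oneJ, fromBlocks_transpose, fromBlocks_multiply, fromBlocks_multiply]
  simp

omit [Finite K] in
theorem oneJ_shape {m : ℕ} {g : GL (Unit ⊕ (Fin m ⊕ Fin m)) K} (hg : g ∈ isoGrp (oneJ m K)) :
    g.1 = fromBlocks 1 0 0 g.1.toBlocks₂₂ ∧ g.1.toBlocks₂₂ ∈ Matrix.symplecticGroup (Fin m) K := by
  rw [mem_isoGrp] at hg
  obtain ⟨A, hA'⟩ : ∃ A, A = g.1.toBlocks₁₁ := ⟨_, rfl⟩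
  obtain ⟨B, hB'⟩ : ∃ B, B = g.1.toBlocks₁₂ := ⟨_, rfl⟩
  obtain ⟨C, hC'⟩ : ∃ C, C = g.1.toBlocks₂₁ := ⟨_, rfl⟩
  obtain ⟨h, hh'⟩ : ∃ h, h = g.1.toBlocks₂₂ := ⟨_, rfl⟩
  rw [← fromBlocks_toBlocks g.1, ← hA', ← hB', ← hC', ← hh'] at hg
  rw [← hh']
  rw [oneJ, fromBlocks_transpose, fromBlocks_multiply, fromBlocks_multiply, fromBlocks_inj] at hg
  simp only [Matrix.mul_one, Matrix.mul_zero, add_zero, zero_add] at hg
  obtain ⟨h11, h12, -, h22⟩ := hg
  have hJ : ∀ x : Fin m ⊕ Fin m → K, x ⬝ᵥ (JM m K *ᵥ x) = 0 := fun x => CfsgLib.Sp.sf_self x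
  -- the distinguished row is fixed
  have hB : B = 0 := by
    ext u i
    have h1 := congrFun (congrFun h22 i) i
    rw [Matrix.add_apply] at h1
    have h2 : (hᵀ * JM m K * h) i i = 0 := by
      rw [Matrix.mul_assoc, Matrix.mul_apply]
      have := hJ (fun k => h k i)
      simpa [dotProduct, Matrix.mulVec, Matrix.mul_apply] using this
    rw [h2, add_zero] at h1
    have h3 : JM m K i i = 0 := by rcases i with i | i <;> simp [JM, Matrix.J]
    rw [h3, Matrix.mul_apply] at h1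
    simp at h1
    exact h1
  have hA : A = 1 := by
    ext u v
    have h1 := congrFun (congrFun h11 u) v
    rw [Matrix.add_apply] at h1
    have h2 : (Cᵀ * JM m K * C) u v = 0 := by
      rw [Matrix.mul_assoc, Matrix.mul_apply]
      have := hJ (fun k => C k u)
      simpa [dotProduct, Matrix.mulVec, Matrix.mul_apply] using this
    rw [h2, add_zero, Matrix.mul_apply] at h1
    simp [Matrix.one_apply] at h1
    have : A () () = 1 := two_sq_inj (by rw [sq, one_pow]; exact h1)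
    simpa [Matrix.one_apply] using this
  rw [hB, Matrix.transpose_zero, Matrix.zero_mul, zero_add] at h22
  rw [hA, hB, Matrix.mul_zero, zero_add] at h12
  have hh : h ∈ Matrix.symplecticGroup (Fin m) K := SymplecticGroup.mem_iff'.2 h22
  have hC : C = 0 := by
    have hu : IsUnit h.det := SymplecticGroup.symplectic_det hh
    have h1 : Cᵀ * JM m K = 0 := by
      have := congrArg (· * h⁻¹) h12
      rwa [Matrix.mul_nonsing_inv_cancel_right _ _ hu, Matrix.zero_mul] at this
    have h2 : Cᵀ = 0 := by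
      have := congrArg (· * JM m K) h1
      simp only [Matrix.mul_assoc, Matrix.J_squared, Matrix.mul_neg, Matrix.mul_one, Matrix.zero_mul, neg_eq_zero] at this
      exact this
    rw [← Matrix.transpose_transpose C, h2, Matrix.transpose_zero]
  refine ⟨?_, hh⟩
  conv_lhs => rw [← fromBlocks_toBlocks g.1, ← hA', ← hB', ← hC', ← hh', hA, hB, hC]

omit [Finite K] in
theorem isoGrp_oneJ_equiv (m : ℕ) : Nonempty (isoGrp (oneJ m K) ≃* Matrix.symplecticGroup (Fin m) K) := by
  refine ⟨MulEquiv.ofBijective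
    ({ toFun := fun g => ⟨g.1.1.toBlocks₂₂, (oneJ_shape g.2).2⟩
       map_one' := Subtype.ext (by
         ext i j
         simp [toBlocks₂₂, Matrix.one_apply])
       map_mul' := fun a b => Subtype.ext (by
         show (a.1.1 * b.1.1).toBlocks₂₂ = a.1.1.toBlocks₂₂ * b.1.1.toBlocks₂₂
         conv_lhs => rw [(oneJ_shape a.2).1, (oneJ_shape b.2).1, fromBlocks_multiply]
         simp [toBlocks_fromBlocks₂₂]) } : isoGrp (oneJ m K) →* Matrix.symplecticGroup (Fin m) K)
    ⟨fun a b h => ?_, fun S => ?_⟩⟩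
  · have h' : a.1.1.toBlocks₂₂ = b.1.1.toBlocks₂₂ := congrArg Subtype.val h
    exact Subtype.ext (Units.ext (by rw [(oneJ_shape a.2).1, (oneJ_shape b.2).1, h']))
  · have hd : (fromBlocks (1 : Matrix Unit Unit K) 0 0 S.1).det ≠ 0 := by
      rw [det_fromBlocks_zero₂₁, det_one, one_mul, SymplecticGroup.det_eq_one S.2]; exact one_ne_zero
    refine ⟨⟨Matrix.GeneralLinearGroup.mkOfDetNeZero _ hd, ?_⟩, Subtype.ext ?_⟩
    · rw [mem_isoGrp]
      show (fromBlocks (1 : Matrix Unit Unit K) 0 0 S.1)ᵀ * oneJ m K * fromBlocks 1 0 0 S.1 = oneJ m K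
      rw [oneJ_block, SymplecticGroup.mem_iff'.1 S.2]
      rfl
    · show (fromBlocks (1 : Matrix Unit Unit K) 0 0 S.1).toBlocks₂₂ = S.1
      rw [toBlocks_fromBlocks₂₂]

omit [CharP K 2] [Finite K] in
theorem mult_quad_scl {ι : Type} [Fintype ι] [DecidableEq ι] (Q : QuadraticForm K (ι → K)) (r : Kˣ) (v : ι → K) :
    Q ((scl (κ := ι) r).1 *ᵥ v) = ((r ^ 2 : Kˣ) : K) * Q v := by
  rw [scl_val, Matrix.smul_mulVec, Matrix.one_mulVec, QuadraticMap.map_smul, smul_eq_mul, sq, Units.val_mul]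

/-- In characteristic two `PGO` of the odd form is `Sp`. -/
theorem pgo_odd_equiv (m : ℕ) :
    Nonempty (Cfsg.PGO K (Cfsg.quadFormOdd m K) ≃* Matrix.symplecticGroup (Fin m) K) := by
  set H := Cfsg.Geo.quadSimilarityGroup (F := K) (Cfsg.quadFormOdd m K) with hH
  set I := Cfsg.isometryGroup K (Cfsg.quadFormOdd m K) with hI
  have hQ := CfsgLib.Classical.oddQ_coe (F := K) m
  have hle : I ≤ H := fun g hg => ⟨1, fun v => by rw [Units.val_one, one_mul]; exact mem_isometryGroup_iff.1 hg v⟩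
  let N := (Cfsg.Geo.scalars (Unit ⊕ (Fin m ⊕ Fin m)) K).subgroupOf H
  let f : I →* Cfsg.PGO K (Cfsg.quadFormOdd m K) := (QuotientGroup.mk' N).comp (Subgroup.inclusion hle)
  have hone : ∀ r : Kˣ, scl r ∈ I → r = 1 := fun r hr => by
    apply Units.ext
    refine two_sq_inj ?_
    have := mem_isometryGroup_iff.1 hr (Pi.single (Sum.inl ()) 1)
    rw [← hQ, mult_quad_scl, hQ] at this
    simpa [Cfsg.quadFormOdd] using this
  have hf : Function.Bijective f := by
    constructor
    · rw [injective_iff_map_eq_one]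
      intro g hg
      have hg1 : g.1 ∈ Cfsg.Geo.scalars _ K :=
        Subgroup.mem_subgroupOf.1 ((QuotientGroup.eq_one_iff (N := N) (Subgroup.inclusion hle g)).1 hg)
      obtain ⟨r, hr⟩ := mem_scalars'.1 hg1
      obtain rfl := hone r (hr ▸ g.2)
      exact Subtype.ext (hr.trans (map_one _))
    · intro y
      obtain ⟨⟨g, c, hg⟩, rfl⟩ := QuotientGroup.mk'_surjective N y
      obtain ⟨r, rfl⟩ := exists_sq_unit c
      have hm : scl r⁻¹ * g ∈ I := mem_isometryGroup_iff.2 fun v => by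
        rw [Units.val_mul, ← Matrix.mulVec_mulVec, ← hQ, mult_quad_scl, hQ, hg, ← mul_assoc, ← Units.val_mul,
          ← mul_pow, inv_mul_cancel, one_pow, Units.val_one, one_mul]
      refine ⟨⟨_, hm⟩, QuotientGroup.eq.2 (Subgroup.mem_subgroupOf.2 ?_)⟩
      show (scl r⁻¹ * g)⁻¹ * g ∈ _
      have hcm : scl r * g = g * scl r := by
        apply Units.ext
        rw [scl_mul_val, Units.val_mul, scl_val, Matrix.mul_smul, Matrix.mul_one]
      rw [_root_.mul_inv_rev, show scl (κ := Unit ⊕ (Fin m ⊕ Fin m)) r⁻¹ = (scl r)⁻¹ from map_inv _ r, inv_inv,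
        mul_assoc, hcm, ← mul_assoc, inv_mul_cancel, one_mul]
      exact scl_mem r
  exact ⟨(MulEquiv.ofBijective f hf).symm.trans (MulEquiv.ofBijective CfsgLib.Classical.OddOrthEven.redHom
    ⟨CfsgLib.Classical.OddOrthEven.redHom_injective, CfsgLib.Classical.OddOrthEven.redHom_surjective⟩)⟩

omit [Finite K] in
/-- the isometries of the even normal form are the centraliser of a transvection -/
theorem isoGrp_plusE_equiv (m : ℕ) :
    ∃ t : Matrix.symplecticGroup (Fin (m + 1)) K,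
      Cfsg.IsTransvection (t : Matrix (Fin (m + 1) ⊕ Fin (m + 1)) (Fin (m + 1) ⊕ Fin (m + 1)) K) ∧
        Nonempty (isoGrp (plusE m K) ≃* Subgroup.centralizer ({t} : Set (Matrix.symplecticGroup (Fin (m + 1)) K))) := by
  set J := JM (m + 1) K with hJdef
  set e := e0 m K with he
  set w : Fin (m + 1) ⊕ Fin (m + 1) → K := J *ᵥ e with hw
  have hew : e ⬝ᵥ w = 0 := CfsgLib.Sp.sf_self e
  have hwe : w ⬝ᵥ e = 0 := by rw [dotProduct_comm]; exact hew
  have he1 : e (Sum.inl 0) = 1 := by simp [he, e0]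
  have hw1 : w (Sum.inr 0) = 1 := by
    rw [hw, he, e0, Matrix.mulVec_single_one]
    simp [hJdef, JM, Matrix.J]
  set T := 1 + vecMulVec w e with hT
  have hTsq : vecMulVec w e * vecMulVec w e = 0 := by
    rw [Matrix.vecMulVec_mul_vecMulVec, hew, zero_smul, Matrix.vecMulVec_zero]
  have hTsp : T ∈ Matrix.symplecticGroup (Fin (m + 1)) K := by
    rw [SymplecticGroup.mem_iff']
    show Tᵀ * J * T = J
    have hJw : J *ᵥ w = -e := by
      rw [hw, Matrix.mulVec_mulVec, hJdef, Matrix.J_squared, Matrix.neg_mulVec, Matrix.one_mulVec]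
    have hwJ : w ᵥ* J = e := by
      rw [← Matrix.mulVec_transpose, show Jᵀ = -J from Matrix.J_transpose _ _, Matrix.neg_mulVec, hJw, neg_neg]
    rw [hT, Matrix.transpose_add, Matrix.transpose_one, Matrix.transpose_vecMulVec, Matrix.add_mul, Matrix.one_mul,
      Matrix.vecMulVec_mul, hwJ, Matrix.mul_add, Matrix.mul_one, Matrix.add_mul, Matrix.mul_vecMulVec,
      Matrix.vecMulVec_mul_vecMulVec, hJw, hew, zero_smul, Matrix.vecMulVec_zero, add_zero]
    ext i j
    simp only [Matrix.add_apply, vecMulVec_apply, Pi.neg_apply, CharTwo.neg_eq]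
    rw [add_assoc, CharTwo.add_self_eq_zero, add_zero]
  refine ⟨⟨T, hTsp⟩, ⟨?_, ?_⟩, ?_⟩
  · show (T - 1).rank = 1
    rw [hT, add_sub_cancel_left]
    refine le_antisymm (Matrix.rank_vecMulVec_le _ _) (Nat.one_le_iff_ne_zero.2 fun h0 => ?_)
    have hr : LinearMap.range (vecMulVec w e).mulVecLin = ⊥ := Submodule.finrank_eq_zero.1 h0
    have hz : vecMulVec w e = 0 := by
      have hl := LinearMap.range_eq_bot.1 hr
      ext i j
      have := congrFun (DFunLike.congr_fun hl (Pi.single j 1)) i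
      simpa [Matrix.mulVec_single_one] using this
    have := congrFun (congrFun hz (Sum.inr 0)) (Sum.inl 0)
    rw [vecMulVec_apply, hw1, he1, one_mul] at this
    exact one_ne_zero this
  · show (T - 1) * (T - 1) = 0
    rw [hT, add_sub_cancel_left, hTsq]
  have key : ∀ g : Matrix (Fin (m + 1) ⊕ Fin (m + 1)) (Fin (m + 1) ⊕ Fin (m + 1)) K,
      gᵀ * plusE m K * g = plusE m K ↔ g ∈ Matrix.symplecticGroup (Fin (m + 1)) K ∧ gᵀ *ᵥ e = e := by
    intro g
    rw [plusE, ← hJdef, ← he, congr_add_vecMulVec]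
    constructor
    · intro h
      have hd : ∀ i, (gᵀ *ᵥ e) i = e i := fun i => two_sq_inj (by
        have h1 := congrFun (congrFun h i) i
        rw [Matrix.add_apply, Matrix.add_apply, vecMulVec_apply, vecMulVec_apply] at h1
        have h2 : (gᵀ * J * g) i i = 0 := by
          rw [Matrix.mul_assoc, Matrix.mul_apply]
          have := CfsgLib.Sp.sf_self (fun k => g k i)
          simpa [Cfsg.sympForm, dotProduct, Matrix.mulVec, Matrix.mul_apply, hJdef] using this
        have h3 : J i i = 0 := by rcases i with i | i <;> simp [hJdef, JM, Matrix.J]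
        rw [h2, h3, zero_add, zero_add] at h1
        rw [sq, sq]; exact h1)
      refine ⟨SymplecticGroup.mem_iff'.2 ?_, funext hd⟩
      rw [show gᵀ *ᵥ e = e from funext hd] at h
      exact add_right_cancel h
    · rintro ⟨hg, hge⟩
      rw [hge, SymplecticGroup.mem_iff'.1 hg]
  have hiff : ∀ g : Matrix.symplecticGroup (Fin (m + 1)) K,
      g ∈ Subgroup.centralizer ({⟨T, hTsp⟩} : Set (Matrix.symplecticGroup (Fin (m + 1)) K)) ↔ g.1ᵀ *ᵥ e = e := by
    intro g
    have hJg : g.1 * J * g.1ᵀ = J := SymplecticGroup.mem_iff.1 g.2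
    rw [Subgroup.mem_centralizer_iff]
    simp only [Set.mem_singleton_iff, forall_eq]
    rw [Subtype.ext_iff]
    show T * g.1 = g.1 * T ↔ _
    rw [hT, Matrix.add_mul, Matrix.mul_add, Matrix.one_mul, Matrix.mul_one, add_right_inj, Matrix.vecMulVec_mul,
      Matrix.mul_vecMulVec, ← Matrix.mulVec_transpose]
    constructor
    · intro h
      obtain ⟨a, ha⟩ : ∃ a, a = (g.1 *ᵥ w) (Sum.inr 0) := ⟨_, rfl⟩
      have h1 : g.1ᵀ *ᵥ e = a • e := funext fun j => by
        have := congrFun (congrFun h (Sum.inr 0)) j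
        rw [vecMulVec_apply, vecMulVec_apply, hw1, one_mul] at this
        rw [this, Pi.smul_apply, smul_eq_mul, ha]
      have h2 : g.1 *ᵥ w = a • w := funext fun i => by
        have := congrFun (congrFun h i) (Sum.inl 0)
        rw [vecMulVec_apply, vecMulVec_apply, h1, Pi.smul_apply, smul_eq_mul, he1] at this
        rw [Pi.smul_apply, smul_eq_mul]
        linear_combination -this
      have h4 : w = (a * a) • w := by
        conv_lhs => rw [hw, ← hJg, ← Matrix.mulVec_mulVec, ← Matrix.mulVec_mulVec, h1, Matrix.mulVec_smul,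
          Matrix.mulVec_smul, ← hw, h2, smul_smul]
      have h5 := congrFun h4 (Sum.inr 0)
      rw [Pi.smul_apply, smul_eq_mul, hw1, mul_one] at h5
      have : a = 1 := two_sq_inj (by rw [sq, one_pow]; exact h5.symm)
      rw [h1, this, one_smul]
    · intro h
      have h2 : g.1 *ᵥ w = w := by
        conv_lhs => rw [hw, ← h, Matrix.mulVec_mulVec, Matrix.mulVec_mulVec, hJg]
      rw [h, h2]
  refine ⟨MulEquiv.ofBijective
    ({ toFun := fun g => ⟨⟨g.1.1, ((key _).1 g.2).1⟩, (hiff _).2 ((key _).1 g.2).2⟩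
       map_one' := rfl
       map_mul' := fun _ _ => rfl } :
      isoGrp (plusE m K) →* Subgroup.centralizer ({⟨T, hTsp⟩} : Set (Matrix.symplecticGroup (Fin (m + 1)) K)))
    ⟨fun a b h => Subtype.ext (Units.ext (congrArg (fun z => z.1.1) h)), fun S => ?_⟩⟩
  exact ⟨⟨Matrix.GeneralLinearGroup.mkOfDetNeZero S.1.1 ((SymplecticGroup.det_eq_one S.1.2).trans_ne one_ne_zero),
    (key _).2 ⟨S.1.2, (hiff _).1 S.2⟩⟩, Subtype.ext (Subtype.ext rfl)⟩

omit [CharP K 2] [Finite K] in
theorem det_plusE_ne [CharP K 2] (m : ℕ) : (plusE m K).det ≠ 0 := by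
  intro h
  obtain ⟨v, hv0, hv⟩ := Matrix.exists_mulVec_eq_zero_iff.2 h
  rw [plusE, Matrix.add_mulVec, Matrix.vecMulVec_mulVec, op_smul_eq_smul] at hv
  have h1 := congrArg (fun x => v ⬝ᵥ x) hv
  simp only [dotProduct_add, dotProduct_zero, dotProduct_smul, smul_eq_mul] at h1
  rw [show v ⬝ᵥ (JM (m + 1) K *ᵥ v) = 0 from CfsgLib.Sp.sf_self v, zero_add, dotProduct_comm v] at h1
  have hs : e0 m K ⬝ᵥ v = 0 := mul_self_eq_zero.1 h1
  rw [hs, zero_smul, add_zero] at hv
  exact det_JM_ne (m + 1) (Matrix.exists_mulVec_eq_zero_iff.1 ⟨v, hv0, hv⟩)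

end CfsgLib.FormCl
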