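import Mathlib
import Cfsg.Agent.Lib.FormClass.OddChar
import Cfsg.Agent.Lib.FormClass.CharTwoGroups

/-!
# Classes of symmetric and skew forms over a finite field, their groups, and determinants of similarities
-/

set_option autoImplicit false
set_option linter.all false

namespace CfsgLib.FormCl

open Matrix CfsgLib.Classical

variable {K : Type*} [Field K] [Fintype K]

/-- symmetric or skew -/
def IsPM {κ : Type} (M : Matrix κ κ K) : Prop := Mᵀ = M ∨ Mᵀ = -M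

omit [Fintype K] in
theorem charP_two_of (h : (2 : K) = 0) : CharP K 2 :=
  CharTwo.of_one_ne_zero_of_two_eq_zero one_ne_zero h

omit [Fintype K] in
theorem IsPM.symm_of_two {κ : Type} {M : Matrix κ κ K} [CharP K 2] (h : IsPM M) : Mᵀ = M := by
  rcases h with h | h
  · exact h
  · rw [h]; ext i j; exact CharTwo.neg_eq _

omit [Fintype K] in
theorem IsPM.symm_of_odd {n : ℕ} {M : Matrix (Fin n) (Fin n) K} (h : IsPM M) (hn : Odd n)
    (h2 : (2 : K) ≠ 0) (hd : M.det ≠ 0) : Mᵀ = M := by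
  rcases h with h | h
  · exact h
  · exfalso
    have := congrArg Matrix.det h
    rw [Matrix.det_transpose, Matrix.det_neg, Fintype.card_fin, hn.neg_one_pow, neg_one_mul] at this
    exact hd (mul_left_cancel₀ h2 (by rw [mul_zero]; linear_combination this))

/-- `PGO` of the odd form, in every characteristic. -/
theorem odd_pgo {m : ℕ} (M : Matrix (Fin (2 * m + 1)) (Fin (2 * m + 1)) K) (hs : IsPM M) (hd : M.det ≠ 0) :
    Nonempty (Cfsg.projQuot (simGrp M) ≃* Cfsg.PGO K (Cfsg.quadFormOdd m K)) := by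
  by_cases h2 : (2 : K) = 0
  · haveI := charP_two_of h2
    obtain ⟨e1⟩ := (cong_oneJ M hs.symm_of_two hd).projQuot_equiv
    obtain ⟨e2⟩ := sim_equiv_iso (det_oneJ_ne (K := K) m)
    obtain ⟨e3⟩ := isoGrp_oneJ_equiv (K := K) m
    obtain ⟨e4⟩ := pgo_odd_equiv (K := K) m
    exact ⟨((e1.trans e2).trans e3).trans e4.symm⟩
  · have hd' : (polarGram (oddQ m K)).det ≠ 0 := by
      rw [det_odd]; exact mul_ne_zero h2 (pow_ne_zero _ (neg_ne_zero.2 one_ne_zero))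
    exact pgo_equiv h2 (oddQ_coe m) (cong_of_odd h2 M _ (by simp; omega) (hs.symm_of_odd (by simp) h2 hd)
      (polarGram_symm _) hd hd')

/-- In odd dimension there is one class. -/
theorem odd_cong {m : ℕ} (M N : Matrix (Fin (2 * m + 1)) (Fin (2 * m + 1)) K) (hs : IsPM M) (hs' : IsPM N)
    (hd : M.det ≠ 0) (hd' : N.det ≠ 0) : Cong M N := by
  by_cases h2 : (2 : K) = 0
  · haveI := charP_two_of h2
    exact (cong_oneJ M hs.symm_of_two hd).trans (cong_oneJ N hs'.symm_of_two hd').symm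
  · exact cong_of_odd h2 M N (Fintype.card_fin _) (hs.symm_of_odd (by simp) h2 hd)
      (hs'.symm_of_odd (by simp) h2 hd') hd hd'

omit [Fintype K] in
theorem neg_one_pow_sq (m : ℕ) : ((-1 : K) ^ m) * (-1) ^ m = 1 := by
  rw [← pow_add]; exact Even.neg_one_pow ⟨m, rfl⟩

omit [Fintype K] in
theorem isAlt_of_skew (h2 : (2 : K) ≠ 0) {κ : Type} {M : Matrix κ κ K} (h : Mᵀ = -M) : AltCongr.IsAltM M := by
  refine ⟨fun i => ?_, h⟩
  have := congrFun (congrFun h i) i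
  rw [Matrix.transpose_apply, Matrix.neg_apply] at this
  exact mul_left_cancel₀ h2 (by rw [mul_zero]; linear_combination this)

omit [Fintype K] in
theorem skew_pgsp {n m : ℕ} (hn : n = 2 * m) {M : Matrix (Fin n) (Fin n) K} (hM : AltCongr.IsAltM M) (hd : M.det ≠ 0) :
    Nonempty (Cfsg.projQuot (simGrp M) ≃* Cfsg.PGSp m K) := by
  obtain ⟨e⟩ := (alt_cong_JM (m := m) M (by simp [hn]) hM hd).projQuot_equiv
  show Nonempty (Cfsg.projQuot (simGrp M) ≃* Cfsg.projQuot (Cfsg.GSp m K))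
  rw [gsp_eq]
  exact ⟨e⟩

omit [Fintype K] in
theorem alt_cong {n m : ℕ} (hn : n = 2 * m) {M N : Matrix (Fin n) (Fin n) K} (hM : AltCongr.IsAltM M)
    (hN : AltCongr.IsAltM N) (hd : M.det ≠ 0) (hd' : N.det ≠ 0) : Cong M N :=
  (alt_cong_JM (m := m) M (by simp [hn]) hM hd).trans (alt_cong_JM (m := m) N (by simp [hn]) hN hd').symm

section odd

variable (h2 : (2 : K) ≠ 0)
include h2

/-- the square class of `(-1)^m det` decides -/
theorem sym_cong {n m : ℕ} (hn : n = 2 * m) (hm : 1 ≤ m) {M N : Matrix (Fin n) (Fin n) K} (hM : Mᵀ = M) (hN : Nᵀ = N)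
    (hd : M.det ≠ 0) (hd' : N.det ≠ 0)
    (hc : IsSquare ((-1) ^ m * M.det) ↔ IsSquare ((-1) ^ m * N.det)) : Cong M N := by
  obtain ⟨k, rfl⟩ : ∃ k, n = k + 1 := ⟨n - 1, by omega⟩
  refine cong_of_sq h2 M N (Fintype.card_fin _) hM hN hd hd' ?_
  have h1 : ((-1 : K) ^ m * M.det) * ((-1) ^ m * N.det) = M.det * N.det := by
    rw [show ((-1 : K) ^ m * M.det) * ((-1) ^ m * N.det) = ((-1) ^ m * (-1) ^ m) * (M.det * N.det) by ring,
      neg_one_pow_sq, one_mul]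
  rw [← h1]
  by_cases h : IsSquare ((-1) ^ m * M.det)
  · exact h.mul (hc.1 h)
  · exact isSquare_mul_of_not h2 h (fun h' => h (hc.2 h'))

theorem sym_plus {n m : ℕ} (hn : n = 2 * m) (hm : 1 ≤ m) {M : Matrix (Fin n) (Fin n) K} (hM : Mᵀ = M)
    (hd : M.det ≠ 0) (hsq : IsSquare ((-1) ^ m * M.det)) : Cong M (polarGram (plusQ m K)) := by
  obtain ⟨k, rfl⟩ : ∃ k, n = k + 1 := ⟨n - 1, by omega⟩
  refine cong_of_sq h2 M _ (by simp; omega) hM (polarGram_symm _) hd ?_ ?_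
  · rw [det_plus]; exact pow_ne_zero _ (neg_ne_zero.2 one_ne_zero)
  · rw [det_plus, mul_comm]; exact hsq

theorem sym_minus {n m : ℕ} (hn : n = 2 * m) (hm : 1 ≤ m) {M : Matrix (Fin n) (Fin n) K} (hM : Mᵀ = M)
    (hd : M.det ≠ 0) (hsq : ¬ IsSquare ((-1) ^ m * M.det)) {a b : K}
    (hab : ∀ z₁ z₂ : K, z₁ ^ 2 + a * z₁ * z₂ + b * z₂ ^ 2 = 0 → z₁ = 0 ∧ z₂ = 0) :
    Cong M (polarGram (minusQ (m - 1) K a b)) := by
  obtain ⟨j, rfl⟩ : ∃ j, m = j + 1 := ⟨m - 1, by omega⟩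
  obtain ⟨k, rfl⟩ : ∃ k, n = k + 1 := ⟨n - 1, by omega⟩
  have hdisc := disc_not_square h2 hab
  have hz : (4 * b - a ^ 2) ≠ 0 := fun h => hdisc ⟨0, by linear_combination -h⟩
  refine cong_of_sq h2 M _ (by simp; omega) hM (polarGram_symm _) hd ?_ ?_
  · rw [det_minus]; exact mul_ne_zero (pow_ne_zero _ (neg_ne_zero.2 one_ne_zero)) hz
  · rw [det_minus, Nat.add_sub_cancel]
    have h1 : M.det * ((-1) ^ j * (4 * b - a ^ 2)) = ((-1) ^ (j + 1) * M.det) * (a ^ 2 - 4 * b) := by ring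
    rw [h1]
    exact isSquare_mul_of_not h2 hsq hdisc

theorem sym_pgo_plus {n m : ℕ} (hn : n = 2 * m) (hm : 1 ≤ m) {M : Matrix (Fin n) (Fin n) K} (hM : Mᵀ = M)
    (hd : M.det ≠ 0) (hsq : IsSquare ((-1) ^ m * M.det)) :
    Nonempty (Cfsg.projQuot (simGrp M) ≃* Cfsg.PGO K (Cfsg.quadFormPlus m K)) :=
  pgo_equiv h2 (plusQ_coe m) (sym_plus h2 hn hm hM hd hsq)

theorem sym_pgo_minus {n m : ℕ} (hn : n = 2 * m) (hm : 1 ≤ m) {M : Matrix (Fin n) (Fin n) K} (hM : Mᵀ = M)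
    (hd : M.det ≠ 0) (hsq : ¬ IsSquare ((-1) ^ m * M.det)) {a b : K}
    (hab : ∀ z₁ z₂ : K, z₁ ^ 2 + a * z₁ * z₂ + b * z₂ ^ 2 = 0 → z₁ = 0 ∧ z₂ = 0) :
    Nonempty (Cfsg.projQuot (simGrp M) ≃* Cfsg.PGO K (Cfsg.quadFormMinus (m - 1) K a b)) :=
  pgo_equiv h2 (minusQ_coe (m - 1) a b) (sym_minus h2 hn hm hM hd hsq hab)

theorem exists_aniso : ∃ a b : K, ∀ z₁ z₂ : K, z₁ ^ 2 + a * z₁ * z₂ + b * z₂ ^ 2 = 0 → z₁ = 0 ∧ z₂ = 0 := by
  have hF : ringChar K ≠ 2 := fun h => h2 (by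
    have : CharP K 2 := ringChar.of_eq h
    exact CharTwo.two_eq_zero)
  obtain ⟨δ, hδ⟩ := FiniteField.exists_nonsquare hF
  refine ⟨0, -δ, fun z₁ z₂ h => ?_⟩
  rcases eq_or_ne z₂ 0 with rfl | hz
  · exact ⟨eq_zero_of_pow_eq_zero (n := 2) (by linear_combination h), rfl⟩
  · exact absurd ⟨z₁ / z₂, by field_simp; linear_combination -h⟩ hδ

/-- the three representatives -/
theorem exists_reps {n m : ℕ} (hn : n = 2 * m) (hm : 1 ≤ m) :
    ∃ A B C : Matrix (Fin n) (Fin n) K, (Aᵀ = -A ∧ A.det ≠ 0) ∧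
      (Bᵀ = B ∧ B.det ≠ 0 ∧ IsSquare ((-1) ^ m * B.det)) ∧
      (Cᵀ = C ∧ C.det ≠ 0 ∧ ¬ IsSquare ((-1) ^ m * C.det)) := by
  obtain ⟨a, b, hab⟩ := exists_aniso h2
  obtain ⟨j, rfl⟩ : ∃ j, m = j + 1 := ⟨m - 1, by omega⟩
  have hdisc := disc_not_square h2 hab
  have hz : (4 * b - a ^ 2) ≠ 0 := fun h => hdisc ⟨0, by linear_combination -h⟩
  have hcard : Fintype.card (Fin n) = Fintype.card (Fin (j + 1) ⊕ Fin (j + 1)) := by simp; omega
  have hcard' : Fintype.card (Fin n) = Fintype.card ((Fin j ⊕ Fin j) ⊕ Fin 2) := by simp; omega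
  let e := Fintype.equivOfCardEq hcard
  let e' := Fintype.equivOfCardEq hcard'
  refine ⟨(JM (j + 1) K).submatrix e e, (polarGram (plusQ (j + 1) K)).submatrix e e,
    (polarGram (minusQ j K a b)).submatrix e' e', ⟨?_, ?_⟩, ⟨?_, ?_, ?_⟩, ⟨?_, ?_, ?_⟩⟩
  · rw [Matrix.transpose_submatrix, show (JM (j + 1) K)ᵀ = -JM (j + 1) K from Matrix.J_transpose _ _]; rfl
  · rw [Matrix.det_submatrix_equiv_self]; exact det_JM_ne _
  · rw [Matrix.transpose_submatrix, polarGram_symm]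
  · rw [Matrix.det_submatrix_equiv_self, det_plus]; exact pow_ne_zero _ (neg_ne_zero.2 one_ne_zero)
  · rw [Matrix.det_submatrix_equiv_self, det_plus, neg_one_pow_sq]; exact IsSquare.one
  · rw [Matrix.transpose_submatrix, polarGram_symm]
  · rw [Matrix.det_submatrix_equiv_self, det_minus]; exact mul_ne_zero (pow_ne_zero _ (neg_ne_zero.2 one_ne_zero)) hz
  · rw [Matrix.det_submatrix_equiv_self, det_minus]
    have : (-1 : K) ^ (j + 1) * ((-1) ^ j * (4 * b - a ^ 2)) = a ^ 2 - 4 * b := by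
      rw [pow_succ, show (-1 : K) ^ j * -1 * ((-1) ^ j * (4 * b - a ^ 2)) =
        ((-1) ^ j * (-1) ^ j) * (-(4 * b - a ^ 2)) by ring, neg_one_pow_sq, one_mul]
      ring
    rwa [this]

omit [Fintype K] in
theorem not_cong_sym_skew {n : ℕ} {A B : Matrix (Fin n) (Fin n) K} (hA : Aᵀ = -A) (hB : Bᵀ = B) (hd : B.det ≠ 0)
    (hn : n ≠ 0) : ¬ Cong A B := fun h => by
  have h1 := h.transpose_eq (s := -1) (by rw [neg_one_smul]; exact hA)
  rw [hB, neg_one_smul] at h1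
  haveI : Nonempty (Fin n) := ⟨⟨0, by omega⟩⟩
  refine hd ?_
  have hz : B = 0 := by
    ext i j
    have := congrFun (congrFun h1 i) j
    rw [Matrix.neg_apply] at this
    exact mul_left_cancel₀ h2 (by rw [Matrix.zero_apply, mul_zero]; linear_combination this)
  rw [hz, Matrix.det_zero]

omit [Fintype K] in
theorem disc_of_cong {n m : ℕ} (hn : n = 2 * m) {B C : Matrix (Fin n) (Fin n) K} (h : Cong B C)
    (hB : IsSquare ((-1) ^ m * B.det)) : IsSquare ((-1) ^ m * C.det) := by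
  obtain ⟨c, s, hc, hs, he⟩ := h.det_eq
  rw [he, Fintype.card_fin, show c ^ n = c ^ (2 * m) from congrArg (c ^ ·) hn,
    show (-1 : K) ^ m * (c ^ (2 * m) * (s * s) * B.det) = (c ^ m * s) * (c ^ m * s) * ((-1) ^ m * B.det) by ring]
  exact (isSquare_mul_sq_iff (mul_ne_zero (pow_ne_zero _ hc) hs)).2 hB

theorem card_sym_projQuot {n m : ℕ} (hn : n = 2 * m) (hm : 1 ≤ m) {M : Matrix (Fin n) (Fin n) K} (hM : Mᵀ = M)
    (hd : M.det ≠ 0) :
    ∃ r : ℕ, (r = Fintype.card K ^ m - 1 ∨ r = Fintype.card K ^ m + 1) ∧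
      Nat.card (Cfsg.projQuot (simGrp M)) = 2 * Fintype.card K ^ (m * (m - 1)) * r *
        ∏ i ∈ Finset.range (m - 1), (Fintype.card K ^ (2 * (i + 1)) - 1) := by
  obtain ⟨j, rfl⟩ : ∃ j, m = j + 1 := ⟨m - 1, by omega⟩
  obtain ⟨a, b, hab⟩ := exists_aniso h2
  obtain ⟨k, rfl⟩ : ∃ k, n = k + 1 := ⟨n - 1, by omega⟩
  haveI : Nonempty (Fin (j + 1) ⊕ Fin (j + 1)) := ⟨Sum.inl 0⟩
  haveI : Nonempty ((Fin j ⊕ Fin j) ⊕ Fin 2) := ⟨Sum.inr 0⟩
  have hall : ∀ c, ∃ g, Mult M g c := fun c => by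
    obtain ⟨g, hg, -⟩ := exists_mult_sym h2 (m := j + 1) (by omega) M hM hd c 1 (Or.inl rfl)
    exact ⟨g, hg⟩
  by_cases hsq : IsSquare ((-1) ^ (j + 1) * M.det)
  · refine ⟨_, Or.inl rfl, ?_⟩
    have hc := sym_plus h2 hn hm hM hd hsq
    obtain ⟨φ, hφ, -, -⟩ := hc.exists_equiv
    obtain ⟨e⟩ := hc.projQuot_equiv
    rw [Nat.card_congr e.toEquiv, card_projQuot_sim _ (by rw [det_plus]; exact pow_ne_zero _ (neg_ne_zero.2 one_ne_zero))
      (fun c => (hall c).elim fun g hg => ⟨φ g, (hφ g c).2 hg⟩), ← isometry_eq h2, plusQ_coe, card_iso_plus]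
    rw [Nat.add_sub_cancel]
  · refine ⟨_, Or.inr rfl, ?_⟩
    have hdisc := disc_not_square h2 hab
    have hz : (4 * b - a ^ 2) ≠ 0 := fun h => hdisc ⟨0, by linear_combination -h⟩
    have hc := sym_minus h2 hn hm hM hd hsq hab
    rw [Nat.add_sub_cancel] at hc ⊢
    obtain ⟨φ, hφ, -, -⟩ := hc.exists_equiv
    obtain ⟨e⟩ := hc.projQuot_equiv
    rw [Nat.card_congr e.toEquiv, card_projQuot_sim _
      (by rw [det_minus]; exact mul_ne_zero (pow_ne_zero _ (neg_ne_zero.2 one_ne_zero)) hz)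
      (fun c => (hall c).elim fun g hg => ⟨φ g, (hφ g c).2 hg⟩), ← isometry_eq h2, minusQ_coe,
      card_iso_minus hab]

/-- An orthogonal conformal group is not a symplectic one. -/
theorem sym_not_pgsp {n m : ℕ} (hn : n = 2 * m) (hm : 1 ≤ m) {M : Matrix (Fin n) (Fin n) K} (hM : Mᵀ = M)
    (hd : M.det ≠ 0) : ¬ Nonempty (Cfsg.projQuot (simGrp M) ≃* Cfsg.PGSp m K) := by
  rintro ⟨e⟩
  obtain ⟨r, hr, hcard⟩ := card_sym_projQuot h2 hn hm hM hd
  rw [Nat.card_congr e.toEquiv] at hcard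
  obtain ⟨j, rfl⟩ : ∃ j, m = j + 1 := ⟨m - 1, by omega⟩
  haveI : Nonempty (Fin (j + 1) ⊕ Fin (j + 1)) := ⟨Sum.inl 0⟩
  have hJ : Nat.card (Cfsg.PGSp (j + 1) K) = Nat.card (Matrix.symplecticGroup (Fin (j + 1)) K) := by
    show Nat.card (Cfsg.projQuot (Cfsg.GSp (j + 1) K)) = _
    rw [gsp_eq, card_projQuot_sim _ (det_JM_ne _) (fun c => (exists_mult_JM (j + 1) c).imp fun g hg => hg.1)]
    obtain ⟨e'⟩ := isoGrp_JM_equiv (K := K) (j + 1)
    exact Nat.card_congr e'.toEquiv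
  rw [hJ, card_symplectic, Nat.add_sub_cancel, Finset.prod_range_succ] at hcard
  set q := Fintype.card K
  have hq2 : 3 ≤ q := by
    have h1 : 1 < q := Fintype.one_lt_card
    by_contra hcon
    have hq : q = 2 := by omega
    exact h2 (by have := FiniteField.cast_card_eq_zero K; rw [show Fintype.card K = 2 from hq] at this; simpa using this)
  set P := ∏ i ∈ Finset.range j, (q ^ (2 * (i + 1)) - 1)
  have hP : 0 < P := Finset.prod_pos fun i _ => by
    have : 1 < q ^ (2 * (i + 1)) := Nat.one_lt_pow (by omega) (by omega)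
    omega
  have hpow : q ^ ((j + 1) ^ 2) = q ^ ((j + 1) * j) * q ^ (j + 1) := by rw [← pow_add]; congr 1; ring
  rw [hpow] at hcard
  have h5 : q ^ (j + 1) * (q ^ (2 * (j + 1)) - 1) = 2 * r := by
    apply Nat.eq_of_mul_eq_mul_left (Nat.mul_pos (pow_pos (by omega) ((j + 1) * j) : 0 < q ^ ((j + 1) * j)) hP)
    linarith [hcard]
  have hA : 3 ≤ q ^ (j + 1) := le_trans hq2 (Nat.le_self_pow (by omega) q)
  have h6 : q ^ (2 * (j + 1)) = q ^ (j + 1) * q ^ (j + 1) := by rw [two_mul, pow_add]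
  rw [h6] at h5
  have h7 : 8 ≤ q ^ (j + 1) * q ^ (j + 1) - 1 := by
    have := Nat.mul_le_mul hA hA
    omega
  have h8 := Nat.mul_le_mul (le_refl (q ^ (j + 1))) h7
  rcases hr with rfl | rfl <;> omega

end odd

/-- multipliers are squares and determinants powers, in odd dimension or characteristic two -/
theorem det_mult_square {n : ℕ} (hn : 1 ≤ n) {M : Matrix (Fin n) (Fin n) K} (hd : M.det ≠ 0)
    (hcase : Odd n ∨ (2 : K) = 0) {g : GL (Fin n) K} {c : Kˣ} (hg : Mult M g c) :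
    ∃ μ : Kˣ, c = μ ^ 2 ∧ g.1.det = (μ : K) ^ n := by
  have h1 := hg.det_sq hd
  rw [Fintype.card_fin] at h1
  by_cases h2 : (2 : K) = 0
  · haveI := charP_two_of h2
    obtain ⟨μ, rfl⟩ := exists_sq_unit c
    refine ⟨μ, rfl, two_sq_inj ?_⟩
    rw [h1, Units.val_pow_eq_pow_val, ← pow_mul, ← pow_mul, mul_comm]
  · obtain ⟨k, rfl⟩ := hcase.resolve_right h2
    set D := Matrix.GeneralLinearGroup.det g with hD
    have hDv : (D : K) = g.1.det := rfl
    have h3 : D ^ 2 = c ^ (2 * k + 1) := Units.ext (by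
      rw [Units.val_pow_eq_pow_val, Units.val_pow_eq_pow_val, hDv, h1])
    have hc : c = (D * (c ^ k)⁻¹) ^ 2 := by
      rw [mul_pow, h3, inv_pow, ← pow_mul, pow_succ, mul_comm k 2, mul_comm (c ^ (2 * k)) c, mul_inv_cancel_right]
    set μ := D * (c ^ k)⁻¹ with hμ
    have hsign : D = μ ^ (2 * k + 1) ∨ D = -μ ^ (2 * k + 1) := by
      have : ((D : K)) ^ 2 = ((μ : K) ^ (2 * k + 1)) ^ 2 := by
        rw [hDv, h1, hc, Units.val_pow_eq_pow_val, ← pow_mul, ← pow_mul, mul_comm 2]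
      rcases sq_eq_sq_iff_eq_or_eq_neg.1 this with h | h
      · exact Or.inl (Units.ext (by rw [h, Units.val_pow_eq_pow_val]))
      · exact Or.inr (Units.ext (by rw [h, Units.val_neg, Units.val_pow_eq_pow_val]))
    rcases hsign with h | h
    · exact ⟨μ, hc, by rw [← hDv, h, Units.val_pow_eq_pow_val]⟩
    · refine ⟨-μ, by rw [neg_sq]; exact hc, ?_⟩
      rw [← hDv, h, Units.val_neg, Units.val_neg, Units.val_pow_eq_pow_val, Odd.neg_pow ⟨k, rfl⟩]

/-- symmetric forms in even dimension: determinant up to sign -/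
theorem det_mult_sym {n m : ℕ} (hn : n = 2 * m) {M : Matrix (Fin n) (Fin n) K} (hd : M.det ≠ 0)
    {g : GL (Fin n) K} {c : Kˣ} (hg : Mult M g c) : g.1.det = (c : K) ^ m ∨ g.1.det = -(c : K) ^ m := by
  have h1 := hg.det_sq hd
  rw [Fintype.card_fin, show (c : K) ^ n = (c : K) ^ (2 * m) from congrArg ((c : K) ^ ·) hn, mul_comm, pow_mul] at h1
  exact sq_eq_sq_iff_eq_or_eq_neg.1 h1

end CfsgLib.FormCl
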