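import Mathlib
import Cfsg.Agent.Lib.FormClass.Classes
import Cfsg.Agent.Lib.Descent.FixedField

/-!
# Determinants of similarity groups
-/

set_option autoImplicit false
set_option linter.all false

namespace CfsgLib.FormCl

open Matrix CfsgLib.Classical

variable {K : Type*} [Field K] [Fintype K]

theorem two_ne_zero_of_odd (h : Odd (Fintype.card K)) : (2 : K) ≠ 0 := fun h2 => by
  haveI := charP_two_of h2
  obtain ⟨p, hp⟩ := CharP.exists K
  obtain ⟨k, hpp, hk⟩ := FiniteField.card K p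
  obtain rfl : p = 2 := CharP.eq K hp (charP_two_of h2)
  rw [hk, Nat.odd_pow_iff k.ne_zero] at h
  exact absurd h (by decide)

omit [Fintype K] in
theorem det_scl_val {n : ℕ} (c : Kˣ) : Matrix.GeneralLinearGroup.det (scl (κ := Fin n) c) = c ^ n := by
  apply Units.ext
  rw [Matrix.GeneralLinearGroup.val_det_apply, scl_val, Matrix.det_smul, Matrix.det_one, mul_one,
    Fintype.card_fin, Units.val_pow_eq_pow_val]

/-- determinants of similarities when all multipliers are squares -/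
theorem index_det_square {n : ℕ} (hn : 1 ≤ n) {M : Matrix (Fin n) (Fin n) K} (hd : M.det ≠ 0)
    (hcase : Odd n ∨ (2 : K) = 0) :
    ((simGrp M).map Matrix.GeneralLinearGroup.det).index = Nat.gcd n (Fintype.card K - 1) := by
  have h : (simGrp M).map Matrix.GeneralLinearGroup.det = (powMonoidHom n : Kˣ →* Kˣ).range := by
    apply le_antisymm
    · rintro _ ⟨g, ⟨c, hc⟩, rfl⟩
      obtain ⟨μ, -, hμ⟩ := det_mult_square hn hd hcase hc
      exact ⟨μ, Units.ext (by rw [powMonoidHom_apply, Units.val_pow_eq_pow_val, Matrix.GeneralLinearGroup.val_det_apply, hμ])⟩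
    · rintro _ ⟨μ, rfl⟩
      exact ⟨scl μ, ⟨_, mult_scl M μ⟩, det_scl_val μ⟩
  rw [h, IsCyclic.index_powMonoidHom_range, Nat.card_units, Nat.card_eq_fintype_card, Nat.gcd_comm]

theorem index_det_skew {n m : ℕ} (hn : n = 2 * m) {M : Matrix (Fin n) (Fin n) K} (hM : AltCongr.IsAltM M)
    (hd : M.det ≠ 0) :
    ((simGrp M).map Matrix.GeneralLinearGroup.det).index = Nat.gcd m (Fintype.card K - 1) := by
  obtain ⟨hdet, hex⟩ := det_mult_alt (alt_cong_JM (m := m) M (by simp [hn]) hM hd)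
  have h : (simGrp M).map Matrix.GeneralLinearGroup.det = (powMonoidHom m : Kˣ →* Kˣ).range := by
    apply le_antisymm
    · rintro _ ⟨g, ⟨c, hc⟩, rfl⟩
      exact ⟨c, Units.ext (by rw [powMonoidHom_apply, Units.val_pow_eq_pow_val, Matrix.GeneralLinearGroup.val_det_apply, hdet g c hc])⟩
    · rintro _ ⟨c, rfl⟩
      obtain ⟨g, hg⟩ := hex c
      exact ⟨g, ⟨c, hg⟩, Units.ext (by rw [powMonoidHom_apply, Units.val_pow_eq_pow_val, Matrix.GeneralLinearGroup.val_det_apply, hdet g c hg])⟩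
  rw [h, IsCyclic.index_powMonoidHom_range, Nat.card_units, Nat.card_eq_fintype_card, Nat.gcd_comm]

theorem index_neg_one (h2 : (2 : K) ≠ 0) : (Subgroup.zpowers (-1 : Kˣ)).index = (Fintype.card K - 1) / 2 := by
  have hord : orderOf (-1 : Kˣ) = 2 := orderOf_eq_prime (by simp) (fun h => h2 (by
    have := congrArg Units.val h
    rw [Units.val_neg, Units.val_one] at this
    linear_combination -this))
  have h1 := Subgroup.index_mul_card (Subgroup.zpowers (-1 : Kˣ))
  rw [Nat.card_zpowers, hord, Nat.card_units, Nat.card_eq_fintype_card] at h1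
  omega

theorem sym_dets (h2 : (2 : K) ≠ 0) {n m : ℕ} (hn : n = 2 * m) (hm : 1 ≤ m) {M : Matrix (Fin n) (Fin n) K}
    (hM : Mᵀ = M) (hd : M.det ≠ 0) :
    (simGrp M).map Matrix.GeneralLinearGroup.det =
      (powMonoidHom m : Kˣ →* Kˣ).range ⊔ Subgroup.zpowers (-1 : Kˣ) := by
  apply le_antisymm
  · rintro _ ⟨g, ⟨c, hc⟩, rfl⟩
    have hz : (-1 : Kˣ) ∈ Subgroup.zpowers (-1 : Kˣ) := Subgroup.mem_zpowers _
    rcases det_mult_sym hn hd hc with h | h
    · exact Subgroup.mem_sup_left ⟨c, Units.ext (by rw [powMonoidHom_apply, Units.val_pow_eq_pow_val, Matrix.GeneralLinearGroup.val_det_apply, h])⟩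
    · have : Matrix.GeneralLinearGroup.det g = c ^ m * -1 := Units.ext (by
        rw [Matrix.GeneralLinearGroup.val_det_apply, h, Units.val_mul, Units.val_pow_eq_pow_val, Units.val_neg, Units.val_one]; ring)
      rw [this]
      exact Subgroup.mul_mem_sup ⟨c, rfl⟩ hz
  · obtain ⟨k, rfl⟩ : ∃ k, n = k + 1 := ⟨n - 1, by omega⟩
    rw [sup_le_iff]
    constructor
    · rintro _ ⟨c, rfl⟩
      obtain ⟨g, hg, hgd⟩ := exists_mult_sym h2 (m := m) hn M hM hd c 1 (Or.inl rfl)
      exact ⟨g, ⟨c, hg⟩, Units.ext (by rw [powMonoidHom_apply, Units.val_pow_eq_pow_val, Matrix.GeneralLinearGroup.val_det_apply, hgd, one_mul])⟩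
    · rw [Subgroup.zpowers_le]
      obtain ⟨g, hg, hgd⟩ := exists_det_neg h2 M hM hd
      exact ⟨g, ⟨1, mult_one_iff.2 hg⟩, Units.ext (by rw [Matrix.GeneralLinearGroup.val_det_apply, hgd, Units.val_neg, Units.val_one])⟩

theorem index_det_sym (h2 : (2 : K) ≠ 0) {n m : ℕ} (hn : n = 2 * m) (hm : 1 ≤ m) {M : Matrix (Fin n) (Fin n) K}
    (hM : Mᵀ = M) (hd : M.det ≠ 0) :
    ((simGrp M).map Matrix.GeneralLinearGroup.det).index = Nat.gcd n (Fintype.card K - 1) / 2 := by
  rw [sym_dets h2 hn hm hM hd, CfsgLib.Descent.index_powRange_sup, index_neg_one h2, hn, Nat.gcd_comm]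
  have hq : Fintype.card K - 1 = 2 * ((Fintype.card K - 1) / 2) := by
    have h1 := FiniteField.odd_card_of_char_ne_two (F := K) (fun h => h2 (by
      have : CharP K 2 := ringChar.of_eq h
      exact CharTwo.two_eq_zero))
    omega
  conv_rhs => rw [hq, Nat.gcd_mul_left, Nat.mul_div_cancel_left _ two_pos]

end CfsgLib.FormCl
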