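import Mathlib
import Cfsg.Agent.Lib.FormClass.Dets
import Cfsg.Agent.Lib.AutPSL.Centralizer

/-!
# Involutory graph automorphisms of `PSL_n`
-/

set_option autoImplicit false
set_option linter.all false

namespace CfsgLib.FormCl

open Matrix CfsgLib.AutPSL CfsgLib.Classical

variable {F : Type*} [Field F] [Finite F] {n : ℕ}

/-- the graph automorphism of the form `M` -/
noncomputable def gam (M : GL (Fin n) F) : MulAut (Matrix.ProjectiveSpecialLinearGroup (Fin n) F) :=
  ind M⁻¹ 1 * itAut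

omit [Finite F] in
theorem scal_eq_scl (c : Fˣ) : scal (n := n) c = scl c := rfl

omit [Finite F] in
theorem glIT_val (g : GL (Fin n) F) : (glIT g).1 = (g⁻¹).1ᵀ := rfl

omit [Finite F] in
theorem gam_conj (M g : GL (Fin n) F) :
    ind g 1 * gam M * (ind g 1)⁻¹ = ind (g * M⁻¹ * glIT g⁻¹) 1 * itAut := by
  rw [← indHom_apply, ← map_inv, indHom_apply, indHom_apply, gam, mul_assoc, mul_assoc, itAut_ind,
    ← mul_assoc (ind M⁻¹ 1), ← mul_assoc, ← indHom_apply, ← indHom_apply, ← indHom_apply, ← map_mul, ← map_mul,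
    indHom_apply, mul_assoc]

omit [Finite F] in
theorem cong_exists_gl {M N : Matrix (Fin n) (Fin n) F} (h : Cong M N) :
    ∃ (P : GL (Fin n) F) (c : Fˣ), N = (c : F) • (P.1ᵀ * M * P.1) := by
  obtain ⟨e, P, c, h⟩ := h
  have hd : (P.1.submatrix id e.symm).det ≠ 0 := by
    rw [show (P.1.submatrix id e.symm).det = (Equiv.Perm.sign (e.symm : Equiv.Perm (Fin n)) : ℤ) * P.1.det from
      Matrix.det_permute' _ _]
    refine mul_ne_zero ?_ ((Matrix.isUnit_iff_isUnit_det _).1 P.isUnit).ne_zero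
    rcases Int.units_eq_one_or (Equiv.Perm.sign (e.symm : Equiv.Perm (Fin n))) with h1 | h1 <;> simp [h1]
  refine ⟨Matrix.GeneralLinearGroup.mkOfDetNeZero _ hd, c, ?_⟩
  have h2 := congrArg (fun X => X.submatrix e.symm e.symm) h
  simp only [Matrix.submatrix_submatrix, Equiv.self_comp_symm, Matrix.submatrix_id_id, submatrix_smul'] at h2
  rw [h2]
  congr 1

omit [Finite F] in
theorem det_GL_ne (M : GL (Fin n) F) : M.1.det ≠ 0 := ((Matrix.isUnit_iff_isUnit_det _).1 M.isUnit).ne_zero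

theorem gam_isConj_iff (hn : 3 ≤ n) (M N : GL (Fin n) F) :
    Cfsg.IsConjUnder (Cfsg.inndiagPSL n F) (gam M) (gam N) ↔ Cong M.1 N.1 := by
  constructor
  · rintro ⟨h, hh, he⟩
    obtain ⟨g, rfl⟩ := mem_inndiag_iff.1 hh
    rw [gam_conj, gam] at he
    obtain ⟨c, hc⟩ := ind_eq_imp (by omega) (mul_right_cancel he)
    have h2 := congrArg (fun X : GL (Fin n) F => X⁻¹) hc
    simp only [_root_.mul_inv_rev, inv_inv] at h2
    have h3 : N = (glIT g⁻¹)⁻¹ * (M * g⁻¹) * scal c := by rw [h2, inv_mul_cancel_right]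
    have h4 : ((glIT g⁻¹)⁻¹).1 = (g⁻¹).1ᵀ := rfl
    refine Cong.of_congr g⁻¹ c ?_
    conv_lhs => rw [h3]
    rw [Units.val_mul, Units.val_mul, Units.val_mul, scal_val, Matrix.mul_smul, Matrix.mul_one, h4, ← Matrix.mul_assoc]
  · intro h
    obtain ⟨P, c, h⟩ := cong_exists_gl h
    refine ⟨ind P⁻¹ 1, mem_inndiag_iff.2 ⟨_, rfl⟩, ?_⟩
    rw [gam_conj, gam, inv_inv]
    congr 1
    have : N = scal c * ((glIT P)⁻¹ * M * P) := by
      apply Units.ext
      rw [scal_eq_scl, scl_mul_val, Units.val_mul, Units.val_mul, h]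
      rfl
    rw [this, _root_.mul_inv_rev, _root_.mul_inv_rev, _root_.mul_inv_rev, inv_inv,
      show (scal (n := n) c)⁻¹ = scal c⁻¹ from (map_inv _ c).symm, ← scal_comm]
    rw [← mul_assoc P⁻¹, ind_scal_mul]

omit [Finite F] in
theorem gam_transpose (M : GL (Fin n) F) {c : F} (h : M.1ᵀ = c • M.1) [NeZero n] : c = 1 ∨ c = -1 := by
  have h1 : M.1 = (c * c) • M.1 := by
    conv_lhs => rw [← Matrix.transpose_transpose M.1, h, Matrix.transpose_smul, h, smul_smul]
  have h2 : (M.1 : Matrix (Fin n) (Fin n) F) ≠ 0 := fun e => det_GL_ne M (by rw [e, Matrix.det_zero])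
  exact mul_self_eq_one_iff.1 (smul_left_injective F h2 (show (c * c) • M.1 = (1 : F) • M.1 by rw [one_smul, ← h1]))

/-- An involutory graph automorphism is the one of a symmetric or skew form. -/
theorem exists_form (hn : 3 ≤ n) {γ : MulAut (Matrix.ProjectiveSpecialLinearGroup (Fin n) F)}
    (hγ : Cfsg.IsGraphAutClassPSL γ) (h2 : orderOf γ = 2) :
    ∃ M : GL (Fin n) F, IsPM M.1 ∧ γ = gam M := by
  haveI : NeZero n := ⟨by omega⟩
  obtain ⟨-, δ, ι, hδ, hι, rfl⟩ := hγ
  obtain ⟨A, rfl⟩ := isInnerDiagonal_iff.1 hδ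
  obtain rfl := isIT_iff.1 hι
  have hsq : ind (A * glIT A) 1 = (1 : MulAut (Matrix.ProjectiveSpecialLinearGroup (Fin n) F)) := by
    have := pow_orderOf_eq_one (ind A 1 * itAut)
    rw [h2, sq, mul_assoc, ← mul_assoc itAut, itAut_ind, mul_assoc _ itAut, itAut_mul_self, mul_one,
      ← indHom_apply, ← indHom_apply, ← map_mul, indHom_apply] at this
    exact this
  obtain ⟨-, c, hc0, hc⟩ := eq_one_of_ind_eq_one (by omega) hsq
  rw [Units.val_mul, glIT_val] at hc
  -- `A = c Aᵀ`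
  have hA : A.1 = c • A.1ᵀ := by
    have := congrArg (· * A.1ᵀ) hc
    rwa [Matrix.mul_assoc, ← Matrix.transpose_mul, ← Units.val_mul, mul_inv_cancel, Units.val_one,
      Matrix.transpose_one, Matrix.mul_one, Matrix.smul_mul, Matrix.one_mul] at this
  have hM : (A⁻¹).1ᵀ = c • (A⁻¹).1 := by
    have h3 := congrArg (fun X => (A⁻¹).1 * X * (A⁻¹).1ᵀ) hA
    simp only [Matrix.mul_smul, Matrix.smul_mul] at h3
    rw [← Units.val_mul, inv_mul_cancel, Units.val_one, Matrix.one_mul, Matrix.mul_assoc, ← Matrix.transpose_mul,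
      ← Units.val_mul, inv_mul_cancel, Units.val_one, Matrix.transpose_one, Matrix.mul_one] at h3
    exact h3
  refine ⟨A⁻¹, ?_, by rw [gam, inv_inv]⟩
  rcases gam_transpose A⁻¹ hM with rfl | rfl
  · exact Or.inl (by rw [hM, one_smul])
  · exact Or.inr (by rw [hM, neg_one_smul])

theorem gam_spec (hn : 3 ≤ n) {M : GL (Fin n) F} (hM : IsPM M.1) :
    Cfsg.IsGraphAutClassPSL (gam M) ∧ orderOf (gam M) = 2 := by
  refine ⟨⟨hn, _, _, isInnerDiagonal_iff.2 ⟨_, rfl⟩, isIT_iff.2 rfl, rfl⟩, orderOf_eq_prime ?_ ?_⟩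
  · rw [gam, sq, mul_assoc, ← mul_assoc itAut, itAut_ind, mul_assoc _ itAut, itAut_mul_self, mul_one,
      ← indHom_apply, ← indHom_apply, ← map_mul, indHom_apply]
    obtain ⟨s, hs⟩ : ∃ s : Fˣ, M.1ᵀ = (s : F) • M.1 := by
      rcases hM with h | h
      · exact ⟨1, by rw [h, Units.val_one, one_smul]⟩
      · exact ⟨-1, by rw [h, Units.val_neg, Units.val_one, neg_one_smul]⟩
    have h1 : M⁻¹ * glIT M⁻¹ = scal s := by
      apply Units.ext
      rw [Units.val_mul, glIT_val, inv_inv, hs, Matrix.mul_smul, ← Units.val_mul, inv_mul_cancel, Units.val_one, scal_val]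
    rw [h1, ind_scal, ind_one]
  · intro h
    apply ind_ne_itAut hn M 1
    rw [gam] at h
    have h1 := eq_inv_of_mul_eq_one_right h
    rw [h1, ← indHom_apply, ← indHom_apply, ← map_inv, inv_inv]

theorem centPre_gam (hn : 3 ≤ n) (M : GL (Fin n) F) : centPre (gam M) = simGrp M.1 := by
  ext g
  rw [mem_centPre, gam, mul_assoc, itAut_ind, ← mul_assoc, ind_mul, one_mul, ← mul_assoc, ind_mul, one_mul,
    mem_simGrp]
  have hmap : ∀ A : GL (Fin n) F, glField (1 : RingAut F) A = A := fun A => Units.ext (by ext i j; rfl)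
  rw [hmap, hmap, mul_left_inj]
  constructor
  · intro h
    obtain ⟨c, hc⟩ := ind_eq_imp (by omega) h
    refine ⟨c, ?_⟩
    -- `g M⁻¹ = c M⁻¹ g⁻ᵀ`
    have h1 : (glIT g)⁻¹ * M * g = scal c * M := by
      have h2 : g = scal c * (M⁻¹ * glIT g) * M := by rw [← hc, inv_mul_cancel_right]
      conv_lhs => arg 2; rw [h2]
      rw [show (glIT g)⁻¹ * M * (scal c * (M⁻¹ * glIT g) * M) =
        (glIT g)⁻¹ * (M * scal c) * (M⁻¹ * glIT g) * M by group, ← scal_comm]
      rw [show (glIT g)⁻¹ * (scal c * M) * (M⁻¹ * glIT g) * M = (glIT g)⁻¹ * scal c * glIT g * M by group,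
        mul_assoc (glIT g)⁻¹, scal_comm, ← mul_assoc, inv_mul_cancel, one_mul]
    have := congrArg Units.val h1
    rw [scal_eq_scl, scl_mul_val, Units.val_mul, Units.val_mul] at this
    exact this
  · rintro ⟨c, hc⟩
    have h1 : (glIT g)⁻¹ * M * g = scal c * M := by
      apply Units.ext
      rw [scal_eq_scl, scl_mul_val, Units.val_mul, Units.val_mul]
      exact hc
    have h2 : g * M⁻¹ = scal c * (M⁻¹ * glIT g) := by
      have h3 : g = M⁻¹ * glIT g * (scal c * M) := by rw [← h1]; group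
      conv_lhs => rw [h3]
      rw [scal_comm c M, ← mul_assoc, mul_assoc _ (scal c) M⁻¹, scal_comm c M⁻¹, ← mul_assoc,
        mul_inv_cancel_right, ← scal_comm]
    rw [h2, ind_scal_mul]

theorem centralizer_gam (hn : 3 ≤ n) (M : GL (Fin n) F) :
    Nonempty ((Cfsg.inndiagPSL n F ⊓ Subgroup.centralizer {gam M} : Subgroup _) ≃* Cfsg.projQuot (simGrp M.1)) := by
  obtain ⟨e⟩ := centralizer_equiv_quotient (by omega : 2 ≤ n) (gam M) (simGrp M.1).subtype
    ((Cfsg.Geo.scalars (Fin n) F).subgroupOf (simGrp M.1))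
    (fun u => by
      rw [Subgroup.mem_subgroupOf, Cfsg.Geo.mem_scalars_iff]
      constructor
      · rintro ⟨c, hc⟩
        exact ⟨c, hc⟩
      · rintro ⟨c, hc⟩
        haveI : NeZero n := ⟨by omega⟩
        have hc0 : c ≠ 0 := fun h0 => (Units.ne_zero ((simGrp M.1).subtype u)) (by rw [hc, h0, zero_smul])
        exact ⟨Units.mk0 c hc0, hc⟩)
    (fun u => by rw [centPre_gam hn]; exact u.2)
    (fun g hg => ⟨1, ⟨g, by rwa [← centPre_gam hn]⟩, by rw [show scal (n := n) (1 : Fˣ) = 1 from map_one _, one_mul]; rfl⟩)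
  exact ⟨e.symm⟩

theorem split_gam (hn : 3 ≤ n) (M : GL (Fin n) F) :
    Cfsg.splitClassCount (Cfsg.inndiagPSL n F) (Cfsg.Inn (Matrix.ProjectiveSpecialLinearGroup (Fin n) F)) (gam M) =
      ((simGrp M.1).map Matrix.GeneralLinearGroup.det).index := by
  haveI : NeZero n := ⟨by omega⟩
  rw [splitClassCount_eq_index, centPre_gam hn]

omit [Finite F] in
theorem itAut_eq_gam : (itAut : MulAut (Matrix.ProjectiveSpecialLinearGroup (Fin n) F)) = gam 1 := by
  rw [gam, inv_one, ind_one, one_mul]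

end CfsgLib.FormCl
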