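import Mathlib
import Cfsg.Agent.Lib.FormClass.Dets
import Cfsg.Agent.Lib.SU.Descent
import Cfsg.Agent.Lib.Descent.Hermitian

/-!
# Real forms of involutory semilinear unitary maps

An involution `v ↦ A v̄` of the unitary space is described by a symmetric or skew form over the fixed field.
-/

set_option autoImplicit false
set_option linter.all false

namespace CfsgLib.FormCl

open Matrix CfsgLib.SU CfsgLib.Descent

variable {F : Type*} [Field F] [Finite F] {q : ℕ} (C : UCtx F q) {n : ℕ}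

/-- conjugate of a matrix -/
def cmat {κ : Type} (C : UCtx F q) (X : Matrix κ κ F) : Matrix κ κ F := X.map C.bar

variable {κ : Type} [Fintype κ] [DecidableEq κ]

omit [Finite F] in
theorem cmat_mul (X Y : Matrix κ κ F) : cmat C (X * Y) = cmat C X * cmat C Y :=
  Matrix.map_mul (f := C.bar.toRingHom)

omit [Finite F] in
theorem cmat_smul (c : F) (X : Matrix κ κ F) : cmat C (c • X) = C.bar c • cmat C X := by
  ext i j; simp [cmat]

omit [Finite F] in
theorem cmat_cmat (X : Matrix κ κ F) : cmat C (cmat C X) = X := by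
  ext i j; simp [cmat, C.bar_bar]

omit [Finite F] in
theorem cmat_transpose (X : Matrix κ κ F) : cmat C Xᵀ = (cmat C X)ᵀ := by
  ext i j; simp [cmat]

omit [Finite F] in
theorem cmat_one : cmat C (1 : Matrix κ κ F) = 1 := Matrix.map_one _ (map_zero C.bar) (map_one C.bar)

omit [Finite F] in
theorem cmat_det (X : Matrix κ κ F) : (cmat C X).det = C.bar X.det := (C.bar.toRingHom.map_det X).symm

omit [Finite F] in
theorem cmat_det_ne {X : Matrix κ κ F} (h : X.det ≠ 0) : (cmat C X).det ≠ 0 := by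
  rw [cmat_det]; exact fun e => h (C.bar.injective (by rw [e, map_zero]))

omit [Finite F] in
theorem gu_mat (g : ↥(Cfsg.GU n F q)) : g.1.1ᵀ * cmat C g.1.1 = 1 := C.mem_gu_iff_mat.1 g.2

omit [Finite F] in
theorem gu_mat' (g : ↥(Cfsg.GU n F q)) : (cmat C g.1.1)ᵀ * g.1.1 = 1 := by
  have h := congrArg Matrix.transpose (gu_mat C g)
  rwa [Matrix.transpose_mul, Matrix.transpose_transpose, Matrix.transpose_one] at h

omit [Finite F] in
/-- two unitary matrices differ by a scalar of norm one only -/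
theorem norm_one_of_smul [NeZero n] (g h : ↥(Cfsg.GU n F q)) {s : F} (he : g.1.1 = s • h.1.1) : s * C.bar s = 1 := by
  have h1 := gu_mat C g
  rw [he, cmat_smul, Matrix.transpose_smul, Matrix.smul_mul, Matrix.mul_smul, smul_smul, gu_mat C h] at h1
  simpa using congrFun (congrFun h1 0) 0

omit [Finite F] in
theorem exists_quot_of_norm_one {s : F} (hs : s * C.bar s = 1) : ∃ r : F, r ≠ 0 ∧ s * r = C.bar r := by
  by_cases h : C.bar s + 1 = 0
  · obtain ⟨y, hy⟩ := C.exists_not_fixed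
    refine ⟨y - C.bar y, sub_ne_zero.2 (Ne.symm hy), ?_⟩
    have h1 : C.bar s = -1 := by linear_combination h
    have hs1 : s = -1 := by rw [h1] at hs; linear_combination -hs
    rw [hs1, map_sub, C.bar_bar]; ring
  · refine ⟨C.bar s + 1, h, ?_⟩
    rw [map_add, map_one, C.bar_bar, mul_add, hs, mul_one, add_comm]

omit [Finite F] in
theorem norm_mul (r : F) : C.bar (r * C.bar r) = r * C.bar r := by
  rw [map_mul, C.bar_bar, mul_comm]

theorem exists_norm_of_fixed {c : F} (hc0 : c ≠ 0) (hc : C.bar c = c) : ∃ r : F, r ≠ 0 ∧ r * C.bar r = c := by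
  cases nonempty_fintype F
  obtain ⟨a, ha0, ha⟩ := CfsgLib.Descent.exists_norm_eq C.order_two two_pos hc0 hc
  rw [Finset.prod_range_succ, Finset.prod_range_one, pow_zero, pow_one] at ha
  exact ⟨a, ha0, ha⟩

/-- A model of the fixed field. -/
structure SubF (C : UCtx F q) (F₀ : Type*) [Field F₀] where
  j : F₀ →+* F
  fix : ∀ a, C.bar (j a) = j a
  surj : ∀ y, C.bar y = y → ∃ a, j a = y

variable {F₀ : Type*} [Field F₀]

theorem exists_subF [Fintype F] (hF : Fintype.card F = q ^ 2) [Fintype F₀] (hF₀ : Fintype.card F₀ = q) :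
    Nonempty (SubF C F₀) := by
  haveI : Fintype (Descent.fixedField C.bar) := Fintype.ofFinite _
  have h := Descent.card_fixedField_pow C.bar
  rw [C.order_two, hF] at h
  have h1 : Fintype.card (Descent.fixedField C.bar) = Fintype.card F₀ := by
    rw [hF₀, ← Nat.card_eq_fintype_card]
    exact Nat.pow_left_injective (by omega) h
  let e : F₀ ≃+* Descent.fixedField C.bar := FiniteField.ringEquivOfCardEq h1.symm
  exact ⟨⟨(Descent.fixedField C.bar).subtype.comp e.toRingHom, fun a => (e a).2,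
    fun y hy => ⟨e.symm ⟨y, hy⟩, by simp⟩⟩⟩

variable {C} (S : SubF C F₀)

/-- extension of scalars -/
def jmat (S : SubF C F₀) {κ : Type} (M : Matrix κ κ F₀) : Matrix κ κ F := M.map S.j

omit [Finite F] in
theorem jmat_mul (M N : Matrix κ κ F₀) : jmat S (M * N) = jmat S M * jmat S N := Matrix.map_mul (f := S.j)

omit [Finite F] in
theorem jmat_smul (c : F₀) (M : Matrix κ κ F₀) : jmat S (c • M) = S.j c • jmat S M := by
  ext i k; simp [jmat]

omit [Finite F] in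
theorem jmat_transpose (M : Matrix κ κ F₀) : jmat S Mᵀ = (jmat S M)ᵀ := by
  ext i j; simp [jmat]

omit [Finite F] in
theorem cmat_jmat (M : Matrix κ κ F₀) : cmat C (jmat S M) = jmat S M := by
  ext i j; simp [jmat, cmat, S.fix]

omit [Finite F] in
theorem jmat_det (M : Matrix κ κ F₀) : (jmat S M).det = S.j M.det := (S.j.map_det M).symm

omit [Finite F] in
theorem jmat_inj {M N : Matrix κ κ F₀} (h : jmat S M = jmat S N) : M = N :=
  Matrix.ext fun i k => S.j.injective (congrFun (congrFun h i) k)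

omit [Finite F] in
theorem jmat_one : jmat S (1 : Matrix κ κ F₀) = 1 := Matrix.map_one _ (map_zero S.j) (map_one S.j)

omit [Finite F] in
theorem exists_jmat {X : Matrix κ κ F} (h : cmat C X = X) : ∃ M, jmat S M = X := by
  choose f hf using fun i k => S.surj (X i k) (congrFun (congrFun h i) k)
  exact ⟨Matrix.of f, Matrix.ext hf⟩

/-- `X` is a basis of fixed vectors of `v ↦ A v̄` (up to a scalar), with Gram matrix `M` over the fixed field. -/
def Desc (S : SubF C F₀) (A : ↥(Cfsg.GU n F q)) (X : GL (Fin n) F) (M : Matrix (Fin n) (Fin n) F₀) : Prop :=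
  (∃ ν : F, ν ≠ 0 ∧ A.1.1 * cmat C X.1 = ν • X.1) ∧ M.det ≠ 0 ∧ IsPM M ∧
    ∃ ζ : F, ζ ≠ 0 ∧ jmat S M = ζ • (X.1ᵀ * cmat C X.1)

theorem exists_desc [NeZero n] (A : ↥(Cfsg.GU n F q)) {t : F} (ht : t = 1 ∨ t = -1)
    (hA : A.1.1 * cmat C A.1.1 = t • 1) : ∃ X M, Desc S A X M := by
  have ht0 : t ≠ 0 := by rcases ht with rfl | rfl <;> simp
  have hts : C.bar t = t := by rcases ht with rfl | rfl <;> simp
  have htt : t * t = 1 := by rcases ht with rfl | rfl <;> simp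
  obtain ⟨ν, hν0, hν⟩ := exists_norm_of_fixed C ht0 hts
  let B : GL (Fin n) F := scl (Units.mk0 ν hν0)⁻¹ * A.1
  have hBv : B.1 = ν⁻¹ • A.1.1 := by rw [scl_mul_val, Units.val_inv_eq_inv_val, Units.val_mk0]
  have hB : CfsgLib.Descent.nprod C.bar B 2 = 1 := by
    apply Units.ext
    show B.1 * (B.1 * ((1 : GL (Fin n) F)).1.map C.bar).map C.bar = 1
    rw [Units.val_one]
    show B.1 * cmat C (B.1 * cmat C 1) = 1
    rw [cmat_one, Matrix.mul_one, hBv, cmat_smul, Matrix.smul_mul, Matrix.mul_smul, smul_smul, hA, smul_smul,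
      map_inv₀, ← mul_inv, hν, inv_mul_cancel₀ ht0, one_smul]
  obtain ⟨X, hX⟩ := CfsgLib.Descent.exists_h90 C.order_two two_pos hB
  have hAX : A.1.1 * cmat C X.1 = ν • X.1 := by
    have h1 : B.1 * cmat C X.1 = X.1 := congrArg Units.val hX
    rw [hBv, Matrix.smul_mul] at h1
    conv_rhs => rw [← h1]
    rw [smul_smul, mul_inv_cancel₀ hν0, one_smul]
  -- the Gram matrix
  set H := X.1ᵀ * cmat C X.1 with hH
  have hHbar : cmat C H = t • H := by
    have h1 : cmat C X.1 = ν • (cmat C A.1.1)ᵀ * 0 + cmat C X.1 := by rw [Matrix.mul_zero, zero_add]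
    have e2 : X.1ᵀ * cmat C X.1 = t • ((cmat C X.1)ᵀ * X.1) := by
      have hX1 : X.1 = ν⁻¹ • (A.1.1 * cmat C X.1) := by rw [hAX, smul_smul, inv_mul_cancel₀ hν0, one_smul]
      conv_lhs => rw [hX1]
      rw [cmat_smul, cmat_mul, cmat_cmat, Matrix.transpose_smul, Matrix.transpose_mul, Matrix.smul_mul,
        Matrix.mul_smul, smul_smul, Matrix.mul_assoc, ← Matrix.mul_assoc A.1.1ᵀ, gu_mat C A, Matrix.one_mul,
        map_inv₀, ← mul_inv, hν, inv_eq_of_mul_eq_one_right htt]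
    rw [hH, cmat_mul, cmat_cmat, cmat_transpose]
    conv_rhs => rw [e2, smul_smul, htt, one_smul]
  have hHT : Hᵀ = t • H := by
    rw [← hHbar, hH, Matrix.transpose_mul, Matrix.transpose_transpose, cmat_mul, cmat_cmat, cmat_transpose]
  obtain ⟨ζ, hζ0, hζ⟩ : ∃ ζ : F, ζ ≠ 0 ∧ C.bar ζ * t = ζ := by
    rcases ht with rfl | rfl
    · exact ⟨1, one_ne_zero, by simp⟩
    · obtain ⟨y, hy⟩ := C.exists_not_fixed
      exact ⟨y - C.bar y, sub_ne_zero.2 (Ne.symm hy), by rw [map_sub, C.bar_bar]; ring⟩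
  obtain ⟨M, hM⟩ := exists_jmat S (X := ζ • H) (by rw [cmat_smul, hHbar, smul_smul, hζ])
  have hd : M.det ≠ 0 := by
    intro h0
    have := jmat_det S M
    rw [h0, map_zero, hM, Matrix.det_smul, hH, Matrix.det_mul, Matrix.det_transpose] at this
    have hXd : X.1.det ≠ 0 := ((Matrix.isUnit_iff_isUnit_det _).1 X.isUnit).ne_zero
    exact (mul_ne_zero (pow_ne_zero _ hζ0) (mul_ne_zero hXd (cmat_det_ne C hXd))) this
  refine ⟨X, M, ⟨ν, hν0, hAX⟩, hd, ?_, ζ, hζ0, hM⟩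
  have h3 : jmat S Mᵀ = t • jmat S M := by
    rw [jmat_transpose, hM, Matrix.transpose_smul, hHT, smul_comm]
  rcases ht with rfl | rfl
  · exact Or.inl (jmat_inj S (by rw [h3, one_smul]))
  · refine Or.inr (jmat_inj S ?_)
    rw [h3, neg_one_smul]
    ext i k; simp [jmat]

/-- every symmetric or skew form occurs -/
theorem exists_of_form [NeZero n] {M : Matrix (Fin n) (Fin n) F₀} (hM : IsPM M) (hd : M.det ≠ 0) :
    ∃ (A : ↥(Cfsg.GU n F q)) (X : GL (Fin n) F) (t : F), (t = 1 ∨ t = -1) ∧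
      A.1.1 * cmat C A.1.1 = t • 1 ∧ Desc S A X M := by
  obtain ⟨t, ht, hMt⟩ : ∃ t : F, (t = 1 ∨ t = -1) ∧ (jmat S M)ᵀ = t • jmat S M := by
    rcases hM with h | h
    · exact ⟨1, Or.inl rfl, by rw [← jmat_transpose, h, one_smul]⟩
    · refine ⟨-1, Or.inr rfl, ?_⟩
      rw [← jmat_transpose, h, neg_one_smul]
      ext i k; simp [jmat]
  have ht0 : t ≠ 0 := by rcases ht with rfl | rfl <;> simp
  have hts : C.bar t = t := by rcases ht with rfl | rfl <;> simp
  have htt : t * t = 1 := by rcases ht with rfl | rfl <;> simp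
  obtain ⟨ζ, hζ0, hζ⟩ : ∃ ζ : F, ζ ≠ 0 ∧ C.bar ζ * t = ζ := by
    rcases ht with rfl | rfl
    · exact ⟨1, one_ne_zero, by simp⟩
    · obtain ⟨y, hy⟩ := C.exists_not_fixed
      exact ⟨y - C.bar y, sub_ne_zero.2 (Ne.symm hy), by rw [map_sub, C.bar_bar]; ring⟩
  set M' := ζ⁻¹ • jmat S M with hM'
  have hd' : M'.det ≠ 0 := by
    rw [hM', Matrix.det_smul, jmat_det]
    exact mul_ne_zero (pow_ne_zero _ (inv_ne_zero hζ0)) (fun h => hd (S.j.injective (by rw [h, map_zero])))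
  have hbar : cmat C M' = t • M' := by
    rw [hM', cmat_smul, cmat_jmat, smul_smul]
    congr 1
    rw [map_inv₀]
    have hb0 : C.bar ζ ≠ 0 := fun h => hζ0 (C.bar.injective (by rw [h, map_zero]))
    field_simp
    linear_combination -hζ
  have hTM : M'ᵀ = t • M' := by rw [hM', Matrix.transpose_smul, hMt, smul_comm]
  have hherm : (cmat C M')ᵀ = M' := by rw [hbar, Matrix.transpose_smul, hTM, smul_smul, htt, one_smul]
  obtain ⟨B, hB⟩ := CfsgLib.Descent.exists_hermitian_decomp C.bar C.order_two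
    (Matrix.GeneralLinearGroup.mkOfDetNeZero M' hd') hherm
  have hB : M' = B.1 * (cmat C B.1)ᵀ := hB
  have hBd : B.1.det ≠ 0 := ((Matrix.isUnit_iff_isUnit_det _).1 B.isUnit).ne_zero
  let X : GL (Fin n) F := Matrix.GeneralLinearGroup.mkOfDetNeZero B.1ᵀ (by rwa [Matrix.det_transpose])
  have hXH : X.1ᵀ * cmat C X.1 = M' := by
    show B.1ᵀᵀ * cmat C B.1ᵀ = M'
    rw [Matrix.transpose_transpose, cmat_transpose, ← hB]
  obtain ⟨ν, hν0, hν⟩ := exists_norm_of_fixed C ht0 hts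
  let Xb : GL (Fin n) F := glMap C.bar X
  let A₀ : GL (Fin n) F := scl (Units.mk0 ν hν0) * X * Xb⁻¹
  have hA₀ : A₀.1 * cmat C X.1 = ν • X.1 := by
    show A₀.1 * Xb.1 = _
    rw [← Units.val_mul, inv_mul_cancel_right, scl_mul_val, Units.val_mk0]
  have hXd : X.1.det ≠ 0 := ((Matrix.isUnit_iff_isUnit_det _).1 X.isUnit).ne_zero
  have hcc : A₀.1ᵀ * cmat C A₀.1 = 1 := by
    have h1 : (A₀.1 * cmat C X.1)ᵀ * cmat C (A₀.1 * cmat C X.1) = (cmat C X.1)ᵀ * X.1 := by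
      rw [hA₀, cmat_smul, Matrix.transpose_smul, Matrix.smul_mul, Matrix.mul_smul, smul_smul, hν, hXH]
      have h2 : (cmat C X.1)ᵀ * X.1 = M'ᵀ := by rw [← hXH, Matrix.transpose_mul, Matrix.transpose_transpose]
      rw [h2, hTM]
    rw [cmat_mul, cmat_cmat, Matrix.transpose_mul, Matrix.mul_assoc, ← Matrix.mul_assoc A₀.1ᵀ] at h1
    have hu : IsUnit ((cmat C X.1)ᵀ).det := by
      rw [Matrix.det_transpose]; exact isUnit_iff_ne_zero.2 (cmat_det_ne C hXd)
    have hu' : IsUnit X.1.det := isUnit_iff_ne_zero.2 hXd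
    have h3 := congrArg (fun Z => ((cmat C X.1)ᵀ)⁻¹ * Z * X.1⁻¹) h1
    rw [Matrix.nonsing_inv_mul_cancel_left _ _ hu, Matrix.nonsing_inv_mul_cancel_left _ _ hu,
      Matrix.mul_nonsing_inv_cancel_right _ _ hu', Matrix.mul_nonsing_inv _ hu'] at h3
    exact h3
  let A : ↥(Cfsg.GU n F q) := ⟨A₀, C.mem_gu_iff_mat.2 hcc⟩
  refine ⟨A, X, t, ht, ?_, ⟨ν, hν0, hA₀⟩, hd, hM, ζ, hζ0, ?_⟩
  · show A₀.1 * cmat C A₀.1 = t • 1
    have h1 : (A₀.1 * cmat C A₀.1) * X.1 = (t • (1 : Matrix (Fin n) (Fin n) F)) * X.1 := by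
      conv_lhs => rw [Matrix.mul_assoc, show cmat C A₀.1 * X.1 = cmat C (A₀.1 * cmat C X.1) by rw [cmat_mul, cmat_cmat],
        hA₀, cmat_smul, Matrix.mul_smul, hA₀, smul_smul, mul_comm, hν]
      rw [Matrix.smul_mul, Matrix.one_mul]
    exact (Matrix.isUnit_iff_isUnit_det _).2 (isUnit_iff_ne_zero.2 hXd) |>.mul_right_cancel h1
  · rw [hXH, hM', smul_smul, mul_inv_cancel₀ hζ0, one_smul]

/-- `g` induces `k` on the fixed vectors, up to a scalar -/
def Lift (S : SubF C F₀) (X Y : GL (Fin n) F) (k : Matrix (Fin n) (Fin n) F₀) (g : Matrix (Fin n) (Fin n) F) : Prop :=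
  ∃ r : F, r ≠ 0 ∧ g * X.1 = r • (Y.1 * jmat S k)

theorem lift_of_twist [NeZero n] {A A' : ↥(Cfsg.GU n F q)} {X X' : GL (Fin n) F}
    {M M' : Matrix (Fin n) (Fin n) F₀} (h : Desc S A X M) (h' : Desc S A' X' M') (g : ↥(Cfsg.GU n F q)) {s : F}
    (hg : g.1.1 * A.1.1 = s • (A'.1.1 * cmat C g.1.1)) :
    ∃ (k : GL (Fin n) F₀) (r : F) (c : F₀), r ≠ 0 ∧ c ≠ 0 ∧ g.1.1 * X.1 = r • (X'.1 * jmat S k.1) ∧
      k.1ᵀ * M' * k.1 = c • M := by
  obtain ⟨⟨ν, hν0, hAX⟩, hd, -, ζ, hζ0, hζ⟩ := h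
  obtain ⟨⟨ν', hν0', hAX'⟩, hd', -, ζ', hζ0', hζ'⟩ := h'
  obtain ⟨k, hk⟩ : ∃ k, k = (X'⁻¹).1 * g.1.1 * X.1 := ⟨_, rfl⟩
  have hXX : X'.1 * (X'⁻¹).1 = 1 := by rw [← Units.val_mul, mul_inv_cancel, Units.val_one]
  have hgX : g.1.1 * X.1 = X'.1 * k := by
    rw [hk, ← Matrix.mul_assoc, ← Matrix.mul_assoc, hXX, Matrix.one_mul]
  -- `k = μ k̄`
  have hmain : ν • (X'.1 * k) = (s * ν') • (X'.1 * cmat C k) := by
    rw [← hgX, ← Matrix.mul_smul, ← hAX, ← Matrix.mul_assoc, hg, Matrix.smul_mul, Matrix.mul_assoc, ← cmat_mul,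
      hgX, cmat_mul, ← Matrix.mul_assoc, hAX', Matrix.smul_mul, smul_smul]
  have hkk : k = (s * ν' * ν⁻¹) • cmat C k := by
    have h1 := congrArg (fun Z => ν⁻¹ • ((X'⁻¹).1 * Z)) hmain
    simp only [Matrix.mul_smul, ← Matrix.mul_assoc, ← Units.val_mul, inv_mul_cancel, Units.val_one, Matrix.one_mul,
      smul_smul] at h1
    rw [inv_mul_cancel₀ hν0, one_smul] at h1
    conv_lhs => rw [h1]
    congr 1; ring
  have hkd : k.det ≠ 0 := by
    rw [hk, Matrix.det_mul, Matrix.det_mul]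
    exact mul_ne_zero (mul_ne_zero ((Matrix.isUnit_iff_isUnit_det _).1 (X'⁻¹).isUnit).ne_zero
      ((Matrix.isUnit_iff_isUnit_det _).1 g.1.isUnit).ne_zero) ((Matrix.isUnit_iff_isUnit_det _).1 X.isUnit).ne_zero
  have hk0 : k ≠ 0 := fun e => hkd (by rw [e, Matrix.det_zero])
  set μ := s * ν' * ν⁻¹
  have hμ : μ * C.bar μ = 1 := by
    have h1 : k = (μ * C.bar μ) • k := by
      conv_lhs => rw [hkk]
      conv_lhs => arg 2; rw [hkk, cmat_smul, cmat_cmat]
      rw [smul_smul]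
    exact smul_left_injective F hk0 (show (μ * C.bar μ) • k = (1 : F) • k by rw [one_smul, ← h1])
  obtain ⟨r, hr0, hr⟩ := exists_quot_of_norm_one C hμ
  -- `r k` is rational
  have hrk : cmat C (r • k) = r • k := by
    conv_rhs => rw [hkk]
    rw [cmat_smul, smul_smul, mul_comm r μ, hr]
  obtain ⟨k₀, hk₀⟩ := exists_jmat S hrk
  have hk₀d : k₀.det ≠ 0 := by
    intro e
    have := jmat_det S k₀
    rw [hk₀, e, map_zero, Matrix.det_smul] at this
    exact mul_ne_zero (pow_ne_zero _ hr0) hkd this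
  have hGram : kᵀ * (X'.1ᵀ * cmat C X'.1) * cmat C k = X.1ᵀ * cmat C X.1 := by
    have h1 : (g.1.1 * X.1)ᵀ * cmat C (g.1.1 * X.1) = X.1ᵀ * cmat C X.1 := by
      rw [cmat_mul, Matrix.transpose_mul, Matrix.mul_assoc, ← Matrix.mul_assoc g.1.1ᵀ, gu_mat C g, Matrix.one_mul]
    rw [← h1, hgX, cmat_mul, Matrix.transpose_mul]
    simp only [Matrix.mul_assoc]
  obtain ⟨e, he⟩ : ∃ e : F, e = (r * C.bar r) * ζ' / ζ := ⟨_, rfl⟩
  have hkey : jmat S (k₀ᵀ * M' * k₀) = e • jmat S M := by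
    rw [jmat_mul, jmat_mul, jmat_transpose, hk₀, hζ', hζ, smul_smul]
    have h2 : r • k = C.bar r • cmat C k := by
      conv_lhs => rw [hkk]
      rw [smul_smul, mul_comm r μ, hr]
    conv_lhs => arg 2; rw [h2]
    rw [← hGram]
    simp only [Matrix.transpose_smul, Matrix.smul_mul, Matrix.mul_smul, smul_smul]
    rw [he]
    congr 1
    · field_simp
  have hefix : C.bar e = e := by
    have h1 := congrArg (cmat C) hkey
    rw [cmat_smul, cmat_jmat, cmat_jmat, hkey] at h1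
    have hM0 : jmat S M ≠ 0 := fun h => hd (S.j.injective (by rw [← jmat_det, h, Matrix.det_zero, map_zero]))
    exact smul_left_injective F hM0 h1.symm
  obtain ⟨c, hc⟩ := S.surj e hefix
  have hc0 : c ≠ 0 := fun h => by
    rw [h, map_zero] at hc
    rw [← hc, eq_comm, div_eq_zero_iff] at he
    rcases he with he | he
    · exact mul_ne_zero (mul_ne_zero hr0 (fun e => hr0 (C.bar.injective (by rw [e, map_zero])))) hζ0' he
    · exact hζ0 he
  refine ⟨Matrix.GeneralLinearGroup.mkOfDetNeZero k₀ hk₀d, r⁻¹, c, inv_ne_zero hr0, hc0, ?_, ?_⟩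
  · show g.1.1 * X.1 = r⁻¹ • (X'.1 * jmat S k₀)
    rw [hk₀, Matrix.mul_smul, smul_smul, inv_mul_cancel₀ hr0, one_smul, hgX]
  · show k₀ᵀ * M' * k₀ = c • M
    exact jmat_inj S (by rw [hkey, jmat_smul, hc])

theorem twist_of_lift [NeZero n] {A A' : ↥(Cfsg.GU n F q)} {X X' : GL (Fin n) F}
    {M M' : Matrix (Fin n) (Fin n) F₀} (h : Desc S A X M) (h' : Desc S A' X' M') (k : GL (Fin n) F₀) {c : F₀}
    (hc0 : c ≠ 0) (hk : k.1ᵀ * M' * k.1 = c • M) :
    ∃ (g : ↥(Cfsg.GU n F q)) (s : F) (r : F), r ≠ 0 ∧ g.1.1 * X.1 = r • (X'.1 * jmat S k.1) ∧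
      g.1.1 * A.1.1 = s • (A'.1.1 * cmat C g.1.1) := by
  obtain ⟨⟨ν, hν0, hAX⟩, hd, -, ζ, hζ0, hζ⟩ := h
  obtain ⟨⟨ν', hν0', hAX'⟩, hd', -, ζ', hζ0', hζ'⟩ := h'
  set H := X.1ᵀ * cmat C X.1 with hH
  obtain ⟨e, he⟩ : ∃ e : F, e = S.j c * ζ / ζ' := ⟨_, rfl⟩
  have hj0 : S.j c ≠ 0 := fun e => hc0 (S.j.injective (by rw [e, map_zero]))
  have he0 : e ≠ 0 := by rw [he]; exact div_ne_zero (mul_ne_zero hj0 hζ0) hζ0'
  have hW : (jmat S k.1)ᵀ * (X'.1ᵀ * cmat C X'.1) * jmat S k.1 = e • H := by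
    have h1 := congrArg (jmat S) hk
    rw [jmat_mul, jmat_mul, jmat_transpose, jmat_smul, hζ', hζ, Matrix.mul_smul, Matrix.smul_mul, smul_smul] at h1
    have h2 := congrArg (fun Z => ζ'⁻¹ • Z) h1
    simp only [smul_smul, inv_mul_cancel₀ hζ0', one_smul] at h2
    rw [h2, he]
    congr 1
    field_simp
  have hefix : C.bar e = e := by
    have hT : ∀ (Z : Matrix (Fin n) (Fin n) F), (cmat C (Zᵀ * cmat C Z))ᵀ = Zᵀ * cmat C Z := fun Z => by
      rw [cmat_mul, cmat_cmat, cmat_transpose, Matrix.transpose_mul, Matrix.transpose_transpose]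
    have h1 : (jmat S k.1)ᵀ * (X'.1ᵀ * cmat C X'.1) * jmat S k.1 =
        (X'.1 * jmat S k.1)ᵀ * cmat C (X'.1 * jmat S k.1) := by
      rw [cmat_mul, cmat_jmat, Matrix.transpose_mul]; simp only [Matrix.mul_assoc]
    have h2 := hT (X'.1 * jmat S k.1)
    rw [← h1, hW, cmat_smul, Matrix.transpose_smul, hH, hT] at h2
    have hH0 : H ≠ 0 := fun hh => hd (S.j.injective (by rw [← jmat_det, hζ, hh, smul_zero, Matrix.det_zero, map_zero]))
    exact smul_left_injective F hH0 h2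
  obtain ⟨r, hr0, hr⟩ := exists_norm_of_fixed C (inv_ne_zero he0) (by rw [map_inv₀, hefix])
  set G : Matrix (Fin n) (Fin n) F := r • (X'.1 * jmat S k.1 * (X⁻¹).1) with hG
  have hGX : G * X.1 = r • (X'.1 * jmat S k.1) := by
    rw [hG, Matrix.smul_mul, Matrix.mul_assoc _ (X⁻¹).1, ← Units.val_mul, inv_mul_cancel, Units.val_one, Matrix.mul_one]
  have hGu : Gᵀ * cmat C G = 1 := by
    have h1 : (G * X.1)ᵀ * cmat C (G * X.1) = H := by
      rw [hGX, cmat_smul, cmat_mul, cmat_jmat, Matrix.transpose_smul, Matrix.smul_mul, Matrix.mul_smul, smul_smul,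
        Matrix.transpose_mul, hr]
      rw [show (jmat S k.1)ᵀ * X'.1ᵀ * (cmat C X'.1 * jmat S k.1) =
        (jmat S k.1)ᵀ * (X'.1ᵀ * cmat C X'.1) * jmat S k.1 by simp only [Matrix.mul_assoc], hW, smul_smul,
        inv_mul_cancel₀ he0, one_smul]
    rw [cmat_mul, Matrix.transpose_mul, Matrix.mul_assoc, ← Matrix.mul_assoc Gᵀ, hH] at h1
    have hXd := (Matrix.isUnit_iff_isUnit_det _).1 X.isUnit
    have hu : IsUnit X.1ᵀ.det := by rwa [Matrix.det_transpose]
    have hu' : IsUnit (cmat C X.1).det := isUnit_iff_ne_zero.2 (cmat_det_ne C hXd.ne_zero)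
    have h3 := congrArg (fun Z => (X.1ᵀ)⁻¹ * Z * (cmat C X.1)⁻¹) h1
    rw [Matrix.nonsing_inv_mul_cancel_left _ _ hu, Matrix.nonsing_inv_mul_cancel_left _ _ hu,
      Matrix.mul_nonsing_inv_cancel_right _ _ hu', Matrix.mul_nonsing_inv _ hu'] at h3
    exact h3
  have hGd : G.det ≠ 0 := fun h0 => by
    have := congrArg Matrix.det hGu
    rw [Matrix.det_mul, Matrix.det_transpose, h0, zero_mul, Matrix.det_one] at this
    exact zero_ne_one this
  refine ⟨⟨Matrix.GeneralLinearGroup.mkOfDetNeZero G hGd, C.mem_gu_iff_mat.2 hGu⟩, ν * r / (C.bar r * ν'), r, hr0, hGX, ?_⟩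
  show G * A.1.1 = (ν * r / (C.bar r * ν')) • (A'.1.1 * cmat C G)
  have hb0 : C.bar r ≠ 0 := fun e => hr0 (C.bar.injective (by rw [e, map_zero]))
  have hXd := (Matrix.isUnit_iff_isUnit_det _).1 X.isUnit
  refine ((Matrix.isUnit_iff_isUnit_det _).2
    (isUnit_iff_ne_zero.2 (cmat_det_ne C hXd.ne_zero))).mul_right_cancel ?_
  rw [Matrix.mul_assoc, hAX, Matrix.mul_smul, hGX, Matrix.smul_mul, Matrix.mul_assoc, ← cmat_mul, hGX, cmat_smul,
    cmat_mul, cmat_jmat, Matrix.mul_smul, ← Matrix.mul_assoc, hAX', Matrix.smul_mul, smul_smul, smul_smul, smul_smul]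
  congr 1
  field_simp

end CfsgLib.FormCl
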