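import Mathlib
import Cfsg.Agent.Lib.FormClass.PSUDesc
import Cfsg.Agent.Lib.AutPSL.GraphCentralizer
import Cfsg.Agent.Lib.Descent.SplitCount

/-!
# Involutory graph automorphisms of `PSU_n`
-/

set_option autoImplicit false
set_option linter.all false

namespace CfsgLib.FormCl

open Matrix CfsgLib.SU

variable {F : Type*} [Field F] [Finite F] {q : ℕ} {C : UCtx F q} {n : ℕ} {F₀ : Type*} [Field F₀] (S : SubF C F₀)

/-- the graph automorphism of `v ↦ A v̄` -/
noncomputable def gamU (C : UCtx F q) (A : ↥(Cfsg.GU n F q)) : MulAut (Cfsg.PSU n F q) := C.ind A C.bar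

theorem ind_eq_iff (hn : 3 ≤ n) (g h : ↥(Cfsg.GU n F q)) (σ : RingAut F) :
    C.ind g σ = C.ind h σ ↔ ∃ s : F, g.1.1 = s • h.1.1 := by
  haveI : NeZero n := ⟨by omega⟩
  constructor
  · intro he
    have h1 : C.ind g 1 = C.ind h 1 := by
      have eg : C.ind g 1 * C.ind 1 σ = C.ind g σ := by rw [C.ind_mul, map_one, mul_one, one_mul]
      have eh : C.ind h 1 * C.ind 1 σ = C.ind h σ := by rw [C.ind_mul, map_one, mul_one, one_mul]
      rw [← eg, ← eh] at he
      exact mul_right_cancel he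
    rw [← C.indHom_apply, ← C.indHom_apply] at h1
    have h2 : C.indHom (g * h⁻¹) = 1 := by rw [map_mul, map_inv, h1, mul_inv_cancel]
    obtain ⟨-, c, hc⟩ := C.eq_one_of_ind_eq_one hn h2
    refine ⟨((c : Fˣ) : F), ?_⟩
    have h3 : g = C.gscal c * h := by rw [← hc, inv_mul_cancel_right]
    rw [h3]
    show (C.gscal c).1.1 * h.1.1 = _
    rw [C.gscal_val, Matrix.smul_mul, Matrix.one_mul]
  · rintro ⟨s, hs⟩
    have hn1 := norm_one_of_smul C g h hs
    have hs0 : s ≠ 0 := fun e => by simp [e] at hn1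
    have : g = C.gscal ⟨Units.mk0 s hs0, hn1⟩ * h := by
      apply Subtype.ext; apply Units.ext
      show g.1.1 = (C.gscal ⟨Units.mk0 s hs0, hn1⟩).1.1 * h.1.1
      rw [C.gscal_val, Matrix.smul_mul, Matrix.one_mul, hs]; rfl
    rw [this, C.ind_gscal_mul]

omit S in
theorem guField_bar_val (g : ↥(Cfsg.GU n F q)) : (C.guField C.bar g).1.1 = cmat C g.1.1 := rfl

omit S in
theorem guField_one (g : ↥(Cfsg.GU n F q)) : C.guField 1 g = g := Subtype.ext (Units.ext (by ext i j; rfl))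

theorem gamU_mul_ind (A g : ↥(Cfsg.GU n F q)) : gamU C A * C.indHom g = C.ind (A * C.guField C.bar g) C.bar := by
  rw [C.indHom_apply, gamU, C.ind_mul, mul_one]

theorem ind_mul_gamU (A g : ↥(Cfsg.GU n F q)) : C.indHom g * gamU C A = C.ind (g * A) C.bar := by
  rw [C.indHom_apply, gamU, C.ind_mul, one_mul, guField_one]

theorem twist_iff (hn : 3 ≤ n) (A A' g : ↥(Cfsg.GU n F q)) :
    C.indHom g * gamU C A * (C.indHom g)⁻¹ = gamU C A' ↔ ∃ s : F, g.1.1 * A.1.1 = s • (A'.1.1 * cmat C g.1.1) := by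
  rw [mul_inv_eq_iff_eq_mul, ind_mul_gamU, gamU_mul_ind, ind_eq_iff hn]
  rfl

/-- A description of the involution by a form. -/
theorem exists_form_U (hn : 3 ≤ n) {γ : MulAut (Cfsg.PSU n F q)} [Fintype F] (hF : Fintype.card F = q ^ 2)
    (hγ : Cfsg.IsGraphAutClassPSU γ) (h2 : orderOf γ = 2) :
    ∃ (A : ↥(Cfsg.GU n F q)) (X : GL (Fin n) F) (M : Matrix (Fin n) (Fin n) F₀), γ = gamU C A ∧ Desc S A X M := by
  haveI : NeZero n := ⟨by omega⟩
  obtain ⟨-, δ, φ, σ, heven, hδ, hφ, rfl⟩ := hγ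
  obtain ⟨A, rfl⟩ := C.isInnerDiagonal_iff.1 hδ
  obtain rfl := C.isFieldAut_iff.1 hφ
  have he : C.ind A 1 * C.ind 1 σ = C.ind A σ := by rw [C.ind_mul, map_one, mul_one, one_mul]
  rw [he] at h2 ⊢
  have h1 := pow_orderOf_eq_one (C.ind A σ)
  rw [h2, sq, C.ind_mul] at h1
  obtain ⟨hσσ, c, hc⟩ := C.eq_one_of_ind_eq_one hn h1
  have hσne : σ ≠ 1 := fun e => by
    rw [e, orderOf_one] at heven
    exact absurd heven (by decide)
  have hσ2 : orderOf σ = 2 := orderOf_eq_prime (by rw [sq]; exact hσσ) hσne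
  have hσbar : σ = C.bar := by
    obtain ⟨p, hp⟩ := CharP.exists F
    obtain ⟨k, hpp, hk⟩ := FiniteField.card F p
    haveI := Fact.mk hpp
    refine RingEquiv.ext fun x => ?_
    rw [(CfsgLib.AutPSL.involution_eq_pow hk hσ2).2, (CfsgLib.AutPSL.involution_eq_pow hk C.order_two).2]
  subst hσbar
  -- `A Ā` is the scalar `±1`
  have hAA : A.1.1 * cmat C A.1.1 = ((c : Fˣ) : F) • 1 := by
    have := congrArg (fun g : ↥(Cfsg.GU n F q) => g.1.1) hc
    rw [C.gscal_val] at this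
    exact this
  have hsym : A.1.1 = ((c : Fˣ) : F) • A.1.1ᵀ := by
    have h3 := congrArg (· * A.1.1ᵀ) hAA
    rw [Matrix.mul_assoc, mul_eq_one_comm.1 (gu_mat C A), Matrix.mul_one, Matrix.smul_mul, Matrix.one_mul] at h3
    exact h3
  have hA0 : A.1.1 ≠ 0 := fun e => by
    have := gu_mat' C A
    rw [e, Matrix.mul_zero] at this
    simpa using congrFun (congrFun this 0) 0
  have hcc : ((c : Fˣ) : F) * ((c : Fˣ) : F) = 1 := by
    have h4 : A.1.1 = (((c : Fˣ) : F) * ((c : Fˣ) : F)) • A.1.1 := by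
      conv_lhs => rw [hsym]
      conv_lhs => arg 2; rw [hsym, Matrix.transpose_smul, Matrix.transpose_transpose]
      rw [smul_smul]
    exact smul_left_injective F hA0 (show (((c : Fˣ) : F) * ((c : Fˣ) : F)) • A.1.1 = (1 : F) • A.1.1 by rw [one_smul, ← h4])
  obtain ⟨X, M, hD⟩ := exists_desc S A (mul_self_eq_one_iff.1 hcc) hAA
  exact ⟨A, X, M, rfl, hD⟩

theorem gamU_spec (hn : 3 ≤ n) (A : ↥(Cfsg.GU n F q)) {t : F} (ht : t = 1 ∨ t = -1)
    (hA : A.1.1 * cmat C A.1.1 = t • 1) : Cfsg.IsGraphAutClassPSU (gamU C A) ∧ orderOf (gamU C A) = 2 := by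
  refine ⟨⟨hn, C.ind A 1, C.ind 1 C.bar, C.bar, by rw [C.order_two]; decide, C.isInnerDiagonal_iff.2 ⟨A, rfl⟩,
    C.isFieldAut_iff.2 rfl, by rw [C.ind_mul, map_one, mul_one, one_mul]; rfl⟩, orderOf_eq_prime ?_ ?_⟩
  · rw [sq, gamU, C.ind_mul]
    have hb : C.bar * C.bar = 1 := by rw [← sq, ← C.order_two, pow_orderOf_eq_one]
    rw [hb, ← C.ind_one_one, ind_eq_iff hn]
    exact ⟨t, hA⟩
  · intro h
    have h1 := (C.eq_one_of_ind_eq_one hn h).1
    have := C.order_two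
    rw [h1, orderOf_one] at this
    exact absurd this (by decide)

theorem isConjU_iff (hn : 3 ≤ n) {A A' : ↥(Cfsg.GU n F q)} {X X' : GL (Fin n) F}
    {M M' : Matrix (Fin n) (Fin n) F₀} (h : Desc S A X M) (h' : Desc S A' X' M') :
    Cfsg.IsConjUnder (Cfsg.inndiagPSU n F q) (gamU C A) (gamU C A') ↔ Cong M M' := by
  haveI : NeZero n := ⟨by omega⟩
  rw [Cfsg.IsConjUnder, C.inndiag_eq_range]
  constructor
  · rintro ⟨_, ⟨g, rfl⟩, he⟩
    obtain ⟨s, hs⟩ := (twist_iff hn A A' g).1 he.symm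
    obtain ⟨k, r, c, -, hc0, -, hk⟩ := lift_of_twist S h h' g hs
    exact Cong.symm (Cong.of_congr k (Units.mk0 c⁻¹ (inv_ne_zero hc0))
      (by rw [Units.val_mk0, hk, smul_smul, inv_mul_cancel₀ hc0, one_smul]))
  · intro hc
    obtain ⟨e, P, c, hP⟩ := hc.symm
    have hd : (P.1.submatrix id e.symm).det ≠ 0 := by
      rw [show (P.1.submatrix id e.symm).det = (Equiv.Perm.sign (e.symm : Equiv.Perm (Fin n)) : ℤ) * P.1.det from
        Matrix.det_permute' _ _]
      refine mul_ne_zero ?_ ((Matrix.isUnit_iff_isUnit_det _).1 P.isUnit).ne_zero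
      rcases Int.units_eq_one_or (Equiv.Perm.sign (e.symm : Equiv.Perm (Fin n))) with h1 | h1 <;> simp [h1]
    let k : GL (Fin n) F₀ := Matrix.GeneralLinearGroup.mkOfDetNeZero _ hd
    have hk : k.1ᵀ * M' * k.1 = ((c⁻¹ : F₀ˣ) : F₀) • M := by
      show (P.1.submatrix id e.symm)ᵀ * M' * P.1.submatrix id e.symm = _
      have h2 := congrArg (fun X => X.submatrix e.symm e.symm) hP
      simp only [Matrix.submatrix_submatrix, Equiv.self_comp_symm, Matrix.submatrix_id_id, submatrix_smul'] at h2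
      rw [h2, smul_smul, ← Units.val_mul, inv_mul_cancel, Units.val_one, one_smul]
      ext i j
      simp [Matrix.mul_apply]
    obtain ⟨g, s, r, -, -, hg⟩ := twist_of_lift S h h' k (c⁻¹).ne_zero hk
    exact ⟨_, ⟨g, rfl⟩, ((twist_iff hn A A' g).2 ⟨s, hg⟩).symm⟩

theorem lift_unique (hn : 3 ≤ n) {X : GL (Fin n) F} {k : Matrix (Fin n) (Fin n) F₀} {g g' : ↥(Cfsg.GU n F q)}
    (h : Lift S X X k g.1.1) (h' : Lift S X X k g'.1.1) : C.indHom g = C.indHom g' := by
  obtain ⟨r, hr, h⟩ := h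
  obtain ⟨r', hr', h'⟩ := h'
  rw [C.indHom_apply, C.indHom_apply, ind_eq_iff hn]
  refine ⟨r * r'⁻¹, ?_⟩
  refine ((Matrix.isUnit_iff_isUnit_det _).2 ((Matrix.isUnit_iff_isUnit_det _).1 X.isUnit)).mul_right_cancel ?_
  rw [Matrix.smul_mul, h, h', smul_smul, mul_assoc, inv_mul_cancel₀ hr', mul_one]

theorem mem_centralizer_gamU (hn : 3 ≤ n) (A g : ↥(Cfsg.GU n F q)) :
    C.indHom g ∈ Subgroup.centralizer ({gamU C A} : Set (MulAut (Cfsg.PSU n F q))) ↔
      ∃ s : F, g.1.1 * A.1.1 = s • (A.1.1 * cmat C g.1.1) := by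
  rw [← twist_iff hn, Subgroup.mem_centralizer_iff]
  simp only [Set.mem_singleton_iff, forall_eq]
  rw [mul_inv_eq_iff_eq_mul, eq_comm]

/-- The centraliser is the projective similarity group of the form. -/
theorem centralizer_gamU (hn : 3 ≤ n) {A : ↥(Cfsg.GU n F q)} {X : GL (Fin n) F}
    {M : Matrix (Fin n) (Fin n) F₀} (h : Desc S A X M) :
    Nonempty ((Cfsg.inndiagPSU n F q ⊓ Subgroup.centralizer {gamU C A} : Subgroup _) ≃* Cfsg.projQuot (simGrp M)) := by
  classical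
  haveI : NeZero n := ⟨by omega⟩
  have hex : ∀ k : simGrp M, ∃ g : ↥(Cfsg.GU n F q), Lift S X X k.1.1 g.1.1 ∧
      C.indHom g ∈ Subgroup.centralizer ({gamU C A} : Set (MulAut (Cfsg.PSU n F q))) := by
    rintro ⟨k, c, hk⟩
    obtain ⟨g, s, r, hr, hg, ht⟩ := twist_of_lift S h h k c.ne_zero hk
    exact ⟨g, ⟨r, hr, hg⟩, (mem_centralizer_gamU hn A g).2 ⟨s, ht⟩⟩
  choose G hG hGc using hex
  have hmul : ∀ a b : simGrp M, Lift S X X (a * b).1.1 (G a * G b).1.1 := by
    intro a b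
    obtain ⟨r, hr, h1⟩ := hG a
    obtain ⟨r', hr', h2⟩ := hG b
    refine ⟨r * r', mul_ne_zero hr hr', ?_⟩
    show (G a).1.1 * (G b).1.1 * X.1 = (r * r') • (X.1 * jmat S (a.1.1 * b.1.1))
    rw [Matrix.mul_assoc, h2, Matrix.mul_smul, ← Matrix.mul_assoc, h1, Matrix.smul_mul, smul_smul, Matrix.mul_assoc,
      ← jmat_mul, mul_comm r]
  let Ψ : simGrp M →* MulAut (Cfsg.PSU n F q) :=
    { toFun := fun k => C.indHom (G k)
      map_one' := by
        rw [← map_one (C.indHom (n := n))]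
        exact lift_unique S hn (hG 1) ⟨1, one_ne_zero, by
          show (1 : Matrix (Fin n) (Fin n) F) * X.1 = (1 : F) • (X.1 * jmat S 1)
          rw [jmat_one, Matrix.mul_one, Matrix.one_mul, one_smul]⟩
      map_mul' := fun a b => by
        rw [← map_mul]
        exact lift_unique S hn (hG _) (hmul a b) }
  have hker : Ψ.ker = (Cfsg.Geo.scalars (Fin n) F₀).subgroupOf (simGrp M) := by
    ext k
    rw [MonoidHom.mem_ker, Subgroup.mem_subgroupOf, mem_scalars']
    obtain ⟨r, hr, h1⟩ := hG k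
    have hXX : (X⁻¹).1 * X.1 = 1 := by rw [← Units.val_mul, inv_mul_cancel, Units.val_one]
    constructor
    · intro hk
      obtain ⟨-, s, hs⟩ := C.eq_one_of_ind_eq_one hn (show C.ind (G k) 1 = 1 from hk)
      rw [hs, C.gscal_val, Matrix.smul_mul, Matrix.one_mul] at h1
      have h2 := congrArg ((X⁻¹).1 * ·) h1
      simp only [Matrix.mul_smul] at h2
      rw [hXX, ← Matrix.mul_assoc, hXX, Matrix.one_mul] at h2
      have h3 : jmat S k.1.1 = (r⁻¹ * ((s : Fˣ) : F)) • 1 := by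
        rw [← smul_smul, h2, smul_smul, inv_mul_cancel₀ hr, one_smul]
      have h4 : k.1.1 = k.1.1 0 0 • (1 : Matrix (Fin n) (Fin n) F₀) := jmat_inj S (by
        rw [jmat_smul, jmat_one, h3]
        have := congrFun (congrFun h3 0) 0
        simp [jmat] at this
        rw [this])
      have h5 : k.1.1 0 0 ≠ 0 := fun e => k.1.ne_zero (by rw [h4, e, zero_smul])
      exact ⟨Units.mk0 _ h5, Units.ext (by rw [scl_val, Units.val_mk0]; exact h4)⟩
    · rintro ⟨c, hc⟩
      show C.indHom (G k) = 1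
      rw [hc, scl_val, jmat_smul, jmat_one, Matrix.mul_smul, Matrix.mul_one, smul_smul] at h1
      rw [C.indHom_apply, ← C.ind_one_one, ind_eq_iff hn]
      refine ⟨r * S.j c, ?_⟩
      refine ((Matrix.isUnit_iff_isUnit_det _).2 ((Matrix.isUnit_iff_isUnit_det _).1 X.isUnit)).mul_right_cancel ?_
      show _ = ((r * S.j c) • (1 : Matrix (Fin n) (Fin n) F)) * X.1
      rw [h1, Matrix.smul_mul, Matrix.one_mul]
  have hrange : Ψ.range = Cfsg.inndiagPSU n F q ⊓ Subgroup.centralizer {gamU C A} := by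
    rw [C.inndiag_eq_range]
    apply le_antisymm
    · rintro _ ⟨k, rfl⟩
      exact ⟨⟨G k, rfl⟩, hGc k⟩
    · rintro _ ⟨⟨g, rfl⟩, hg⟩
      obtain ⟨s, hs⟩ := (mem_centralizer_gamU hn A g).1 hg
      obtain ⟨k, r, c, hr, hc0, hgX, hk⟩ := lift_of_twist S h h g hs
      exact ⟨⟨k, Units.mk0 c hc0, hk⟩, lift_unique S hn (hG _) ⟨r, hr, hgX⟩⟩
  exact ⟨((MulEquiv.subgroupCongr hrange).symm.trans (QuotientGroup.quotientKerEquivRange Ψ).symm).trans
    (QuotientGroup.quotientMulEquivOfEq hker)⟩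

theorem lift_det (X : GL (Fin n) F) {k : Matrix (Fin n) (Fin n) F₀} {g : Matrix (Fin n) (Fin n) F} {r : F}
    (h : g * X.1 = r • (X.1 * jmat S k)) : g.det = r ^ n * S.j k.det := by
  have hX := ((Matrix.isUnit_iff_isUnit_det _).1 X.isUnit).ne_zero
  have := congrArg Matrix.det h
  rw [Matrix.det_mul, Matrix.det_smul, Matrix.det_mul, jmat_det, Fintype.card_fin] at this
  exact mul_right_cancel₀ hX (by rw [this]; ring)

/-- The determinants in the centraliser. -/
theorem split_gamU (hn : 3 ≤ n) {A : ↥(Cfsg.GU n F q)} {X : GL (Fin n) F}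
    {M : Matrix (Fin n) (Fin n) F₀} (h : Desc S A X M) (T : Subgroup C.unitOne)
    (hT : ∀ u : C.unitOne, u ∈ T ↔ ∃ (k : GL (Fin n) F₀) (c : F₀ˣ) (r : F), Mult M k c ∧
      r * C.bar r * S.j c = 1 ∧ ((u : Fˣ) : F) = r ^ n * S.j k.1.det) :
    Cfsg.splitClassCount (Cfsg.inndiagPSU n F q) (Cfsg.Inn (Cfsg.PSU n F q)) (gamU C A) = T.index := by
  haveI : NeZero n := ⟨by omega⟩
  rw [CfsgLib.Descent.splitClassCount_eq_index_of_hom C.indHom C.detHom (C.detHom_surjective (by omega))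
    (gamU C A) C.inndiag_eq_range C.inn_eq_map]
  congr 1
  have hkey : ∀ (g : ↥(Cfsg.GU n F q)) (k : GL (Fin n) F₀) (r : F) (c : F₀), r ≠ 0 →
      g.1.1 * X.1 = r • (X.1 * jmat S k.1) → k.1ᵀ * M * k.1 = c • M → r * C.bar r * S.j c = 1 := by
    intro g k r c hr hgX hk
    obtain ⟨⟨ν, hν0, hAX⟩, hd, -, ζ, hζ0, hζ⟩ := h
    set H := X.1ᵀ * cmat C X.1 with hH
    have h1 : (g.1.1 * X.1)ᵀ * cmat C (g.1.1 * X.1) = H := by
      rw [cmat_mul, Matrix.transpose_mul, Matrix.mul_assoc, ← Matrix.mul_assoc g.1.1ᵀ, gu_mat C g, Matrix.one_mul]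
    have h2 : (jmat S k.1)ᵀ * H * jmat S k.1 = S.j c • H := by
      have h3 := congrArg (jmat S) hk
      rw [jmat_mul, jmat_mul, jmat_transpose, jmat_smul, hζ, Matrix.mul_smul, Matrix.smul_mul, smul_comm (S.j c)] at h3
      exact smul_right_injective _ hζ0 h3
    rw [hgX, cmat_smul, cmat_mul, cmat_jmat, Matrix.transpose_smul, Matrix.smul_mul, Matrix.mul_smul, smul_smul,
      Matrix.transpose_mul, show (jmat S k.1)ᵀ * X.1ᵀ * (cmat C X.1 * jmat S k.1) = (jmat S k.1)ᵀ * H * jmat S k.1 by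
        simp only [hH, Matrix.mul_assoc], h2, smul_smul] at h1
    have hH0 : H ≠ 0 := fun hh => hd (S.j.injective (by rw [← jmat_det, hζ, hh, smul_zero, Matrix.det_zero, map_zero]))
    exact smul_left_injective F hH0 (show (r * C.bar r * S.j c) • H = (1 : F) • H by rw [one_smul, h1])
  ext u
  rw [hT]
  constructor
  · rintro ⟨g, hg, rfl⟩
    obtain ⟨s, hs⟩ := (mem_centralizer_gamU hn A g).1 hg
    obtain ⟨k, r, c, hr, hc0, hgX, hk⟩ := lift_of_twist S h h g hs
    exact ⟨k, Units.mk0 c hc0, r, hk, hkey g k r c hr hgX hk, by rw [C.detHom_val]; exact lift_det S X hgX⟩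
  · rintro ⟨k, c, r, hk, hrc, hu⟩
    obtain ⟨g, s, r', hr', hgX, ht⟩ := twist_of_lift S h h k c.ne_zero hk
    have h5 := hkey g k r' c hr' hgX hk
    -- adjust by a scalar of norm one
    have hs1 : (r / r') * C.bar (r / r') = 1 := by
      have hr0 : r ≠ 0 := fun e => by simp [e] at hrc
      have hb : C.bar r' ≠ 0 := fun e => hr' (C.bar.injective (by rw [e, map_zero]))
      rw [map_div₀]
      field_simp
      exact mul_right_cancel₀ (fun e => c.ne_zero (S.j.injective (by rw [e, map_zero]))) (hrc.trans h5.symm)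
    have hs0 : r / r' ≠ 0 := fun e => by rw [e, zero_mul] at hs1; exact zero_ne_one hs1
    refine ⟨C.gscal ⟨Units.mk0 _ hs0, hs1⟩ * g, ?_, ?_⟩
    · show C.indHom _ ∈ Subgroup.centralizer _
      rw [C.indHom_apply, C.ind_gscal_mul, ← C.indHom_apply]
      exact (mem_centralizer_gamU hn A g).2 ⟨s, ht⟩
    · apply Subtype.ext; apply Units.ext
      rw [C.detHom_val, hu]
      show ((C.gscal ⟨Units.mk0 _ hs0, hs1⟩).1.1 * g.1.1).det = _
      rw [C.gscal_val, Matrix.smul_mul, Matrix.one_mul, Matrix.det_smul, Fintype.card_fin, lift_det S X hgX]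
      show (r / r') ^ n * (r' ^ n * S.j k.1.det) = _
      rw [← mul_assoc, ← mul_pow, div_mul_cancel₀ _ hr']

/-- the `q`-th power automorphism -/
theorem desc_one [NeZero n] : Desc S (1 : ↥(Cfsg.GU n F q)) 1 (1 : Matrix (Fin n) (Fin n) F₀) := by
  refine ⟨⟨1, one_ne_zero, ?_⟩, by simp, Or.inl Matrix.transpose_one, 1, one_ne_zero, ?_⟩
  · show (1 : Matrix (Fin n) (Fin n) F) * cmat C 1 = (1 : F) • (1 : Matrix (Fin n) (Fin n) F)
    rw [cmat_one, Matrix.mul_one, one_smul]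
  · rw [jmat_one, one_smul]
    show (1 : Matrix (Fin n) (Fin n) F) = (1 : Matrix (Fin n) (Fin n) F)ᵀ * cmat C 1
    rw [cmat_one, Matrix.transpose_one, Matrix.mul_one]

end CfsgLib.FormCl
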