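import Mathlib
import Cfsg.Agent.Lib.FormClass.PSU

/-!
# Splitting of the classes of involutory graph automorphisms of `PSU_n`
-/

set_option autoImplicit false
set_option linter.all false

namespace CfsgLib.FormCl

open Matrix CfsgLib.SU CfsgLib.Classical

variable {F : Type*} [Field F] [Fintype F] {q : ℕ} {C : UCtx F q} {n : ℕ} {F₀ : Type*} [Field F₀] [Fintype F₀]
  (S : SubF C F₀)

theorem unit_norm_quot {u : C.unitOne} : ∃ r : F, r ≠ 0 ∧ r / C.bar r = ((u : Fˣ) : F) := by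
  obtain ⟨r, hr, hs⟩ := exists_quot_of_norm_one C (C.mem_unitOne.1 u.2)
  refine ⟨C.bar r, fun e => hr (C.bar.injective (by rw [e, map_zero])), ?_⟩
  rw [C.bar_bar, ← hs, mul_div_assoc, div_self hr, mul_one]

theorem split_square (hn : 3 ≤ n) (hF : Fintype.card F = q ^ 2) {A : ↥(Cfsg.GU n F q)} {X : GL (Fin n) F}
    {M : Matrix (Fin n) (Fin n) F₀} (h : Desc S A X M) (hcase : Odd n ∨ (2 : F₀) = 0) :
    Cfsg.splitClassCount (Cfsg.inndiagPSU n F q) (Cfsg.Inn (Cfsg.PSU n F q)) (gamU C A) = Nat.gcd n (q + 1) := by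
  rw [split_gamU S hn h (powMonoidHom n : C.unitOne →* C.unitOne).range ?_, IsCyclic.index_powMonoidHom_range,
    C.card_unitOne hF, Nat.gcd_comm]
  intro u
  constructor
  · rintro ⟨v, rfl⟩
    refine ⟨1, 1, ((v : Fˣ) : F), Mult.one M, ?_, ?_⟩
    · rw [Units.val_one, map_one, mul_one]; exact C.mem_unitOne.1 v.2
    · show _ = ((v : Fˣ) : F) ^ n * S.j (1 : Matrix (Fin n) (Fin n) F₀).det
      rw [Matrix.det_one, map_one, mul_one, powMonoidHom_apply]
      push_cast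
      rfl
  · rintro ⟨k, c, r, hk, hrc, hu⟩
    obtain ⟨μ, rfl, hμ⟩ := det_mult_square (by omega) h.2.1 hcase hk
    have hv : (r * S.j (μ : F₀)) * C.bar (r * S.j (μ : F₀)) = 1 := by
      rw [Units.val_pow_eq_pow_val, map_pow] at hrc
      rw [map_mul, S.fix]
      linear_combination hrc
    have hv0 : r * S.j (μ : F₀) ≠ 0 := fun e => by rw [e, zero_mul] at hv; exact zero_ne_one hv
    refine ⟨⟨Units.mk0 _ hv0, hv⟩, Subtype.ext (Units.ext ?_)⟩
    rw [powMonoidHom_apply, hu, hμ, map_pow, ← mul_pow]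
    push_cast
    rfl

theorem split_skew (hn : 3 ≤ n) (hF : Fintype.card F = q ^ 2) {A : ↥(Cfsg.GU n F q)} {X : GL (Fin n) F}
    {M : Matrix (Fin n) (Fin n) F₀} (h : Desc S A X M) {m : ℕ} (hnm : n = 2 * m) (halt : AltCongr.IsAltM M) :
    Cfsg.splitClassCount (Cfsg.inndiagPSU n F q) (Cfsg.Inn (Cfsg.PSU n F q)) (gamU C A) = Nat.gcd m (q + 1) := by
  obtain ⟨hdet, hex⟩ := det_mult_alt (alt_cong_JM (m := m) M (by simp [hnm]) halt h.2.1)
  rw [split_gamU S hn h (powMonoidHom m : C.unitOne →* C.unitOne).range ?_, IsCyclic.index_powMonoidHom_range,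
    C.card_unitOne hF, Nat.gcd_comm]
  intro u
  constructor
  · rintro ⟨v, rfl⟩
    obtain ⟨r, hr, hrv⟩ := unit_norm_quot (u := v)
    have hb : C.bar r ≠ 0 := fun e => hr (C.bar.injective (by rw [e, map_zero]))
    obtain ⟨c₀, hc₀⟩ := S.surj (r * C.bar r)⁻¹ (by rw [map_inv₀, norm_mul])
    have hc0 : c₀ ≠ 0 := fun e => by
      rw [e, map_zero] at hc₀
      exact inv_ne_zero (mul_ne_zero hr hb) hc₀.symm
    obtain ⟨k, hk⟩ := hex (Units.mk0 c₀ hc0)
    refine ⟨k, Units.mk0 c₀ hc0, r, hk, by rw [Units.val_mk0, hc₀, mul_inv_cancel₀ (mul_ne_zero hr hb)], ?_⟩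
    rw [hdet k _ hk, Units.val_mk0, map_pow, hc₀,
      show r ^ n = r ^ (2 * m) from congrArg (r ^ ·) hnm, pow_mul, ← mul_pow, powMonoidHom_apply]
    push_cast
    rw [← hrv]
    congr 1
    field_simp
  · rintro ⟨k, c, r, hk, hrc, hu⟩
    have hr : r ≠ 0 := fun e => by simp [e] at hrc
    have hb : C.bar r ≠ 0 := fun e => hr (C.bar.injective (by rw [e, map_zero]))
    refine ⟨C.quotBar (Units.mk0 r hr), Subtype.ext (Units.ext ?_)⟩
    rw [powMonoidHom_apply, hu, hdet k c hk, map_pow, show r ^ n = r ^ (2 * m) from congrArg (r ^ ·) hnm,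
      pow_mul, ← mul_pow]
    push_cast
    rw [C.quotBar_val, Units.val_mk0]
    congr 1
    field_simp
    linear_combination -hrc

theorem index_neg_one_U (hF : Fintype.card F = q ^ 2) (h2 : (2 : F) ≠ 0) (z : C.unitOne) (hz : ((z : Fˣ) : F) = -1) :
    (Subgroup.zpowers z).index = (q + 1) / 2 := by
  have hord : orderOf z = 2 := orderOf_eq_prime (Subtype.ext (Units.ext (by push_cast; rw [hz, neg_one_sq])))
    (fun h => h2 (by
      have := congrArg (fun v : C.unitOne => ((v : Fˣ) : F)) h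
      rw [hz] at this
      push_cast at this
      linear_combination -this))
  have h1 := Subgroup.index_mul_card (Subgroup.zpowers z)
  rw [Nat.card_zpowers, hord, C.card_unitOne hF] at h1
  omega

theorem two_ne_zero_top (h2 : (2 : F₀) ≠ 0) (S : SubF C F₀) : (2 : F) ≠ 0 := fun h => h2 (S.j.injective (by
  rw [map_ofNat, map_zero]; exact h))

theorem split_sym (hn : 3 ≤ n) (hF : Fintype.card F = q ^ 2) (hq : Odd q) (h2 : (2 : F₀) ≠ 0) {A : ↥(Cfsg.GU n F q)}
    {X : GL (Fin n) F} {M : Matrix (Fin n) (Fin n) F₀} (h : Desc S A X M) {m : ℕ} (hnm : n = 2 * m) (hsym : Mᵀ = M) :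
    Cfsg.splitClassCount (Cfsg.inndiagPSU n F q) (Cfsg.Inn (Cfsg.PSU n F q)) (gamU C A) = Nat.gcd n (q + 1) / 2 := by
  have hneg : (-1 : Fˣ) ∈ C.unitOne := by rw [C.mem_unitOne]; simp
  set z : C.unitOne := ⟨-1, hneg⟩ with hz
  have hzv : ((z : Fˣ) : F) = -1 := by simp [hz]
  rw [split_gamU S hn h ((powMonoidHom m : C.unitOne →* C.unitOne).range ⊔ Subgroup.zpowers z) ?_,
    CfsgLib.Descent.index_powRange_sup, index_neg_one_U hF (two_ne_zero_top h2 S) z hzv]
  · obtain ⟨k, hk⟩ := hq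
    have e1 : q + 1 = 2 * ((q + 1) / 2) := by omega
    conv_rhs => rw [hnm, e1, Nat.gcd_mul_left, Nat.mul_div_cancel_left _ two_pos]
    rw [Nat.gcd_comm]
  intro u
  obtain ⟨j, rfl⟩ : ∃ j, n = j + 1 := ⟨n - 1, by omega⟩
  constructor
  · intro hu
    rw [Subgroup.mem_sup] at hu
    obtain ⟨_, ⟨v, rfl⟩, y, hy, rfl⟩ := hu
    obtain ⟨sgn, hsgn, hyv⟩ : ∃ sgn : F₀, (sgn = 1 ∨ sgn = -1) ∧ ((y : Fˣ) : F) = S.j sgn := by
      obtain ⟨i, rfl⟩ := Subgroup.mem_zpowers_iff.1 hy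
      push_cast
      rw [hzv]
      rcases Int.even_or_odd i with he | ho
      · exact ⟨1, Or.inl rfl, by rw [he.neg_one_zpow, map_one]⟩
      · exact ⟨-1, Or.inr rfl, by rw [ho.neg_one_zpow, map_neg, map_one]⟩
    obtain ⟨r, hr, hrv⟩ := unit_norm_quot (u := v)
    have hb : C.bar r ≠ 0 := fun e => hr (C.bar.injective (by rw [e, map_zero]))
    obtain ⟨c₀, hc₀⟩ := S.surj (r * C.bar r)⁻¹ (by rw [map_inv₀, norm_mul])
    have hc0 : c₀ ≠ 0 := fun e => by
      rw [e, map_zero] at hc₀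
      exact inv_ne_zero (mul_ne_zero hr hb) hc₀.symm
    obtain ⟨k, hk, hkd⟩ := exists_mult_sym h2 (m := m) hnm M hsym h.2.1 (Units.mk0 c₀ hc0) sgn hsgn
    refine ⟨k, Units.mk0 c₀ hc0, r, hk, by rw [Units.val_mk0, hc₀, mul_inv_cancel₀ (mul_ne_zero hr hb)], ?_⟩
    rw [hkd, Units.val_mk0, map_mul, map_pow, hc₀, powMonoidHom_apply]
    push_cast
    rw [hyv, ← hrv, show r ^ (j + 1) = r ^ (2 * m) from congrArg (r ^ ·) hnm, pow_mul]
    rw [show (r ^ 2) ^ m * (S.j sgn * ((r * C.bar r)⁻¹) ^ m) = ((r ^ 2) * (r * C.bar r)⁻¹) ^ m * S.j sgn by ring]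
    congr 2
    field_simp
  · rintro ⟨k, c, r, hk, hrc, hu⟩
    have hr : r ≠ 0 := fun e => by simp [e] at hrc
    have hb : C.bar r ≠ 0 := fun e => hr (C.bar.injective (by rw [e, map_zero]))
    have hq' : r ^ 2 * S.j (c : F₀) = r / C.bar r := by
      field_simp
      linear_combination hrc
    have hrn : r ^ (j + 1) * S.j ((c : F₀) ^ m) = (r / C.bar r) ^ m := by
      rw [show r ^ (j + 1) = r ^ (2 * m) from congrArg (r ^ ·) hnm, map_pow, pow_mul, ← mul_pow, hq']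
    rcases det_mult_sym hnm h.2.1 hk with e | e
    · refine Subgroup.mem_sup_left ⟨C.quotBar (Units.mk0 r hr), Subtype.ext (Units.ext ?_)⟩
      rw [powMonoidHom_apply, hu, e, hrn]
      push_cast
      rw [C.quotBar_val, Units.val_mk0]
    · have : u = (powMonoidHom m) (C.quotBar (Units.mk0 r hr)) * z := Subtype.ext (Units.ext (by
        rw [hu, e, map_neg, mul_neg, hrn, powMonoidHom_apply]
        push_cast
        rw [C.quotBar_val, Units.val_mk0, hzv]
        ring))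
      rw [this]
      exact Subgroup.mul_mem_sup ⟨_, rfl⟩ (Subgroup.mem_zpowers z)

end CfsgLib.FormCl
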