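import Mathlib
import Cfsg.Agent.Lib.FormClass.PSUDets

/-!
# Choosing the conjugation and a model of the fixed field
-/

set_option autoImplicit false
set_option linter.all false

namespace CfsgLib.FormCl

open CfsgLib.SU

theorem exists_setup {F : Type*} [Field F] [Fintype F] {F₀ : Type*} [Field F₀] [Fintype F₀] {q : ℕ}
    (hF : Fintype.card F = q ^ 2) (hF₀ : Fintype.card F₀ = q) :
    ∃ C : UCtx F q, Nonempty (SubF C F₀) := by
  obtain ⟨p, hp⟩ := CharP.exists F₀
  obtain ⟨f, hpp, hf⟩ := FiniteField.card F₀ p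
  haveI := Fact.mk hpp
  obtain ⟨C⟩ := CfsgLib.SU.exists_ctx (F := F) (hF₀.symm.trans hf) f.pos hF
  exact ⟨C, exists_subF C hF hF₀⟩

end CfsgLib.FormCl
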