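import Cfsg.Agent.Lib.FormClass.Basic

/-!
# Siegel transvections of a symmetric or alternating matrix form in odd characteristic

They fix enough singular vectors to force commuting maps to be scalar and semilinear ones to be linear.
-/

set_option autoImplicit false
set_option linter.all false

namespace CfsgLib.FormCl

open Matrix

variable {K : Type*} [Field K] {n : ℕ}

/-- the bilinear form of a matrix -/
def bl (M : Matrix (Fin n) (Fin n) K) (x y : Fin n → K) : K := x ⬝ᵥ M *ᵥ y

/-- a nondegenerate symmetric (`s = 1`) or alternating (`s = -1`) form -/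
structure OddForm (M : Matrix (Fin n) (Fin n) K) (s : K) : Prop where
  two : (2 : K) ≠ 0
  tr : Mᵀ = s • M
  sq : s = 1 ∨ s = -1
  det : M.det ≠ 0

variable {M : Matrix (Fin n) (Fin n) K} {s : K}

theorem bl_add_left (x x' y : Fin n → K) : bl M (x + x') y = bl M x y + bl M x' y := add_dotProduct _ _ _

theorem bl_smul_left (a : K) (x y : Fin n → K) : bl M (a • x) y = a * bl M x y := smul_dotProduct _ _ _

theorem bl_add_right (x y y' : Fin n → K) : bl M x (y + y') = bl M x y + bl M x y' := by
  rw [bl, mulVec_add, dotProduct_add]; rfl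

theorem bl_smul_right (a : K) (x y : Fin n → K) : bl M x (a • y) = a * bl M x y := by
  rw [bl, mulVec_smul, dotProduct_smul]; rfl

theorem bl_zero_left (y : Fin n → K) : bl M 0 y = 0 := zero_dotProduct _

theorem bl_zero_right (x : Fin n → K) : bl M x 0 = 0 := by rw [bl, mulVec_zero, dotProduct_zero]

theorem bl_mulVec (g : Matrix (Fin n) (Fin n) K) (x y : Fin n → K) :
    bl M (g *ᵥ x) (g *ᵥ y) = bl (gᵀ * M * g) x y := by
  simp only [bl, ← mulVec_mulVec]
  rw [dotProduct_mulVec x gᵀ, vecMul_transpose]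

namespace OddForm

variable (h : OddForm M s)
include h

theorem symm (x y : Fin n → K) : bl M y x = s * bl M x y := by
  show y ⬝ᵥ M *ᵥ x = s * (x ⬝ᵥ M *ᵥ y)
  rw [dotProduct_mulVec, dotProduct_comm, ← Matrix.mulVec_transpose, h.tr, smul_mulVec, dotProduct_smul, smul_eq_mul]

theorem s_ne : s ≠ 0 := by rcases h.sq with e | e <;> simp [e]

theorem s_sq : s * s = 1 := by rcases h.sq with e | e <;> simp [e]

theorem perp_symm {x y : Fin n → K} (hxy : bl M x y = 0) : bl M y x = 0 := by rw [h.symm x y, hxy, mul_zero]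

theorem self_of_alt (hs : s = -1) (x : Fin n → K) : bl M x x = 0 := by
  have h1 := h.symm x x
  rw [hs] at h1
  exact (mul_eq_zero.1 (show (2 : K) * bl M x x = 0 by linear_combination h1)).resolve_left h.two

theorem eq_zero_of_perp {y : Fin n → K} (hy : ∀ x, bl M x y = 0) : y = 0 := by
  refine Matrix.eq_zero_of_mulVec_eq_zero h.det (funext fun i => ?_)
  have := hy (Pi.single i 1)
  simpa [bl] using this

/-- the vectors orthogonal to `e` determine it up to a scalar -/
theorem par_of_ker {e f : Fin n → K} (hf : f ≠ 0) (hk : ∀ x, bl M x f = 0 → bl M x e = 0) :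
    ∃ a : K, e = a • f := by
  obtain ⟨x, hx⟩ : ∃ x, bl M x f ≠ 0 := by
    by_contra hc
    simp only [not_exists, not_not] at hc
    exact hf (h.eq_zero_of_perp hc)
  refine ⟨bl M x e / bl M x f, sub_eq_zero.1 (h.eq_zero_of_perp fun y => ?_)⟩
  have h1 := hk (bl M x f • y + (-bl M y f) • x) (by rw [bl_add_left, bl_smul_left, bl_smul_left]; ring)
  rw [bl_add_left, bl_smul_left, bl_smul_left] at h1
  rw [sub_eq_add_neg, ← neg_smul, bl_add_right, bl_smul_right]
  field_simp
  linear_combination h1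

theorem exists_dual {e f : Fin n → K} (hf : f ≠ 0) (hne : ∀ a : K, e ≠ a • f) (a b : K) :
    ∃ x, bl M x e = a ∧ bl M x f = b := by
  obtain ⟨x, hxf, hxe⟩ : ∃ x, bl M x f = 0 ∧ bl M x e ≠ 0 := by
    by_contra hc
    simp only [not_exists, not_and, not_not] at hc
    obtain ⟨a, ha⟩ := h.par_of_ker hf hc
    exact hne a ha
  obtain ⟨y, hy⟩ : ∃ y, bl M y f ≠ 0 := by
    by_contra hc
    simp only [not_exists, not_not] at hc
    exact hf (h.eq_zero_of_perp hc)
  refine ⟨(b / bl M y f) • y + ((a - b / bl M y f * bl M y e) / bl M x e) • x, ?_, ?_⟩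
  · rw [bl_add_left, bl_smul_left, bl_smul_left, div_mul_cancel₀ _ hxe]; ring
  · rw [bl_add_left, bl_smul_left, bl_smul_left, hxf, mul_zero, add_zero, div_mul_cancel₀ _ hy]

theorem exists_one {e : Fin n → K} (he : e ≠ 0) : ∃ x, bl M x e = 1 := by
  obtain ⟨x, hx⟩ : ∃ x, bl M x e ≠ 0 := by
    by_contra hc
    simp only [not_exists, not_not] at hc
    exact he (h.eq_zero_of_perp hc)
  exact ⟨(bl M x e)⁻¹ • x, by rw [bl_smul_left, inv_mul_cancel₀ hx]⟩

/-- a singular vector pairing with a singular vector -/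
theorem singular_shift {x e : Fin n → K} (he : bl M e e = 0) (hx : bl M x e = 1) :
    bl M (x + (-(bl M x x) / 2) • e) (x + (-(bl M x x) / 2) • e) = 0 := by
  rw [bl_add_left, bl_add_right, bl_add_right, bl_smul_left, bl_smul_left, bl_smul_right, bl_smul_right, he,
    h.symm x e, hx]
  rcases h.sq with e1 | e1
  · rw [e1]; field_simp [h.two]; ring
  · rw [h.self_of_alt e1 x]; simp

/-- an anisotropic vector orthogonal to a projectable family -/
theorem exists_aniso_perp (hs : s = 1) {k : ℕ} (v : Fin k → (Fin n → K)) (hk : k < n)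
    (proj : ∀ x, ∃ c : Fin k → K, ∀ i, bl M (x + ∑ j, c j • v j) (v i) = 0) :
    ∃ y, (∀ i, bl M y (v i) = 0) ∧ bl M y y ≠ 0 := by
  by_contra hc
  simp only [not_exists, not_and, not_not] at hc
  let L : (Fin n → K) →ₗ[K] (Fin k → K) :=
    { toFun := fun x i => bl M x (v i)
      map_add' := fun a b => funext fun i => bl_add_left a b (v i)
      map_smul' := fun c a => funext fun i => bl_smul_left c a (v i) }
  obtain ⟨y, hy, hy0⟩ := Submodule.exists_mem_ne_zero_of_ne_bot
    (LinearMap.ker_ne_bot_of_finrank_lt (f := L) (by simpa using hk))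
  have hyv : ∀ i, bl M y (v i) = 0 := fun i => congrFun (LinearMap.mem_ker.1 hy) i
  refine hy0 (h.eq_zero_of_perp fun x => ?_)
  obtain ⟨c, hc'⟩ := proj x
  have h1 := hc (x + ∑ j, c j • v j + y) (fun i => by rw [bl_add_left, hc' i, hyv i, add_zero])
  generalize hw : x + ∑ j, c j • v j = w at h1 hc'
  rw [bl_add_left, bl_add_right, bl_add_right, hc _ hc', hc _ hyv, h.symm w y, hs] at h1
  subst hw
  have h2 : bl M (x + ∑ j, c j • v j) y = 0 :=
    (mul_eq_zero.1 (show (2 : K) * bl M (x + ∑ j, c j • v j) y = 0 by linear_combination h1)).resolve_left h.two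
  rw [bl_add_left] at h2
  have h3 : bl M (∑ j, c j • v j) y = 0 := by
    rw [bl, sum_dotProduct]
    refine Finset.sum_eq_zero fun j _ => ?_
    show bl M (c j • v j) y = 0
    rw [bl_smul_left, h.perp_symm (hyv j), mul_zero]
  rwa [h3, add_zero] at h2

/-- singular vectors exist -/
theorem exists_singular [Fintype K] (hn : 3 ≤ n) : ∃ e, e ≠ 0 ∧ bl M e e = 0 := by
  haveI : NeZero n := ⟨by omega⟩
  rcases h.sq with hs | hs
  swap
  · exact ⟨Pi.single 0 1, fun e => one_ne_zero (α := K) (by simpa using congrFun e 0), h.self_of_alt hs _⟩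
  obtain ⟨v, -, hv⟩ := h.exists_aniso_perp hs (k := 0) Fin.elim0 (by omega) fun x => ⟨Fin.elim0, fun i => i.elim0⟩
  obtain ⟨w, hw, hww⟩ := h.exists_aniso_perp hs (k := 1) ![v] (by omega) fun x =>
    ⟨![-(bl M x v) / bl M v v], fun i => by
      fin_cases i
      simp only [Fin.sum_univ_one, cons_val_zero, bl_add_left, bl_smul_left, Fin.zero_eta, Fin.isValue]
      field_simp; ring⟩
  have hwv : bl M w v = 0 := hw 0
  have hvw : bl M v w = 0 := h.perp_symm hwv
  obtain ⟨z, hz, hzz⟩ := h.exists_aniso_perp hs (k := 2) ![v, w] (by omega) fun x =>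
    ⟨![-(bl M x v) / bl M v v, -(bl M x w) / bl M w w], fun i => by
      fin_cases i <;>
      · simp only [Fin.sum_univ_two, cons_val_zero, cons_val_one, bl_add_left, bl_smul_left, Fin.zero_eta,
          Fin.mk_one, Fin.isValue, hwv, hvw]
        field_simp; ring⟩
  have hzv : bl M z v = 0 := hz 0
  have hzw : bl M z w = 0 := hz 1
  obtain ⟨a, b, hab⟩ := FiniteField.exists_root_sum_quadratic
    (R := K) (f := Polynomial.C (bl M v v) * Polynomial.X ^ 2)
    (g := Polynomial.C (bl M w w) * Polynomial.X ^ 2 + Polynomial.C (bl M z z))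
    (by rw [Polynomial.degree_C_mul_X_pow 2 hv]; rfl)
    (by rw [Polynomial.degree_add_C (by rw [Polynomial.degree_C_mul_X_pow 2 hww]; decide),
      Polynomial.degree_C_mul_X_pow 2 hww]; rfl)
    (FiniteField.odd_card_of_char_ne_two (fun e => h.two (by
      haveI : CharP K 2 := ringChar.of_eq e
      exact CharTwo.two_eq_zero)))
  simp only [Polynomial.eval_add, Polynomial.eval_mul, Polynomial.eval_C, Polynomial.eval_pow, Polynomial.eval_X] at hab
  refine ⟨a • v + b • w + z, fun e => hzz ?_, ?_⟩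
  · have h1 : bl M (a • v + b • w + z) z = 0 := by rw [e, bl_zero_left]
    simpa [bl_add_left, bl_smul_left, h.perp_symm hzv, h.perp_symm hzw] using h1
  · simp only [bl_add_left, bl_add_right, bl_smul_left, bl_smul_right, hwv, hvw, hzv, hzw, h.perp_symm hzv,
      h.perp_symm hzw]
    linear_combination hab

/-- a vector between a hyperbolic pair -/
theorem exists_mid (hn : 3 ≤ n) {e z : Fin n → K} (he : bl M e e = 0) (hze : bl M z e = 1) (hzz : bl M z z = 0) :
    ∃ u a, u ≠ 0 ∧ bl M u e = 0 ∧ bl M u z = 0 ∧ a ≠ 0 ∧ a * (1 + s) = -(bl M u u) := by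
  have hez : bl M e z = s := by rw [h.symm z e, hze, mul_one]
  rcases h.sq with hs | hs
  · obtain ⟨u, hu, huu⟩ := h.exists_aniso_perp hs (k := 2) ![e, z] (by omega) fun x =>
      ⟨![-(bl M x z), -(bl M x e)], fun i => by
        fin_cases i <;>
        · simp only [Fin.sum_univ_two, cons_val_zero, cons_val_one, bl_add_left, bl_smul_left, Fin.zero_eta,
            Fin.mk_one, Fin.isValue, he, hzz, hze, hez, hs]
          ring⟩
    refine ⟨u, -(bl M u u) / 2, fun e1 => huu (by rw [e1, bl_zero_left]), hu 0, hu 1,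
      div_ne_zero (neg_ne_zero.2 huu) h.two, ?_⟩
    rw [hs, show (1 : K) + 1 = 2 by norm_num, div_mul_cancel₀ _ h.two]
  · let L : (Fin n → K) →ₗ[K] K × K :=
      { toFun := fun x => (bl M x e, bl M x z)
        map_add' := fun a b => by simp [bl_add_left]
        map_smul' := fun c a => by simp [bl_smul_left] }
    obtain ⟨u, hu, hu0⟩ := Submodule.exists_mem_ne_zero_of_ne_bot (LinearMap.ker_ne_bot_of_finrank_lt (f := L)
      (by rw [Module.finrank_prod, Module.finrank_self, Module.finrank_fintype_fun_eq_card, Fintype.card_fin]; omega))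
    exact ⟨u, 1, hu0, congrArg Prod.fst (LinearMap.mem_ker.1 hu), congrArg Prod.snd (LinearMap.mem_ker.1 hu),
      one_ne_zero, by rw [h.self_of_alt hs, hs]; ring⟩

theorem exists_hyp {e : Fin n → K} (he0 : e ≠ 0) (he : bl M e e = 0) :
    ∃ z, bl M z e = 1 ∧ bl M z z = 0 := by
  obtain ⟨z0, hz0⟩ := h.exists_one he0
  exact ⟨_, by rw [bl_add_left, bl_smul_left, he, mul_zero, add_zero, hz0], h.singular_shift he hz0⟩

/-- a non-parallel orthogonal vector -/
theorem exists_u (hn : 3 ≤ n) {e : Fin n → K} (he0 : e ≠ 0) (he : bl M e e = 0) :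
    ∃ u c, bl M e u = 0 ∧ bl M u u + (1 + s) * c = 0 ∧ c ≠ 0 ∧ ∀ a : K, u ≠ a • e := by
  obtain ⟨z, hze, hzz⟩ := h.exists_hyp he0 he
  obtain ⟨u, c, hu0, hue, huz, hc0, hc⟩ := h.exists_mid hn he hze hzz
  refine ⟨u, c, h.perp_symm hue, by linear_combination hc, hc0, fun a e1 => hu0 ?_⟩
  rw [e1, bl_smul_left, h.symm z e, hze, mul_one] at huz
  rw [e1, (mul_eq_zero.1 huz).resolve_right h.s_ne, zero_smul]

end OddForm

/-- `x ↦ B(x,e)u - sB(x,u)e + cB(x,e)e` -/
def siegN (M : Matrix (Fin n) (Fin n) K) (s : K) (e u : Fin n → K) (c : K) : Matrix (Fin n) (Fin n) K :=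
  vecMulVec u (M *ᵥ e) + vecMulVec e (c • (M *ᵥ e) - s • (M *ᵥ u))

theorem vmv (a b x : Fin n → K) : vecMulVec a b *ᵥ x = (b ⬝ᵥ x) • a := by
  ext i
  simp only [mulVec, dotProduct, vecMulVec_apply, Pi.smul_apply, smul_eq_mul, Finset.sum_mul]
  exact Finset.sum_congr rfl fun k _ => by ring

theorem siegN_mulVec (e u x : Fin n → K) (c : K) :
    siegN M s e u c *ᵥ x = bl M x e • u + (c * bl M x e - s * bl M x u) • e := by
  simp only [siegN, add_mulVec, vmv, sub_dotProduct, smul_dotProduct, smul_eq_mul, bl]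
  rw [dotProduct_comm x (M *ᵥ e), dotProduct_comm x (M *ᵥ u)]

/-- the Siegel transvections of a form -/
def Sieg (M : Matrix (Fin n) (Fin n) K) (s : K) (U : GL (Fin n) K) : Prop :=
  ∃ e u c, e ≠ 0 ∧ bl M e e = 0 ∧ bl M e u = 0 ∧ bl M u u + (1 + s) * c = 0 ∧ U.1 = 1 + siegN M s e u c

namespace OddForm

variable (h : OddForm M s) {e u : Fin n → K} {c : K}
include h

theorem siegN_pow_three (he : bl M e e = 0) (hu : bl M e u = 0) : siegN M s e u c ^ 3 = 0 := by
  refine Matrix.toLin'.injective (LinearMap.ext fun x => ?_)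
  simp only [pow_succ, pow_zero, one_mul, Matrix.toLin'_apply, map_zero, LinearMap.zero_apply, ← mulVec_mulVec,
    siegN_mulVec, bl_add_left, bl_smul_left, he, hu, h.perp_symm hu]
  simp [smul_smul]

theorem siegN_iso (he : bl M e e = 0) (hu : bl M e u = 0) (hc : bl M u u + (1 + s) * c = 0) (x y : Fin n → K) :
    bl M ((1 + siegN M s e u c) *ᵥ x) ((1 + siegN M s e u c) *ᵥ y) = bl M x y := by
  simp only [add_mulVec, one_mulVec, siegN_mulVec, bl_add_left, bl_add_right, bl_smul_left, bl_smul_right, he, hu,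
    h.perp_symm hu, h.symm y e, h.symm y u]
  rcases h.sq with hs | hs <;> subst hs <;> linear_combination bl M x e * bl M y e * hc

theorem exists_sieg [Finite K] (he0 : e ≠ 0) (he : bl M e e = 0) (hu : bl M e u = 0)
    (hc : bl M u u + (1 + s) * c = 0) :
    ∃ U : GL (Fin n) K, Sieg M s U ∧ U.1 = 1 + siegN M s e u c :=
  ⟨(IsNilpotent.isUnit_one_add ⟨3, h.siegN_pow_three he hu⟩).unit,
    ⟨e, u, c, he0, he, hu, hc, IsUnit.unit_spec _⟩, IsUnit.unit_spec _⟩

theorem sieg_mult {U : GL (Fin n) K} (hU : Sieg M s U) : Mult M U 1 := by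
  obtain ⟨e, u, c, -, he, hu, hc, hU⟩ := hU
  show U.1ᵀ * M * U.1 = _
  rw [Units.val_one, one_smul, hU]
  ext i j
  have := h.siegN_iso he hu hc (Pi.single i 1) (Pi.single j 1)
  rw [bl_mulVec] at this
  simpa [bl] using this

theorem sieg_det [Finite K] {U : GL (Fin n) K} (hU : Sieg M s U) : U.1.det = 1 := by
  obtain ⟨e, u, c, he0, he, hu, -, hU⟩ := hU
  haveI : NeZero n := ⟨fun e0 => he0 (funext fun i => by subst e0; exact i.elim0)⟩
  obtain ⟨r, hr⟩ := CharP.exists K
  haveI := Fact.mk ((CharP.char_is_prime_or_zero K r).resolve_right (CharP.char_ne_zero_of_finite K r))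
  have hr3 : 3 ≤ r := by
    rcases Nat.lt_or_ge r 3 with h1 | h1
    · exfalso
      obtain rfl : r = 2 := by have := (Fact.out : r.Prime).two_le; omega
      exact h.two CharTwo.two_eq_zero
    · exact h1
  have h1 : U.1 ^ r = 1 := by
    rw [hU, add_pow_char_of_commute (p := r) (Commute.one_left _), one_pow,
      pow_eq_zero_of_le hr3 (h.siegN_pow_three he hu), add_zero]
  have h2 := congrArg Matrix.det h1
  rw [det_pow, det_one] at h2
  exact sub_eq_zero.1 (pow_eq_zero_iff (Fact.out : r.Prime).ne_zero |>.1 (by rw [sub_pow_char, h2, one_pow, sub_self]))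

variable {F : Type*} [Field F] (j : K →+* F)

omit h in
theorem map_vmv (a b : Fin n → K) : (vecMulVec a b).map j = vecMulVec (j ∘ a) (j ∘ b) := by
  ext i k
  simp [vecMulVec_apply]

omit h in
theorem map_smul' (a : K) (A : Matrix (Fin n) (Fin n) K) : (a • A).map j = j a • A.map j := by
  ext i k; simp

/-- a map fixing the singular points is scalar -/
theorem scalar_of_lines_map [Fintype K] (hn : 3 ≤ n) (g : Matrix (Fin n) (Fin n) F)
    (hline : ∀ e : Fin n → K, e ≠ 0 → bl M e e = 0 → ∃ l : F, g *ᵥ (j ∘ e) = l • (j ∘ e)) :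
    ∃ a : F, g = a • 1 := by
  obtain ⟨e, he0, he⟩ := h.exists_singular hn
  obtain ⟨l, hl⟩ := hline e he0 he
  obtain ⟨z, hze, hzz⟩ := h.exists_hyp he0 he
  have hez : bl M e z = s := by rw [h.symm z e, hze, mul_one]
  have jadd : ∀ v w : Fin n → K, j ∘ (v + w) = j ∘ v + j ∘ w := fun v w => funext fun i => by simp
  have jsmul : ∀ (a : K) (v : Fin n → K), j ∘ (a • v) = j a • (j ∘ v) := fun a v => funext fun i => by simp
  obtain ⟨m, hm⟩ := hline z (fun e1 => by rw [e1, bl_zero_left] at hze; exact zero_ne_one hze) hzz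
  have h20 : (2 : F) ≠ 0 := fun e1 => h.two (j.injective (by rw [map_ofNat, e1, map_zero]))
  have key : ∀ y a, bl M y e = 0 → bl M y z = 0 → y ≠ 0 → a * (1 + s) = -(bl M y y) →
      g *ᵥ (j ∘ y) = l • (j ∘ y) ∧ (a ≠ 0 → m = l) := by
    intro y a hye hyz hy0 ha
    have hey := h.perp_symm hye
    have hzy := h.perp_symm hyz
    have hP : ∀ t : K, t * t = 1 → bl M (e + a • z + t • y) (e + a • z + t • y) = 0 ∧ e + a • z + t • y ≠ 0 := by
      intro t ht
      refine ⟨?_, fun e1 => ?_⟩
      · simp only [bl_add_left, bl_add_right, bl_smul_left, bl_smul_right, he, hzz, hze, hez, hye, hyz, hey, hzy]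
        linear_combination bl M y y * ht + ha
      · have := congrArg (fun w => bl M w z) e1
        simp only [bl_add_left, bl_smul_left, hzz, hez, hyz, bl_zero_left] at this
        exact h.s_ne (by linear_combination this)
    obtain ⟨m1, hm1⟩ := hline _ (hP 1 (mul_one 1)).2 (hP 1 (mul_one 1)).1
    obtain ⟨m2, hm2⟩ := hline _ (hP (-1) (by ring)).2 (hP (-1) (by ring)).1
    simp only [jadd, jsmul, mulVec_add, mulVec_smul, hl, hm, map_neg, map_one] at hm1 hm2
    -- pair with `w`
    have ev : ∀ (t : F) (m' : F), l • (j ∘ e) + j a • m • (j ∘ z) + t • (g *ᵥ (j ∘ y)) =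
        m' • (j ∘ e + j a • (j ∘ z) + t • (j ∘ y)) → ∀ w : Fin n → K,
        t * ((g *ᵥ (j ∘ y)) ⬝ᵥ (j ∘ (M *ᵥ w))) = (m' - l) * j (bl M e w) + (m' - m) * j a * j (bl M z w) +
          m' * t * j (bl M y w) := by
      intro t m' ht w
      have := congrArg (fun v : Fin n → F => v ⬝ᵥ (j ∘ (M *ᵥ w))) ht
      simp only [add_dotProduct, smul_dotProduct, smul_eq_mul, bl, RingHom.map_dotProduct] at this ⊢
      linear_combination this
    have h1 := ev 1 m1 hm1
    have h2 := ev (-1) m2 hm2
    have hsj : j s ≠ 0 := fun e1 => h.s_ne (j.injective (by rw [e1, map_zero]))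
    have hA : m1 + m2 = 2 * l := by
      have a1 := h1 z
      have a2 := h2 z
      simp only [hez, hzz, hyz, map_zero, mul_zero, add_zero] at a1 a2
      refine mul_right_cancel₀ hsj ?_
      linear_combination -(a1 + a2)
    have hC : m1 = m2 := by
      obtain ⟨w, hw⟩ := h.exists_one hy0
      have hyw : bl M y w = s := by rw [h.symm w y, hw, mul_one]
      have a1 := h1 w
      have a2 := h2 w
      rw [hyw] at a1 a2
      have hB : (m1 + m2 - 2 * l) * j (bl M e w) + (m1 + m2 - 2 * m) * j a * j (bl M z w) + (m1 - m2) * j s = 0 := by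
        linear_combination -(a1 + a2)
      have b1 := h1 e
      have b2 := h2 e
      simp only [he, hze, hye, map_zero, map_one, mul_zero, mul_one, zero_add, add_zero] at b1 b2
      have hB' : (m1 + m2 - 2 * m) * j a = 0 := by linear_combination -(b1 + b2)
      rw [hB', hA, sub_self, zero_mul, zero_mul, zero_add, zero_add] at hB
      exact sub_eq_zero.1 ((mul_eq_zero.1 hB).resolve_right hsj)
    have hm1l : m1 = l := mul_left_cancel₀ h20 (by linear_combination hA + hC)
    have hma : (l - m) * j a = 0 := by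
      have b1 := h1 e
      have b2 := h2 e
      simp only [he, hze, hye, map_zero, map_one, mul_zero, mul_one, zero_add, add_zero] at b1 b2
      rw [← hC, hm1l] at b2
      rw [hm1l] at b1
      exact (mul_eq_zero.1 (show (2 : F) * ((l - m) * j a) = 0 by linear_combination -(b1 + b2))).resolve_left h20
    refine ⟨?_, fun ha0 => (sub_eq_zero.1 ((mul_eq_zero.1 hma).resolve_right
      fun e1 => ha0 (j.injective (by rw [e1, map_zero])))).symm⟩
    have h0 : j a * m = l * j a := by linear_combination -hma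
    rw [hm1l, smul_smul, h0, smul_add, smul_add, smul_smul, one_smul, one_smul] at hm1
    exact add_left_cancel hm1
  obtain ⟨u, a, hu0, hue, huz, ha0, ha⟩ := h.exists_mid hn he hze hzz
  obtain ⟨-, hml⟩ := key u a hue huz hu0 ha
  rw [hml ha0] at hm
  refine ⟨l, ?_⟩
  have hall : ∀ v, g *ᵥ (j ∘ v) = l • (j ∘ v) := by
    intro v
    set y := v + (-(s * bl M v z)) • e + (-(bl M v e)) • z with hy
    have hye : bl M y e = 0 := by simp only [hy, bl_add_left, bl_smul_left, he, hze]; ring
    have hyz : bl M y z = 0 := by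
      simp only [hy, bl_add_left, bl_smul_left, hez, hzz]; linear_combination -(bl M v z) * h.s_sq
    have h1 : g *ᵥ (j ∘ y) = l • (j ∘ y) := by
      by_cases hy0 : y = 0
      · rw [hy0, show (j ∘ (0 : Fin n → K)) = 0 from funext fun i => map_zero j, mulVec_zero, smul_zero]
      · rcases h.sq with hs | hs
        · exact (key y (-(bl M y y) / 2) hye hyz hy0
            (by rw [hs, show (1 : K) + 1 = 2 by norm_num, div_mul_cancel₀ _ h.two])).1
        · exact (key y 1 hye hyz hy0 (by rw [h.self_of_alt hs, hs]; ring)).1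
    simp only [hy, jadd, jsmul, mulVec_add, mulVec_smul, hl, hm, smul_add] at h1
    rw [smul_comm (j _) l, smul_comm (j _) l] at h1
    exact add_right_cancel (add_right_cancel h1)
  ext i k
  have := congrFun (hall (Pi.single k 1)) i
  rw [show (j ∘ Pi.single k (1 : K)) = Pi.single k (1 : F) from funext fun m => by
    by_cases hm : m = k <;> simp [Pi.single_apply, hm]] at this
  simpa [Matrix.one_apply, Pi.single_apply] using this

/-- matrices commuting with all Siegel transvections are scalar -/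
theorem scalar_of_comm [Fintype K] (hn : 3 ≤ n) (g : Matrix (Fin n) (Fin n) F)
    (hg : ∀ U : GL (Fin n) K, Sieg M s U → g * U.1.map j = U.1.map j * g) :
    ∃ a : F, g = a • 1 := by
  have hline : ∀ e : Fin n → K, e ≠ 0 → bl M e e = 0 → ∃ l : F, g *ᵥ (j ∘ e) = l • (j ∘ e) := by
    intro e he0 he
    obtain ⟨u, c, hu, hc, hc0, -⟩ := h.exists_u hn he0 he
    obtain ⟨U, hU, hUv⟩ := h.exists_sieg he0 he hu hc
    obtain ⟨U', hU', hUv'⟩ := h.exists_sieg (c := c) he0 he
      (show bl M e ((-1 : K) • u) = 0 by rw [bl_smul_right, hu, mul_zero])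
      (by rw [bl_smul_left, bl_smul_right]; linear_combination hc)
    have h1 : U.1 + U'.1 - (1 + 1 : Matrix (Fin n) (Fin n) K) = (2 * c) • vecMulVec e (M *ᵥ e) := by
      rw [hUv, hUv']
      ext i k
      simp [siegN, vecMulVec_apply, mulVec_smul, mulVec_neg]
      ring
    have h2 := hg U hU
    have h3 := hg U' hU'
    have h4 : g * ((2 * c) • vecMulVec e (M *ᵥ e)).map j = ((2 * c) • vecMulVec e (M *ᵥ e)).map j * g := by
      rw [← h1, Matrix.map_sub _ (map_sub j), Matrix.map_add _ (map_add j), Matrix.mul_sub, Matrix.sub_mul,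
        Matrix.mul_add, Matrix.add_mul, h2, h3]
      simp [Matrix.map_add _ (map_add j), Matrix.map_one _ (map_zero j) (map_one j), Matrix.mul_add, Matrix.add_mul]
    rw [map_smul', Matrix.mul_smul, Matrix.smul_mul, map_vmv] at h4
    have h5 := smul_right_injective _ (fun e1 => mul_ne_zero h.two hc0 (j.injective (by rw [e1, map_zero]))) h4
    obtain ⟨x, hx⟩ := h.exists_one he0
    have h6 := congrArg (fun A : Matrix (Fin n) (Fin n) F => A *ᵥ (j ∘ x)) h5
    simp only [← mulVec_mulVec] at h6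
    rw [show vecMulVec (j ∘ e) (j ∘ (M *ᵥ e)) *ᵥ (j ∘ x) = j (bl M x e) • (j ∘ e) from ?_, hx, map_one, one_smul] at h6
    · exact ⟨(j ∘ (M *ᵥ e)) ⬝ᵥ (g *ᵥ (j ∘ x)), h6.trans (vmv _ _ _)⟩
    · rw [vmv, bl, dotProduct_comm x, RingHom.map_dotProduct]
  exact h.scalar_of_lines_map j hn g hline

omit j in
/-- a map fixing the singular points is scalar -/
theorem scalar_of_lines [Fintype K] (hn : 3 ≤ n) (g : Matrix (Fin n) (Fin n) K)
    (hline : ∀ e : Fin n → K, e ≠ 0 → bl M e e = 0 → ∃ l : K, g *ᵥ e = l • e) :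
    ∃ a : K, g = a • 1 :=
  h.scalar_of_lines_map (RingHom.id K) hn g fun e he0 he => hline e he0 he

/-- a semilinear map fixing all Siegel transvections is linear on `K` -/
theorem field_fix [Fintype K] (hn : 3 ≤ n) (g : GL (Fin n) F) (τ : F ≃+* F)
    (hg : ∀ U : GL (Fin n) K, Sieg M s U → g.1 * (U.1.map j).map τ * (g⁻¹).1 = U.1.map j) (t : K) :
    τ (j t) = j t := by
  obtain ⟨e, he0, he⟩ := h.exists_singular hn
  obtain ⟨u, c, hu, hc, -, hne⟩ := h.exists_u hn he0 he
  -- the linear part
  have key : ∀ a : K, g.1 * ((siegN M s e (a • u) 0).map j).map τ * (g⁻¹).1 = (siegN M s e (a • u) 0).map j := by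
    intro a
    obtain ⟨U, hU, hUv⟩ := h.exists_sieg (u := a • u) (c := a * a * c) he0 he (by rw [bl_smul_right, hu, mul_zero])
      (by rw [bl_smul_left, bl_smul_right]; linear_combination (a * a) * hc)
    obtain ⟨U', hU', hUv'⟩ := h.exists_sieg (u := (-a) • u) (c := a * a * c) he0 he
      (by rw [bl_smul_right, hu, mul_zero])
      (by rw [bl_smul_left, bl_smul_right]; linear_combination (a * a) * hc)
    have h1 : U.1 - U'.1 = (2 : K) • siegN M s e (a • u) 0 := by
      rw [hUv, hUv']
      ext i k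
      simp [siegN, vecMulVec_apply, mulVec_smul, mulVec_neg]
      ring
    have h2 := congrArg₂ (· - ·) (hg U hU) (hg U' hU')
    simp only [← Matrix.sub_mul, ← Matrix.mul_sub, ← Matrix.map_sub _ (map_sub τ), ← Matrix.map_sub _ (map_sub j),
      h1] at h2
    have h20 : (2 : F) ≠ 0 := fun e1 => h.two (j.injective (by rw [map_ofNat, e1, map_zero]))
    have hT : ((j (2 : K)) • (siegN M s e (a • u) 0).map j).map τ = τ (j 2) • ((siegN M s e (a • u) 0).map j).map τ := by
      ext i k; simp
    rw [map_smul', hT, map_ofNat, map_ofNat, Matrix.mul_smul, Matrix.smul_mul] at h2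
    exact smul_right_injective _ h20 h2
  have hlin : siegN M s e (t • u) 0 = t • siegN M s e u 0 := by
    ext i k
    simp [siegN, vecMulVec_apply, mulVec_smul]
    ring
  have h1 := key t
  have h2 := key 1
  rw [one_smul] at h2
  have hT : ((j t) • (siegN M s e u 0).map j).map τ = τ (j t) • ((siegN M s e u 0).map j).map τ := by
    ext i k; simp
  rw [hlin, map_smul', hT, Matrix.mul_smul, Matrix.smul_mul, h2] at h1
  refine smul_left_injective F (fun e1 => ?_) h1
  obtain ⟨x, hx⟩ := h.exists_one he0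
  have e2 : siegN M s e u 0 *ᵥ x = 0 := by
    have : siegN M s e u 0 = 0 := Matrix.map_injective j.injective (e1.trans (Matrix.map_zero _ (map_zero j)).symm)
    rw [this, zero_mulVec]
  rw [siegN_mulVec, hx, one_smul, zero_mul, zero_sub] at e2
  exact hne (s * bl M x u) (by rw [← sub_eq_zero, sub_eq_add_neg, ← neg_smul]; exact e2)

end OddForm

end CfsgLib.FormCl
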